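import Cfsg.Agent.H938.Sax.Num
import Cfsg.Agent.H884.ElFin
import Cfsg.Agent.S2585
import Cfsg.Agent.H390.FactsOrth

/-!
# Groups without elements of order `N`, `NumD q k N` (helper938)

* `POmega^-_{4k}(q)`, `POmega_{4k-1}(q)`, `PSp_{4k-2}(q)` (`q` even);
* stabilisers of nonsingular points in `POmega^+_{4k}(q)` and `POmega_{4k+1}(q)`;
* `O(Q)`, `Q` of minus type, inside `PSp_{4k}(q)`, `q` even.
-/

set_option autoImplicit false
set_option linter.unusedSectionVars false

namespace Cfsg.Agent.H938.Sax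

open Module QuadraticMap Cfsg Cfsg.Geo Cfsg.Agent.LieClassical.OrthCore Cfsg.Agent.H955 Cfsg.Agent.H954.TSing
  Cfsg.Agent.H884.El Cfsg.Agent.LieClassical.OmegaReindex
open Cfsg.Agent.H951 (fx cm Inv)
open scoped MatrixGroups Matrix

universe u v

/-- odd order elements lift to elements of the same order over a kernel of exponent two -/
theorem exists_lift_odd {G H : Type*} [Group G] [Group H] (f : G →* H) (hk : ∀ x, f x = 1 → x ^ 2 = 1)
    {x : G} {N : ℕ} (hN : Odd N) (ho : orderOf (f x) = N) : ∃ n : ℕ, f (x ^ n) = f x ∧ orderOf (x ^ n) = N := by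
  obtain ⟨j, hj⟩ := hN
  have hN0 : 0 < N := by omega
  refine ⟨N + 1, ?_, ?_⟩
  · rw [map_pow, pow_succ, ← ho, pow_orderOf_eq_one, one_mul]
  · have h1 : (x ^ (N + 1)) ^ N = 1 := by
      have h2 : f (x ^ N) = 1 := by rw [map_pow, ← ho, pow_orderOf_eq_one]
      have h3 := hk _ h2
      rw [← pow_mul, show (N + 1) * N = N * 2 * (j + 1) by rw [hj]; ring, pow_mul, pow_mul, h3, one_pow]
    have h4 : orderOf (f (x ^ (N + 1))) ∣ orderOf (x ^ (N + 1)) := orderOf_map_dvd f _
    rw [map_pow, pow_succ, ← ho, pow_orderOf_eq_one, one_mul] at h4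
    rw [ho] at h4
    have h5 := orderOf_dvd_of_pow_eq_one h1
    rw [← ho] at h5 ⊢
    rw [ho] at h5 ⊢
    exact Nat.dvd_antisymm h5 h4

section quad

variable {ι : Type} [Fintype ι] [DecidableEq ι] {F : Type u} [Field F] [Fintype F] {Q : QuadraticForm F (ι → F)}
  {k N : ℕ}

omit [Fintype F] in
theorem orderOf_lin (g : GL ι F) : orderOf (lin g) = orderOf g := by
  have h1 : orderOf ((g : GL ι F) : Matrix ι ι F) = orderOf g := orderOf_units
  rw [← h1]
  exact orderOf_injective (Matrix.toLinAlgEquiv' (R := F) (n := ι)).toRingEquiv.toMonoidHom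
    (Matrix.toLinAlgEquiv' (R := F) (n := ι)).injective _

/-- elements of odd order of a subgroup of `PΩ(Q)` are images of isometries of the same order -/
theorem exists_pre (hD : H390.Lift.Data Q) {M : Subgroup (POmega F (⇑Q))} (hN : Odd N) {m : POmega F (⇑Q)}
    (hm : m ∈ M) (ho : orderOf m = N) : ∃ g ∈ pre (⇑Q) M, orderOf (lin g) = N ∧ ∀ v, Q (lin g v) = Q v := by
  obtain ⟨x, rfl⟩ := QuotientGroup.mk'_surjective (Subgroup.center (Omega F (⇑Q))) m
  obtain ⟨n, h1, h2⟩ := exists_lift_odd (QuotientGroup.mk' (Subgroup.center (Omega F (⇑Q)))) (fun y hy =>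
    H390.Lift.center_sq hD y ((QuotientGroup.eq_one_iff y).1 hy)) hN ho
  have hmem : (((x ^ n : Omega F (⇑Q)) : isometryGroup F (⇑Q)) : GL ι F) ∈ pre (⇑Q) M := by
    rw [mem_pre, h1]
    exact hm
  refine ⟨_, hmem, ?_, fun v => lin_iso pre_le hmem v⟩
  rw [orderOf_lin, Subgroup.orderOf_coe, Subgroup.orderOf_coe, h2]

theorem exists_lin_iso (hD : H390.Lift.Data Q) (hN : Odd N) {m : POmega F (⇑Q)} (ho : orderOf m = N) :
    ∃ g : Module.End F (ι → F), (∀ v, Q (g v) = Q v) ∧ orderOf g = N := by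
  obtain ⟨g, -, h1, h2⟩ := exists_pre hD (M := ⊤) hN (Subgroup.mem_top m) ho
  exact ⟨_, h2, h1⟩

/-- no element of order `N` in small dimension -/
theorem pomega_small (hQ : Nondeg Q) (hD : H390.Lift.Data Q) (hk : 3 ≤ k) (hN : NumD (Nat.card F) k N)
    (hd : Fintype.card ι < 4 * k) (m : POmega F (⇑Q)) : orderOf m ≠ N := by
  intro ho
  obtain ⟨g, h1, h2⟩ := exists_lin_iso hD (hN.odd hk) ho
  have h3 := lin_main hk hN hQ h1 h2 (by rw [finrank_V]; omega)
  rw [finrank_V] at h3
  omega

/-- no element of order `N` in minus type -/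
theorem pomega_minus (hQ : Nondeg Q) (hD : H390.Lift.Data Q) (hP : ¬ IsPlus Q) (hk : 3 ≤ k)
    (hN : NumD (Nat.card F) k N) (hd : Fintype.card ι = 4 * k) (m : POmega F (⇑Q)) : orderOf m ≠ N := by
  intro ho
  obtain ⟨g, h1, h2⟩ := exists_lin_iso hD (hN.odd hk) ho
  have h3 := lin_main hk hN hQ h1 h2 (by rw [finrank_V]; omega)
  exact hP (h3.2 (by rw [finrank_V, hd])).1

/-- a linear map of odd order which fixes a line on which `Q` does not vanish fixes it pointwise -/
theorem fix_of_line {V : Type*} [AddCommGroup V] [Module F V] {R : QuadraticForm F V} {g : Module.End F V}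
    (hg : ∀ v, R (g v) = R v) (hN : Odd N) (hgN : g ^ N = 1) {v : V} (hv : R v ≠ 0)
    (hgv : g v ∈ Submodule.span F {v}) : g v = v := by
  obtain ⟨c, hc⟩ := Submodule.mem_span_singleton.1 hgv
  have h1 : c * c * R v = R v := by
    have := hg v
    rw [← hc, QuadraticMap.map_smul, smul_eq_mul] at this
    exact this
  have h2 : c * c = 1 := by
    have : (c * c - 1) * R v = 0 := by rw [sub_mul, h1, one_mul, sub_self]
    rcases mul_eq_zero.1 this with h | h
    · exact sub_eq_zero.1 h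
    · exact absurd h hv
  have h3 : ∀ n : ℕ, (g ^ n) v = c ^ n • v := by
    intro n
    induction n with
    | zero => rw [pow_zero, pow_zero, one_smul]; rfl
    | succ n ih => rw [pow_succ', Module.End.mul_apply, ih, map_smul, ← hc, smul_smul, ← pow_succ]
  have h4 : c ^ N = 1 := by
    have h5 := h3 N
    rw [hgN] at h5
    have h6 : (c ^ N - 1) • v = 0 := by
      rw [sub_smul, one_smul, ← h5]
      exact sub_self _
    rcases smul_eq_zero.1 h6 with h | h
    · exact sub_eq_zero.1 h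
    · exact absurd (by rw [h]; exact QuadraticMap.map_zero R) hv
  have h5 : c = 1 := by
    obtain ⟨j, hj⟩ := hN
    rw [hj, pow_succ, pow_mul, pow_two, h2, one_pow, one_mul] at h4
    exact h4
  rw [← hc, h5, one_smul]

/-- the stabiliser of a nonsingular point, plus type -/
theorem plus_point_gap (hQ : Nondeg Q) (hD : H390.Lift.Data Q) (hk : 3 ≤ k) (hN : NumD (Nat.card F) k N)
    (hd : Fintype.card ι = 4 * k) {M : Subgroup (POmega F (⇑Q))} {v : ι → F} (hv : Q v ≠ 0)
    (hM : pre (⇑Q) M ≤ subspaceStabilizer (Submodule.span F {v})) (m : POmega F (⇑Q)) (hm : m ∈ M) :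
    orderOf m ≠ N := by
  intro ho
  obtain ⟨g, h1, h2, h3⟩ := exists_pre hD (hN.odd hk) hm ho
  have h4 := lin_main hk hN hQ h3 h2 (by rw [finrank_V]; omega)
  have h5 : lin g v = v := fix_of_line h3 (hN.odd hk) (by rw [← h2]; exact pow_orderOf_eq_one _) hv
    (inv_of_mem (hM h1) v (Submodule.mem_span_singleton_self v))
  have h6 := (h4.2 (by rw [finrank_V, hd])).2 v h5
  exact hv (by rw [h6]; exact QuadraticMap.map_zero Q)

/-- the stabiliser of a nonsingular point, odd dimension -/
theorem odd_point_gap (h2F : (2 : F) ≠ 0) (hQ : Nondeg Q) (hD : H390.Lift.Data Q) (hk : 3 ≤ k)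
    (hN : NumD (Nat.card F) k N)
    (hd : Fintype.card ι = 4 * k + 1) {M : Subgroup (POmega F (⇑Q))} {v : ι → F} (hv : Q v ≠ 0)
    (hM : pre (⇑Q) M ≤ subspaceStabilizer (Submodule.span F {v}))
    (hP : ¬ IsPlus (res Q (perp Q (Submodule.span F {v})))) (m : POmega F (⇑Q)) (hm : m ∈ M) :
    orderOf m ≠ N := by
  intro ho
  obtain ⟨g, h1, h2, h3⟩ := exists_pre hD (hN.odd hk) hm ho
  have hfix : lin g v = v := fix_of_line h3 (hN.odd hk) (by rw [← h2]; exact pow_orderOf_eq_one _) hv
    (inv_of_mem (hM h1) v (Submodule.mem_span_singleton_self v))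
  set W := perp Q (Submodule.span F {v}) with hW
  have hpol : ∀ a b, polar Q (lin g a) (lin g b) = polar Q a b := fun a b => by
    simp only [polar, ← map_add, h3]
  have hinv : Inv (lin g) W := by
    intro w hw u hu
    obtain ⟨c, rfl⟩ := Submodule.mem_span_singleton.1 hu
    have h4 := hw (c • v) hu
    rw [← hpol, map_smul, hfix] at h4
    exact h4
  have hv0 : v ≠ 0 := by
    rintro rfl
    exact hv (QuadraticMap.map_zero Q)
  have hns : Nondeg (res Q (Submodule.span F {v})) := by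
    rw [nondeg_res_iff]
    intro x hx hxy
    obtain ⟨c, rfl⟩ := Submodule.mem_span_singleton.1 hx
    have h4 := hxy v (Submodule.mem_span_singleton_self v)
    rw [polar_smul_left, polar_self, smul_eq_mul, two_nsmul, ← two_mul] at h4
    rcases mul_eq_zero.1 h4 with h | h
    · rw [h, zero_smul]
    · exact absurd ((mul_eq_zero.1 h).resolve_left h2F) hv
  have hnW : Nondeg (res Q W) := nondeg_perp hQ hns
  have hdW : finrank F W = 4 * k := by
    have := finrank_add_perp hQ (Submodule.span F {v})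
    rw [finrank_span_singleton (K := F) hv0, finrank_V, hd, ← hW] at this
    omega
  have hcompl := isCompl_perp hns
  have horder : orderOf ((lin g).restrict hinv) = N := by
    rw [← h2]
    apply Nat.dvd_antisymm
    · apply orderOf_dvd_of_pow_eq_one
      refine LinearMap.ext fun w => Subtype.ext ?_
      rw [restrict_pow_coe, pow_orderOf_eq_one]
      rfl
    · apply orderOf_dvd_of_pow_eq_one
      refine LinearMap.ext fun x => ?_
      have hx : x ∈ Submodule.span F {v} ⊔ W := by rw [hcompl.sup_eq_top]; trivial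
      obtain ⟨a, ha, b, hb, rfl⟩ := Submodule.mem_sup.1 hx
      obtain ⟨c, rfl⟩ := Submodule.mem_span_singleton.1 ha
      rw [map_add, map_smul, H951.pow_fx hfix]
      have h5 := restrict_pow_coe hinv (orderOf ((lin g).restrict hinv)) ⟨b, hb⟩
      rw [pow_orderOf_eq_one] at h5
      change c • v + _ = c • v + b
      rw [← h5]
      rfl
  have h4 := lin_main hk hN hnW (g := (lin g).restrict hinv) (fun w => h3 w) horder (by rw [hdW]; omega)
  exact hP (h4.2 hdW).1

end quad

/-! ### standard forms -/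

section std

variable {F : Type u} [Field F] [Fintype F] {k N : ℕ}

theorem ominus_no (hk : 3 ≤ k) (hN : NumD (Nat.card F) k N) {a b : F}
    (hab : ∀ z₁ z₂ : F, z₁ ^ 2 + a * z₁ * z₂ + b * z₂ ^ 2 = 0 → z₁ = 0 ∧ z₂ = 0)
    (m : POmega F (quadFormMinus (2 * k - 1) F a b)) : orderOf m ≠ N := by
  have h : ∀ m : POmega F (⇑(quadMinus (2 * k - 1) F a b)), orderOf m ≠ N := fun m =>
    pomega_minus (nondeg_iff.2 (quadMinus_nondegenerate hab)) (data_minus (by omega) hab) (not_isPlus_quadMinus hab)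
      hk hN (by rw [card_minus (by omega)]; omega) m
  rw [coe_quadMinus] at h
  exact h m

theorem oodd_no (h2 : (2 : F) ≠ 0) (hk : 3 ≤ k) (hN : NumD (Nat.card F) k N)
    (m : POmega F (quadFormOdd (2 * k - 1) F)) : orderOf m ≠ N := by
  have h : ∀ m : POmega F (⇑(quadOdd (2 * k - 1) F)), orderOf m ≠ N := fun m =>
    pomega_small (nondeg_iff.2 (quadOdd_nondegenerate h2)) (data_odd (by omega) h2)
      hk hN (by rw [card_odd]; omega) m
  rw [coe_quadOdd] at h
  exact h m

theorem nondeg_of_symp {n : ℕ} {Q : QuadraticForm F (Fin n ⊕ Fin n → F)}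
    (hQ1 : ∀ u v : Fin n ⊕ Fin n → F, QuadraticMap.polar ⇑Q u v = Cfsg.sympForm n F u v) : Nondeg Q := by
  intro x hx
  have h1 : ∀ w : Fin n ⊕ Fin n → F, x ⬝ᵥ w = 0 := by
    intro w
    have h2 := hx (Matrix.J (Fin n) F *ᵥ (-w))
    rw [hQ1, Cfsg.sympForm, Matrix.mulVec_mulVec, Matrix.J_squared, Matrix.neg_mulVec, Matrix.one_mulVec,
      neg_neg] at h2
    exact h2
  exact dotProduct_eq_zero_iff.1 h1

/-- isometries of the symplectic form preserve a quadratic form: order `N` needs dimension `≥ 4k` -/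
theorem sp_le [CharP F 2] {n : ℕ} (hk : 3 ≤ k) (hN : NumD (Nat.card F) k N) (hn : n < 2 * k)
    (A : Matrix.symplecticGroup (Fin n) F) : orderOf A ≠ N := by
  intro ho
  obtain ⟨Q, hQ1, hQ2⟩ := Cfsg.Agent.S2585.result A
  have hQ : Nondeg Q := nondeg_of_symp hQ1
  have h1 : orderOf (Matrix.toLin' (A : Matrix (Fin n ⊕ Fin n) (Fin n ⊕ Fin n) F)) = N := by
    rw [← ho]
    have h2 : orderOf (A : Matrix (Fin n ⊕ Fin n) (Fin n ⊕ Fin n) F) = orderOf A := orderOf_submonoid A
    rw [← h2]
    exact orderOf_injective (Matrix.toLinAlgEquiv' (R := F) (n := Fin n ⊕ Fin n)).toRingEquiv.toMonoidHom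
      (Matrix.toLinAlgEquiv' (R := F) (n := Fin n ⊕ Fin n)).injective _
  have h3 := lin_main hk hN hQ (g := Matrix.toLin' (A : Matrix (Fin n ⊕ Fin n) (Fin n ⊕ Fin n) F))
    (fun v => by rw [Matrix.toLin'_apply]; exact hQ2 v) h1 (by
      rw [Module.finrank_fintype_fun_eq_card, Fintype.card_sum, Fintype.card_fin]; omega)
  rw [Module.finrank_fintype_fun_eq_card, Fintype.card_sum, Fintype.card_fin] at h3
  omega

theorem psp_no [CharP F 2] (hk : 3 ≤ k) (hN : NumD (Nat.card F) k N) (m : PSp (2 * k - 1) F) : orderOf m ≠ N := by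
  intro ho
  obtain ⟨A, hA⟩ := (Cfsg.Agent.H403.mem_range_PSp (F := F) (n := 2 * k - 1) (by omega) N).1 ⟨m, ho⟩
  exact sp_le hk hN (by omega) A hA

end std

end Cfsg.Agent.H938.Sax
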