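import Cfsg.Agent.H938.Sax.OrthGap

/-!
# Geometric rows of the orthogonal groups: `OrdGap` or residual (helper938)
-/

set_option autoImplicit false

namespace Cfsg.Agent.H938.Sax

open Module QuadraticMap Cfsg Cfsg.Geo Cfsg.Agent.LieClassical.OrthCore Cfsg.Agent.H955 Cfsg.Agent.H954.TSing
  Cfsg.Agent.H884.El Cfsg.Agent.LieClassical.OmegaReindex
open scoped MatrixGroups Matrix

universe u v

variable {F : Type u} [Field F] [Fintype F]

/-- minus type -/
theorem minus_row {m : ℕ} (hm : 4 ≤ m) {a b : F}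
    (hab : ∀ z₁ z₂ : F, z₁ ^ 2 + a * z₁ * z₂ + b * z₂ ^ 2 = 0 → z₁ = 0 ∧ z₂ = 0)
    (M : Subgroup (POmega F (quadFormMinus (m - 1) F a b))) :
    PGap (POmega F (quadFormMinus (m - 1) F a b)) M ∨
      InOrthogonalResidualClass (pre (quadFormMinus (m - 1) F a b) M) :=
  geo_minus hm hab M

/-- plus type, `m ≠ 4` -/
theorem plus_row {m : ℕ} (hm : 4 ≤ m) (hm4 : m ≠ 4) (M : Subgroup (POmega F (quadFormPlus m F))) :
    OrdGap (POmega F (quadFormPlus m F)) M ∨ InOrthogonalResidualClass (pre (quadFormPlus m F) M) := by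
  have h : ∀ M : Subgroup (POmega F (⇑(quadPlus m F))),
      OrdGap (POmega F (⇑(quadPlus m F))) M ∨ InOrthogonalResidualClass (pre (⇑(quadPlus m F)) M) := by
    intro M
    rcases plus_miss hm (card_plus m) (nondeg_iff.2 quadPlus_nondegenerate) (isPlus_quadPlus m)
      (fun h => hm4 h.2) (data_plus hm) M with h | h | ⟨⟨k, hk⟩, v, hv, hMv⟩
    · exact Or.inl (PGap.ordGap h)
    · exact Or.inr h
    · left
      have hk3 : 3 ≤ k := by omega
      obtain ⟨N, hN⟩ := exists_numD (q := Nat.card F) Finite.one_lt_card hk3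
      have h1 := exists_plus_numD hk3 hN
      have h2 : ∃ g : POmega F (⇑(quadPlus m F)), orderOf g = N := by
        rw [coe_quadPlus, show m = 2 * k by omega]
        exact h1
      obtain ⟨g, hg⟩ := h2
      refine ordGap_of hg fun x hx => ?_
      exact plus_point_gap (nondeg_iff.2 quadPlus_nondegenerate) (data_plus hm) hk3 hN
        (by rw [card_plus]; omega) hv hMv x hx
  rw [coe_quadPlus] at h
  exact h M

/-- odd dimension, `m ≠ 4` -/
theorem odd_row {m : ℕ} (hm : 3 ≤ m) (hm4 : m ≠ 4) (hodd : Odd (Fintype.card F))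
    (M : Subgroup (POmega F (quadFormOdd m F))) :
    OrdGap (POmega F (quadFormOdd m F)) M ∨ InOrthogonalResidualClass (pre (quadFormOdd m F) M) := by
  have h2 := H390.two_ne_zero_of_odd hodd
  have h : ∀ M : Subgroup (POmega F (⇑(quadOdd m F))),
      OrdGap (POmega F (⇑(quadOdd m F))) M ∨ InOrthogonalResidualClass (pre (⇑(quadOdd m F)) M) := by
    intro M
    rcases odd_miss h2 hm (card_odd m) (nondeg_iff.2 (quadOdd_nondegenerate h2)) (data_odd hm h2) M with
      h | h | ⟨⟨k, hk⟩, v, hv, hMv, hP⟩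
    · exact Or.inl (PGap.ordGap h)
    · exact Or.inr h
    · left
      have hk3 : 3 ≤ k := by omega
      obtain ⟨N, hN⟩ := exists_numD (q := Nat.card F) Finite.one_lt_card hk3
      have h1 := exists_odd_numD h2 hk3 hN
      have h2' : ∃ g : POmega F (⇑(quadOdd m F)), orderOf g = N := by
        rw [coe_quadOdd, show m = 2 * k by omega]
        exact h1
      obtain ⟨g, hg⟩ := h2'
      refine ordGap_of hg fun x hx => ?_
      exact odd_point_gap h2 (nondeg_iff.2 (quadOdd_nondegenerate h2)) (data_odd hm h2) hk3 hN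
        (by rw [card_odd]; omega) hv hMv hP x hx
  rw [coe_quadOdd] at h
  exact h M

end Cfsg.Agent.H938.Sax
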