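import Cfsg.Agent.H938.Sax.FourA
import Cfsg.Agent.H901.SaxSpRow

/-!
# Geometric subgroups of `PSp_{2m}(q)`, `m ≥ 3`: `OrdGap` or residual (helper938)
-/

set_option autoImplicit false

namespace Cfsg.Agent.H938.Sax

open Module QuadraticMap Cfsg Cfsg.Geo Cfsg.Agent.LieClassical.OrthCore Cfsg.Agent.H955 Cfsg.Agent.H954.TSing
  Cfsg.Agent.H884.El Cfsg.Agent.LieClassical.OmegaReindex
open Cfsg.Agent.H951 (fx cm Inv)
open Cfsg.Agent.ClassicalGeometry.SympBasic Cfsg.Agent.H876 Cfsg.Agent.H931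
open scoped MatrixGroups Matrix

universe u

variable {F : Type u} [Field F] [Fintype F] {m k N : ℕ}

omit [Fintype F] in
/-- elements of odd order of `R` are images of matrices of the same order -/
theorem exists_pre_sp {R : Subgroup (PSp m F)} (hN : Odd N) {x : PSp m F}
    (hm : x ∈ R) (ho : orderOf x = N) :
    ∃ g ∈ Cfsg.Agent.H262.El.pre R, orderOf (lin g) = N := by
  obtain ⟨A, rfl⟩ := QuotientGroup.mk'_surjective (Subgroup.center (Matrix.symplecticGroup (Fin m) F)) x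
  obtain ⟨n, h1, h2⟩ := exists_lift_odd (QuotientGroup.mk' (Subgroup.center (Matrix.symplecticGroup (Fin m) F)))
    (fun y hy => by
      have h3 := (QuotientGroup.eq_one_iff y).1 hy
      refine Subtype.ext ?_
      rcases Cfsg.Agent.ClassicalGeometry.SympInvolutions.center_eq h3 with h | h
      · rw [SubmonoidClass.coe_pow, h, one_pow]; rfl
      · rw [SubmonoidClass.coe_pow, h, neg_one_sq]; rfl) hN ho
  refine ⟨spToGL m F (A ^ n), ⟨A ^ n, ?_, rfl⟩, ?_⟩
  · change (QuotientGroup.mk' (Subgroup.center (Matrix.symplecticGroup (Fin m) F))) (A ^ n) ∈ R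
    rw [h1]
    exact hm
  · rw [orderOf_lin, orderOf_injective (spToGL m F) Cfsg.Agent.H262.El.spToGL_injective, h2]

/-- `O^-_{4k}(q)` in `Sp_{4k}(q)`, `q` even -/
theorem ominus_sp_gap (hk : 3 ≤ k) (hm : m = 2 * k) (hN : NumD (Nat.card F) k N) {R : Subgroup (PSp m F)}
    {Q : QuadraticForm F (Fin m ⊕ Fin m → F)}
    (hpol : ∀ u v, QuadraticMap.polar Q u v = sympForm m F u v) (hP : ¬ IsPlus Q)
    (hR : Cfsg.Agent.H262.El.pre R ≤ Cfsg.isometryGroup F (⇑Q)) (x : PSp m F) (hx : x ∈ R) : orderOf x ≠ N := by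
  intro ho
  obtain ⟨g, h1, h2⟩ := exists_pre_sp (hN.odd hk) hx ho
  have hfin : finrank F (Fin m ⊕ Fin m → F) = 4 * k := by
    rw [Module.finrank_fintype_fun_eq_card, Fintype.card_sum, Fintype.card_fin]; omega
  have h3 := lin_main hk hN (nondeg_of_symp hpol) (fun v => lin_iso hR h1 v) h2 (by rw [hfin]; omega)
  exact hP (h3.2 hfin).1

/-- **`PSp_{2m}(q)`, `m ≥ 3`.** -/
theorem psp_row (hm : 3 ≤ m) (h32 : ¬ (m = 3 ∧ Fintype.card F = 2)) (h4 : ¬ (m = 4 ∧ ¬ Odd (Fintype.card F)))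
    {R : Subgroup (PSp m F)} (hR : R ≠ ⊤) :
    OrdGap (PSp m F) R ∨ InSymplecticResidualClass (Cfsg.Agent.H262.El.pre R) := by
  rcases Cfsg.Agent.H901.SaxSp.psp_cases (by omega) (fun h => by omega) h32 (fun h => by omega) hR with
    h | h | ⟨⟨k, hk⟩, hq, Q, hpol, hP, hH⟩ | ⟨h, -⟩
  · exact Or.inl h.ordGap
  · exact Or.inr h
  · left
    have hk3 : 3 ≤ k := by
      by_contra hcon
      exact h4 ⟨by omega, hq⟩
    have h2 : CharP F 2 := by
      obtain ⟨p, f, hp, hf, hpf⟩ := exists_char F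
      rw [Nat.card_eq_fintype_card] at hpf
      have := charP_of hp hf hpf
      have hp2 : p = 2 := by
        by_contra hne
        exact hq (by rw [hpf]; exact (hp.odd_of_ne_two hne).pow)
      rwa [hp2] at this
    obtain ⟨N, hN⟩ := exists_numD (q := Nat.card F) Finite.one_lt_card hk3
    have h1 := exists_psp_numD hk3 hN
    have hm2 : m = 2 * k := by omega
    subst hm2
    obtain ⟨g, hg⟩ := h1
    exact ordGap_of hg fun x hx => ominus_sp_gap hk3 rfl hN hpol hP hH x hx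
  · omega

end Cfsg.Agent.H938.Sax
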