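import Cfsg.Agent.H938.Sax.Ord
import Cfsg.Agent.H938.Sax.SpRow
import Cfsg.Agent.H951.SBridge
import Cfsg.Agent.H424.OrthElt
import Cfsg.Agent.S0814
import Cfsg.Agent.S0816

/-!
# `PΩ⁺_8(q)`, `q ≥ 4`: every proper subgroup misses an element order (helper938)

The order is `q ^ 4 - 1` (`q` even), `(q ^ 4 - 1) / 4` (`q` odd); elements of the critical subgroups have orders
dividing `lcm(q ^ 2 + 1, q ± 1)`.
-/

set_option autoImplicit false
set_option linter.unusedSectionVars false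

namespace Cfsg.Agent.H938.Sax

open Module QuadraticMap Cfsg Cfsg.Geo Cfsg.Agent.LieClassical.OrthCore Cfsg.Agent.H955 Cfsg.Agent.H954.TSing
  Cfsg.Agent.H884.El Cfsg.Agent.LieClassical.OmegaReindex Cfsg.Agent.OrdDiv Cfsg.Agent.H436 Cfsg.Agent.H915.GN
  Cfsg.Agent.H264.GN Cfsg.Agent.ClassicalGeometry.SympBasic Cfsg.Agent.H931
open Cfsg.Agent.H264.FKS hiding lin
open Cfsg.Agent.H876 (spToGL)
open Cfsg.Agent.H951 (fx cm Inv Frm Isom Nd)
open Cfsg.Agent.H938.Sax.Ord (Lcm)
open scoped MatrixGroups Matrix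

universe u v

/-! ### numbers -/

section num

variable {q i : ℕ}

/-- the missing order -/
def N0 (q : ℕ) : ℕ := if Odd q then (q ^ 4 - 1) / 4 else q ^ 4 - 1

theorem sq_sub (hq : 1 ≤ q) : q ^ 2 - 1 = (q - 1) * (q + 1) := by
  obtain ⟨k, rfl⟩ := Nat.exists_eq_add_of_le hq
  rw [show (1 + k) ^ 2 = k * (k + 2) + 1 by ring, Nat.add_sub_cancel, Nat.add_sub_cancel_left]
  ring

theorem four_sub (hq : 1 ≤ q) : q ^ 4 - 1 = (q ^ 2 + 1) * ((q - 1) * (q + 1)) := by
  obtain ⟨k, rfl⟩ := Nat.exists_eq_add_of_le hq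
  rw [show (1 + k) ^ 4 = ((1 + k) ^ 2 + 1) * (k * (1 + k + 1)) + 1 by ring, Nat.add_sub_cancel,
    Nat.add_sub_cancel_left]

theorem four_dvd (ho : Odd q) : 4 ∣ q ^ 4 - 1 := by
  have hq : 1 ≤ q := ho.pos
  rw [four_sub hq]
  obtain ⟨k, rfl⟩ := ho
  exact Dvd.dvd.mul_left ⟨k * (k + 1), by rw [Nat.add_sub_cancel]; ring⟩ _

theorem dvd_of_lcm {X : Type*} [Group X] {x : X} {c : ℕ} (hc : c = if Odd q then 2 else 1)
    (hq : 2 ≤ q) (ho : orderOf x = N0 q) (h : Lcm q (x ^ i)) : (q + 1) ∣ c * i ∨ (q - 1) ∣ c * i := by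
  -- `N0 * c ^ 2 = q ^ 4 - 1`
  have hN : N0 q * (c * c) = (q ^ 2 + 1) * ((q - 1) * (q + 1)) := by
    rw [← four_sub (by omega), hc, N0]
    split_ifs with h1
    · exact Nat.div_mul_cancel (four_dvd h1)
    · ring
  have key : ∀ b b' : ℕ, 0 < b → (q - 1) * (q + 1) = b * b' → (Odd q → 2 ∣ b) →
      (x ^ i) ^ Nat.lcm (q ^ 2 + 1) b = 1 → b' ∣ c * i := by
    intro b b' hb0 hbb hb h1
    have h2 : N0 q ∣ i * Nat.lcm (q ^ 2 + 1) b := by
      rw [← ho]
      exact orderOf_dvd_of_pow_eq_one (by rw [pow_mul]; exact h1)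
    have h3 : Nat.lcm (q ^ 2 + 1) b * c ∣ (q ^ 2 + 1) * b := by
      rw [← Nat.gcd_mul_lcm (q ^ 2 + 1) b, mul_comm]
      refine Nat.mul_dvd_mul_right ?_ _
      rw [hc]
      split_ifs with h4
      · refine Nat.dvd_gcd ?_ (hb h4)
        exact ((h4.pow (n := 2)).add_odd odd_one).two_dvd
      · exact one_dvd _
    have h4 : (q ^ 2 + 1) * (b * b') ∣ (q ^ 2 + 1) * (b * (c * i)) := by
      rw [← hbb, ← hN]
      calc N0 q * (c * c) ∣ i * Nat.lcm (q ^ 2 + 1) b * (c * c) := Nat.mul_dvd_mul_right h2 _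
        _ = (Nat.lcm (q ^ 2 + 1) b * c) * (i * c) := by ring
        _ ∣ ((q ^ 2 + 1) * b) * (i * c) := Nat.mul_dvd_mul_right h3 _
        _ = (q ^ 2 + 1) * (b * (c * i)) := by ring
    exact Nat.dvd_of_mul_dvd_mul_left hb0 (Nat.dvd_of_mul_dvd_mul_left (by positivity) h4)
  rcases h with h | h
  · exact Or.inl (key (q - 1) (q + 1) (by omega) rfl (fun ho => (ho.tsub_odd odd_one).two_dvd) h)
  · exact Or.inr (key (q + 1) (q - 1) (by omega) (mul_comm _ _) (fun ho => (ho.add_odd odd_one).two_dvd) h)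

/-- the geometric case -/
theorem not_lcm {X : Type*} [Group X] {x : X} (hq : 4 ≤ q) (ho : orderOf x = N0 q) : ¬ Lcm q x := by
  intro h
  have h1 := dvd_of_lcm (i := 1) rfl (by omega) ho (by rwa [pow_one])
  have hc : (if Odd q then 2 else 1) * 1 ≤ 2 := by split_ifs <;> norm_num
  have hc0 : 0 < (if Odd q then 2 else 1) * 1 := by split_ifs <;> norm_num
  rcases h1 with h1 | h1
  · have := Nat.le_of_dvd hc0 h1
    omega
  · have := Nat.le_of_dvd hc0 h1
    omega

theorem lt_three_pow (f : ℕ) (hf : 3 ≤ f) : 4 * f + 1 < 3 ^ f := by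
  induction f, hf using Nat.le_induction with
  | base => norm_num
  | succ n hn ih => rw [pow_succ]; omega

/-- the residual case -/
theorem residual_num {p f : ℕ} (hp : p.Prime) (hf : 1 ≤ f) (hq : 4 ≤ p ^ f) {X : Type*} [Group X] {x : X}
    (ho : orderOf x = N0 (p ^ f)) (hi : i ∣ Nat.gcd 2 (p ^ f - 1) * f) (h : Lcm (p ^ f) (x ^ i)) :
    p ^ f % 4 = 1 ∧ i = Nat.gcd 2 (p ^ f - 1) * f := by
  have h1 := dvd_of_lcm rfl (by omega) ho h
  have hi0 : 0 < i := by
    rcases Nat.eq_zero_or_pos i with rfl | h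
    · rw [zero_dvd_iff] at hi
      rcases Nat.mul_eq_zero.1 hi with h | h
      · have := Nat.gcd_pos_of_pos_left (p ^ f - 1) (show 0 < 2 by norm_num)
        omega
      · omega
    · exact h
  rcases hp.eq_two_or_odd' with rfl | hodd
  · have he : ¬ Odd (2 ^ f) := by
      rw [Nat.not_odd_iff_even]
      exact (even_two.pow_of_ne_zero (by omega))
    rw [if_neg he, one_mul] at h1
    have hg : Nat.gcd 2 (2 ^ f - 1) = 1 := by
      rw [← Nat.coprime_iff_gcd_eq_one, Nat.coprime_two_left]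
      exact Nat.Even.sub_odd (by omega) (Nat.not_odd_iff_even.1 he) odd_one
    rw [hg, one_mul] at hi
    have h2 := Nat.le_of_dvd (by omega) hi
    have h3 : 2 ^ f - 1 ≤ i := by
      rcases h1 with h1 | h1
      · have := Nat.le_of_dvd hi0 h1; omega
      · exact Nat.le_of_dvd hi0 h1
    have h4 : ∀ n, 2 ≤ n → n + 1 < 2 ^ n := by
      intro n hn
      induction n, hn using Nat.le_induction with
      | base => norm_num
      | succ n hn ih => rw [pow_succ]; omega
    have hf2 : 2 ≤ f := by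
      by_contra hlt
      obtain rfl : f = 1 := by omega
      norm_num at hq
    have := h4 f hf2
    omega
  · have ho' : Odd (p ^ f) := hodd.pow
    rw [if_pos ho'] at h1
    have hg : Nat.gcd 2 (p ^ f - 1) = 2 := Nat.gcd_eq_left (ho'.tsub_odd odd_one).two_dvd
    rw [hg] at hi ⊢
    have h2 := Nat.le_of_dvd (by omega) hi
    have h3 : p ^ f - 1 ≤ 2 * i := by
      rcases h1 with h1 | h1
      · have := Nat.le_of_dvd (by omega) h1; omega
      · exact Nat.le_of_dvd (by omega) h1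
    have hp3 : 3 ≤ p := by
      have := hp.two_le
      obtain ⟨k, hk⟩ := hodd
      omega
    have hf3 : f < 3 := by
      by_contra hge
      have h5 := lt_three_pow f (by omega)
      have h6 := Nat.pow_le_pow_left hp3 f
      omega
    interval_cases f
    · rw [pow_one] at *
      have : p = 5 := by
        have : p ≤ 5 := by omega
        obtain ⟨k, hk⟩ := hodd
        omega
      subst this
      have : i = 1 ∨ i = 2 := by omega
      rcases this with rfl | rfl
      · omega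
      · omega
    · have hp3' : p = 3 := by
        by_contra hne
        have h5 : 5 ≤ p := by
          obtain ⟨k, hk⟩ := hodd
          omega
        have := Nat.pow_le_pow_left h5 2
        omega
      subst hp3'
      norm_num at h1 h3 hi ⊢
      have h6 : i ≤ 4 := by omega
      have h7 : 4 ≤ i := by omega
      omega

end num

/-! ### lifts -/

section lift

variable {F : Type u} [Field F] [Fintype F] {r : ℕ}

omit [Fintype F] in
/-- semisimple lifts over a kernel of exponent two -/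
theorem exists_lift_ss {G H : Type*} [Group G] [Group H] (f : G →* H) (hk : ∀ x, f x = 1 → x ^ 2 = 1)
    {x : G} (h : ((orderOf (f x) : ℕ) : F) ≠ 0) :
    ∃ n m : ℕ, f (x ^ n) = f x ∧ (m : F) ≠ 0 ∧ (x ^ n) ^ m = 1 := by
  by_cases h2 : (2 : F) = 0
  · have hodd : Odd (orderOf (f x)) := by
      rw [← Nat.not_even_iff_odd]
      rintro ⟨k, hk⟩
      apply h
      rw [hk, Nat.cast_add, ← two_mul, h2, zero_mul]
    obtain ⟨n, h3, h4⟩ := exists_lift_odd f hk hodd rfl
    exact ⟨n, _, h3, h, by rw [← h4, pow_orderOf_eq_one]⟩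
  · refine ⟨1, orderOf (f x) * 2, by rw [pow_one], ?_, ?_⟩
    · rw [Nat.cast_mul]
      exact mul_ne_zero h (by exact_mod_cast h2)
    · rw [pow_one, pow_mul]
      exact hk _ (by rw [map_pow, pow_orderOf_eq_one])

omit [Fintype F] in
theorem frm_polar {V : Type*} [AddCommGroup V] [Module F V] (Q : QuadraticForm F V) :
    Frm (RingHom.id F) 1 (polar Q) :=
  ⟨fun u v w => polar_add_left Q u v w, fun a u v => by rw [polar_smul_left, smul_eq_mul],
    fun u v => by rw [polar_comm, one_mul]; rfl, fun _ => rfl, one_ne_zero⟩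

omit [Fintype F] in
theorem isom_polar {V : Type*} [AddCommGroup V] [Module F V] {Q : QuadraticForm F V} {g : Module.End F V}
    (hg : ∀ v, Q (g v) = Q v) : Isom (polar Q) g := fun a b => by
  simp only [polar, ← map_add, hg]

omit [Fintype F] in
theorem nd_polar {V : Type*} [AddCommGroup V] [Module F V] {Q : QuadraticForm F V} (hQ : Nondeg Q) :
    Nd (polar Q) (⊤ : Submodule F V) := by
  intro u _ hu
  by_contra hn
  push Not at hn
  exact hu (hQ u fun v => hn v trivial)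

theorem pp_dvd (hr : PP (Nat.card F) 4 r) : r ∣ Fintype.card F ^ 2 + 1 := by
  have h := dvd_pow_add_one (q := Nat.card F) Finite.card_pos (e := 2) (by omega) hr
  rwa [Nat.card_eq_fintype_card] at h

theorem lcm_of_injective {G H : Type*} [Group G] [Monoid H] (f : G →* H) (hf : Function.Injective f) {x : G} {q : ℕ}
    (h : Lcm q (f x)) : Lcm q x := by
  refine h.imp (fun h => hf ?_) (fun h => hf ?_) <;> rw [map_pow, h, map_one]

theorem lcm_map {G H : Type*} [Monoid G] [Monoid H] (f : G →* H) {x : G} {q : ℕ}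
    (h : Lcm q x) : Lcm q (f x) := by
  refine h.imp (fun h => ?_) (fun h => ?_) <;> rw [← map_pow, h, map_one]

theorem lcm_lin {ι : Type} [Fintype ι] [DecidableEq ι] {q : ℕ} {g : GL ι F} (h : Lcm q (lin g)) : Lcm q g := by
  have key : ∀ n, lin g ^ n = 1 → g ^ n = 1 := fun n hn => by
    have h1 := orderOf_dvd_of_pow_eq_one hn
    rw [orderOf_lin] at h1
    exact orderOf_dvd_iff_pow_eq_one.1 h1
  exact h.imp (key _) (key _)

theorem lin_pow_eq {ι : Type} [Fintype ι] [DecidableEq ι] {g : GL ι F} {n : ℕ} (h : g ^ n = 1) : lin g ^ n = 1 := by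
  rw [← orderOf_dvd_iff_pow_eq_one, orderOf_lin, orderOf_dvd_iff_pow_eq_one]
  exact h

/-- elements of `PSp_6(q)` -/
theorem lcm_psp (hr : PP (Nat.card F) 4 r) {y : PSp 3 F} (hry : r ∣ orderOf y) (hy : ((orderOf y : ℕ) : F) ≠ 0) :
    Lcm (Fintype.card F) y := by
  have := Fact.mk hr.prime
  obtain ⟨A, rfl⟩ := QuotientGroup.mk'_surjective (Subgroup.center (Matrix.symplecticGroup (Fin 3) F)) y
  obtain ⟨n, m, h1, h2, h3⟩ := exists_lift_ss (F := F)
    (QuotientGroup.mk' (Subgroup.center (Matrix.symplecticGroup (Fin 3) F)))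
    (fun y hy => by
      have h3 := (QuotientGroup.eq_one_iff y).1 hy
      refine Subtype.ext ?_
      rcases Cfsg.Agent.ClassicalGeometry.SympInvolutions.center_eq h3 with h | h
      · rw [SubmonoidClass.coe_pow, h, one_pow]; rfl
      · rw [SubmonoidClass.coe_pow, h, neg_one_sq]; rfl) hy
  rw [← h1] at hry ⊢
  refine lcm_map _ (lcm_of_injective (spToGL 3 F) Cfsg.Agent.H262.El.spToGL_injective (lcm_lin ?_))
  have hiso : Isom (sympForm 3 F) (lin (spToGL 3 F (A ^ n))) := fun u v =>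
    sympForm_mulVec (A ^ n).2 u v
  have hV : Nd (sympForm 3 F) (⊤ : Submodule F (Fin 3 ⊕ Fin 3 → F)) := H951.nd_symp 3
  refine Ord.six (r := r) (m := m) (ord_eq hr) (pp_dvd hr) (H951.frm_symp 3) hV (hr.ne0 (by omega)) hiso h2 ?_ ?_ ?_
  · refine lin_pow_eq ?_
    rw [← map_pow, h3, map_one]
  · rw [orderOf_lin, orderOf_injective (spToGL 3 F) Cfsg.Agent.H262.El.spToGL_injective]
    exact hry.trans (orderOf_map_dvd _ _)
  · rw [Module.finrank_fintype_fun_eq_card, Fintype.card_sum, Fintype.card_fin]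

section quad

variable {ι : Type} [Fintype ι] [DecidableEq ι] {Q : QuadraticForm F (ι → F)}

/-- semisimple lifts to isometries -/
theorem exists_pre_ss (hD : H390.Lift.Data Q) {M : Subgroup (POmega F (⇑Q))} {m : POmega F (⇑Q)}
    (hm : m ∈ M) (ho : ((orderOf m : ℕ) : F) ≠ 0) :
    ∃ g ∈ pre (⇑Q) M, (∀ v, Q (lin g v) = Q v) ∧ (∃ k : ℕ, (k : F) ≠ 0 ∧ (lin g) ^ k = 1) ∧
      orderOf m ∣ orderOf (lin g) ∧ ∀ q, Lcm q (lin g) → Lcm q m := by
  obtain ⟨x, rfl⟩ := QuotientGroup.mk'_surjective (Subgroup.center (Omega F (⇑Q))) m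
  obtain ⟨n, k, h1, h2, h3⟩ := exists_lift_ss (F := F) (QuotientGroup.mk' (Subgroup.center (Omega F (⇑Q))))
    (fun y hy => H390.Lift.center_sq hD y ((QuotientGroup.eq_one_iff y).1 hy)) ho
  have hmem : (((x ^ n : Omega F (⇑Q)) : isometryGroup F (⇑Q)) : GL ι F) ∈ pre (⇑Q) M := by
    rw [mem_pre, h1]
    exact hm
  refine ⟨_, hmem, fun v => lin_iso pre_le hmem v, ⟨k, h2, lin_pow_eq ?_⟩, ?_, fun q hq => ?_⟩
  · rw [← Subgroup.coe_pow, ← Subgroup.coe_pow, h3]
    rfl
  · rw [orderOf_lin, Subgroup.orderOf_coe, Subgroup.orderOf_coe, ← h1]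
    exact orderOf_map_dvd _ _
  · rw [← h1]
    refine lcm_map _ (lcm_of_injective (Omega F (⇑Q)).subtype Subtype.val_injective
      (lcm_of_injective (isometryGroup F (⇑Q)).subtype Subtype.val_injective (lcm_lin hq)))

/-- elements of `Ω_7(q)` -/
theorem lcm_seven (h2F : (2 : F) ≠ 0) (hQ : Nondeg Q) (hD : H390.Lift.Data Q) (hr : PP (Nat.card F) 4 r)
    {y : POmega F (⇑Q)} (hry : r ∣ orderOf y) (hy : ((orderOf y : ℕ) : F) ≠ 0) (hd : Fintype.card ι = 7) :
    Lcm (Fintype.card F) y := by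
  have := Fact.mk hr.prime
  obtain ⟨g, -, h1, ⟨k, h2, h3⟩, h4, h5⟩ := exists_pre_ss hD (M := ⊤) (Subgroup.mem_top y) hy
  refine h5 _ (Ord.seven (r := r) (m := k) (ord_eq hr) (pp_dvd hr) (frm_polar Q) (nd_polar hQ) rfl h2F
    (hr.ne0 (by omega)) (isom_polar h1) h2 h3 (hry.trans h4) (by rw [finrank_V, hd]))

theorem pm_of_line {g : Module.End F (ι → F)} (hg : ∀ v, Q (g v) = Q v) {v : ι → F} (hv : Q v ≠ 0)
    (hl : g v ∈ Submodule.span F {v}) : g v = v ∨ g v = -v := by
  obtain ⟨c, hc⟩ := Submodule.mem_span_singleton.1 hl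
  have h1 : Q (c • v) = Q v := by rw [hc, hg]
  rw [QuadraticMap.map_smul, smul_eq_mul] at h1
  have h2 : (c * c - 1) * Q v = 0 := by rw [sub_mul, h1, one_mul, sub_self]
  have h3 : (c - 1) * (c + 1) = 0 := by
    linear_combination (mul_eq_zero.1 h2).resolve_right hv
  rcases mul_eq_zero.1 h3 with h | h
  · left
    rw [← hc, sub_eq_zero.1 h, one_smul]
  · right
    rw [← hc, eq_neg_of_add_eq_zero_left h, neg_smul, one_smul]

/-- stabilisers of nonsingular points of `PΩ⁺_8(q)` -/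
theorem lcm_point (hQ : Nondeg Q) (hD : H390.Lift.Data Q) (hr : PP (Nat.card F) 4 r)
    {M : Subgroup (POmega F (⇑Q))} {v : ι → F} (hv : Q v ≠ 0)
    (hM : pre (⇑Q) M ≤ subspaceStabilizer (Submodule.span F {v}))
    {y : POmega F (⇑Q)} (hm : y ∈ M) (hry : r ∣ orderOf y) (hy : ((orderOf y : ℕ) : F) ≠ 0)
    (hd : Fintype.card ι = 8) : Lcm (Fintype.card F) y := by
  have := Fact.mk hr.prime
  obtain ⟨g, h0, h1, ⟨k, h2, h3⟩, h4, h5⟩ := exists_pre_ss hD hm hy
  refine h5 _ ?_
  have hpm := pm_of_line h1 hv (inv_of_mem (hM h0) v (Submodule.mem_span_singleton_self v))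
  have hv0 : v ≠ 0 := by
    rintro rfl
    exact hv (QuadraticMap.map_zero Q)
  by_cases h2F : (2 : F) = 0
  · have hself : ∀ v, polar Q v v = 0 := fun v => by
      rw [polar_self, two_nsmul, ← two_mul, h2F, zero_mul]
    have hfix : lin g v = v := by
      rcases hpm with h | h
      · exact h
      · rw [h, neg_eq_iff_add_eq_zero, ← two_smul F, h2F, zero_smul]
    exact Ord.eight_even (r := r) (m := k) (ord_eq hr) (pp_dvd hr) (frm_polar Q) (nd_polar hQ) hself
      (hr.ne0 (by omega)) (isom_polar h1) h2 h3 (hry.trans h4) (by rw [finrank_V, hd])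
      ((Submodule.ne_bot_iff _).2 ⟨v, H951.mem_fx.2 hfix, hv0⟩)
  · refine Ord.eight_odd (r := r) (m := k) (ord_eq hr) (pp_dvd hr) (frm_polar Q) (nd_polar hQ) rfl h2F
      (hr.odd (by omega)) (hr.ne0 (by omega)) (isom_polar h1) h2 h3 (hry.trans h4) (by rw [finrank_V, hd])
      (v := v) ?_ hpm
    rw [polar_self, two_nsmul, ← two_mul]
    exact mul_ne_zero h2F hv

end quad

end lift

/-! ### existence -/

section exist

variable {F : Type u} [Field F] [Fintype F]

theorem exists_N0 : ∃ g : POmega F (quadFormPlus 4 F), orderOf g = N0 (Fintype.card F) := by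
  have h1 : H377.Elt F 4 1 (Nat.card F ^ 4 - 1) := H377.elt_tor_plus (by omega) dvd_rfl
  have hc : Nat.card F = Fintype.card F := Nat.card_eq_fintype_card
  have hq : 2 ≤ Fintype.card F := Fintype.one_lt_card
  have hpos : 0 < Fintype.card F ^ 4 - 1 := by
    have : 2 ^ 4 ≤ Fintype.card F ^ 4 := Nat.pow_le_pow_left hq 4
    omega
  unfold N0
  split_ifs with ho
  · obtain ⟨o, ho0, h2, h3⟩ := H424.OrthElt.exists_four h1
    obtain ⟨g, hg⟩ := h2.plus (by omega)
    rw [hc] at h3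
    obtain ⟨j, hj⟩ := four_dvd ho
    rw [hj] at h3 hpos ⊢
    rw [Nat.mul_div_cancel_left _ (by norm_num)]
    have h4 : j ∣ o := Nat.dvd_of_mul_dvd_mul_left (by norm_num) h3
    obtain ⟨c, rfl⟩ := h4
    have hc0 : c ≠ 0 := by rintro rfl; omega
    refine ⟨g ^ c, ?_⟩
    rw [orderOf_pow_of_dvd hc0 (by rw [hg]; exact Dvd.intro_left j rfl), hg, Nat.mul_div_cancel _ (by omega)]
  · rw [← hc]
    refine (H377.Elt.two (by omega) ?_ h1).plus (by omega)
    rw [hc]
    exact Nat.Even.sub_odd (by omega) ((Nat.not_odd_iff_even.1 ho).pow_of_ne_zero (by omega)) odd_one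

end exist

section num2

variable {p f r : ℕ}

theorem N0_dvd {q : ℕ} : N0 q ∣ q ^ 4 - 1 := by
  unfold N0
  split_ifs with h
  · exact Nat.div_dvd_of_dvd (four_dvd h)
  · exact dvd_rfl

theorem pp_dvd_N0 {q : ℕ} (hq : 2 ≤ q) (hr : PP q 4 r) : r ∣ N0 q := by
  have h1 : r ∣ q ^ 4 - 1 := (hr.dvd_iff (by omega) 4).2 dvd_rfl
  unfold N0
  split_ifs with h
  · have h2 : q ^ 4 - 1 = 4 * ((q ^ 4 - 1) / 4) := (Nat.mul_div_cancel' (four_dvd h)).symm
    rw [h2] at h1
    rcases hr.prime.dvd_mul.1 h1 with h3 | h3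
    · exfalso
      have := Nat.le_of_dvd (by norm_num) h3
      have := hr.lt (by omega)
      omega
    · exact h3
  · exact h1

theorem cast_ne_zero {F : Type u} [Field F] [Fintype F] {k : ℕ} (hk : k ∣ N0 (Fintype.card F)) :
    (k : F) ≠ 0 := by
  intro h0
  have hq : 2 ≤ Fintype.card F := Fintype.one_lt_card
  obtain ⟨c, hc⟩ := hk.trans N0_dvd
  have h1 : ((Fintype.card F ^ 4 - 1 : ℕ) : F) = 0 := by rw [hc, Nat.cast_mul, h0, zero_mul]
  rw [Nat.cast_sub (Nat.one_le_pow _ _ (by omega)), Nat.cast_pow, FiniteField.cast_card_eq_zero] at h1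
  simp at h1

end num2

/-! ### geometric subgroups -/

/-- geometric subgroups of `PΩ⁺_8(q)`, `q ≥ 4` -/
theorem plus_row_four {F : Type u} [Field F] [Fintype F] (hq : 4 ≤ Fintype.card F)
    (M : Subgroup (POmega F (quadFormPlus 4 F))) :
    OrdGap (POmega F (quadFormPlus 4 F)) M ∨ InOrthogonalResidualClass (pre (quadFormPlus 4 F) M) := by
  have hex := exists_N0 (F := F)
  rw [← coe_quadPlus] at hex
  have h : ∀ M : Subgroup (POmega F (⇑(quadPlus 4 F))),
      OrdGap (POmega F (⇑(quadPlus 4 F))) M ∨ InOrthogonalResidualClass (pre (⇑(quadPlus 4 F)) M) := by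
    intro M
    rcases plus_miss le_rfl (card_plus 4) (nondeg_iff.2 quadPlus_nondegenerate) (isPlus_quadPlus 4)
      (fun h => by rw [Nat.card_eq_fintype_card] at h; omega) (data_plus le_rfl) M with h | h | ⟨-, v, hv, hMv⟩
    · exact Or.inl (PGap.ordGap h)
    · exact Or.inr h
    · left
      obtain ⟨g, hg⟩ := hex
      obtain ⟨r, hr⟩ := exists_pp (q := Nat.card F) (e := 4) Finite.one_lt_card (by omega) (by omega)
      refine ordGap_of hg fun x hx ho => ?_
      refine not_lcm hq ho (lcm_point (nondeg_iff.2 quadPlus_nondegenerate) (data_plus le_rfl) hr hv hMv hx ?_ ?_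
        (card_plus 4))
      · rw [ho]
        exact pp_dvd_N0 Fintype.one_lt_card (by rwa [Nat.card_eq_fintype_card] at hr)
      · rw [ho]
        exact cast_ne_zero dvd_rfl
  rw [coe_quadPlus] at h
  exact h M

/-! ### subgroups with socle `PSp_6(q)`, `Ω_7(q)` -/

section rows

variable {p f : ℕ} {T : Type u} [Group T] [Finite T]

theorem ordGap_eight {R : Subgroup T} (hp : p.Prime) (hf : 1 ≤ f) (hq : 4 ≤ p ^ f)
    (hT : IsNamed (.oplus 4 (p ^ f)) T) (S : Subgroup R) [S.Normal]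
    (hC : Subgroup.centralizer (S : Set R) = ⊥)
    (hS : IsNamed (.psp 3 (p ^ f)) S ∨ IsNamed (.oodd 3 (p ^ f)) S)
    (hcard : p ^ f % 4 = 1 → Nat.card R ≠ Nat.card (MulAut S)) : OrdGap T R := by
  have : Fact p.Prime := ⟨hp⟩
  obtain ⟨r, hr'⟩ := exists_pp (q := p) (e := f * 4) hp.two_le (by omega) (fun h => by omega)
  have hr := hr'.of_pow hf
  have hlt := hr'.lt (by omega)
  obtain ⟨x, hx⟩ : ∃ g : T, orderOf g = N0 (p ^ f) := by
    obtain ⟨F, _, _, hF, ⟨e⟩⟩ := hT.real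
    obtain ⟨g, hg⟩ := exists_N0 (F := F)
    rw [hF] at hg
    exact ⟨e.symm g, by rw [orderOf_mulEquiv, hg]⟩
  -- the automorphism group of the socle
  have hmul : Nat.card (MulAut S) = (Nat.gcd 2 (p ^ f - 1) * f) * Nat.card S := by
    rcases hS with hS | hS
    · obtain ⟨F, _, _, hF, ⟨e⟩⟩ := hS.real
      have h3 := Cfsg.Agent.S0814.result (F := F) p f hf hF 3 (by omega) (fun h => by omega)
      rw [← Nat.card_congr e.toEquiv, ← Nat.card_congr (MulAut.congr e).toEquiv, if_neg (by omega), one_mul] at h3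
      exact h3
    · obtain ⟨F, _, _, hF, ⟨e⟩⟩ := hS.real
      have hodd : Odd p := by
        have h5 := hS.cond.2.1
        rwa [Nat.odd_pow_iff (by omega)] at h5
      have h3 := Cfsg.Agent.S0816.result (F := F) p f hf hF hodd 3 le_rfl
      rw [← Nat.card_congr e.toEquiv, ← Nat.card_congr (MulAut.congr e).toEquiv] at h3
      rw [h3, Nat.gcd_eq_left ((hodd.pow (n := f)).tsub_odd odd_one).two_dvd]
  have hidx := Sax.index_dvd S hC hmul
  have hc2 : Nat.gcd 2 (p ^ f - 1) ≤ 2 := Nat.gcd_le_left _ (by norm_num)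
  have hc0 : 0 < Nat.gcd 2 (p ^ f - 1) := Nat.gcd_pos_of_pos_left _ (by norm_num)
  have hle : S.index ≤ 2 * f := (Nat.le_of_dvd (Nat.mul_pos hc0 (by omega)) hidx).trans (Nat.mul_le_mul_right f hc2)
  have hpos : 0 < S.index := Nat.pos_of_ne_zero fun h => by
    rw [h, zero_dvd_iff] at hidx
    rcases Nat.mul_eq_zero.1 hidx with h | h <;> omega
  refine ordGap_of hx fun m hm ho => ?_
  have h1 : orderOf (⟨m, hm⟩ : R) = N0 (p ^ f) := by rw [← ho, ← Subgroup.orderOf_coe]
  have h2 : (⟨m, hm⟩ : R) ^ S.index ∈ S := Subgroup.pow_index_mem S _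
  have hdv : orderOf (⟨_, h2⟩ : S) ∣ N0 (p ^ f) := by
    rw [Subgroup.orderOf_mk, ← h1]
    exact orderOf_pow_dvd _
  have hrd : r ∣ orderOf (⟨_, h2⟩ : S) := by
    rw [Subgroup.orderOf_mk]
    have h3 : N0 (p ^ f) ∣ S.index * orderOf ((⟨m, hm⟩ : R) ^ S.index) := by
      rw [← h1]
      exact orderOf_dvd_of_pow_eq_one (by rw [pow_mul, pow_orderOf_eq_one])
    rcases hr.prime.dvd_mul.1 ((pp_dvd_N0 (by omega) hr).trans h3) with h4 | h4
    · have := Nat.le_of_dvd hpos h4
      omega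
    · exact h4
  have hL : Lcm (p ^ f) (⟨_, h2⟩ : S) := by
    rcases hS with hS | hS
    · obtain ⟨F, _, _, hF, ⟨e⟩⟩ := hS.real
      refine lcm_of_injective e.toMonoidHom e.injective ?_
      have h3 : orderOf (e.toMonoidHom (⟨_, h2⟩ : S)) = orderOf (⟨_, h2⟩ : S) := orderOf_injective _ e.injective _
      rw [← hF]
      rw [← hF] at hdv
      refine lcm_psp (r := r) (by rw [Nat.card_eq_fintype_card, hF]; exact hr) (by rw [h3]; exact hrd) ?_
      rw [h3]
      exact cast_ne_zero hdv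
    · obtain ⟨F, _, _, hF, ⟨e⟩⟩ := hS.real
      refine lcm_of_injective e.toMonoidHom e.injective ?_
      have h3 : orderOf (e.toMonoidHom (⟨_, h2⟩ : S)) = orderOf (⟨_, h2⟩ : S) := orderOf_injective _ e.injective _
      have hodd : Odd (Fintype.card F) := hF ▸ hS.cond.2.1
      have h2F := H390.two_ne_zero_of_odd hodd
      rw [← hF]
      rw [← hF] at hdv
      have key : ∀ y : POmega F (⇑(quadOdd 3 F)), r ∣ orderOf y → ((orderOf y : ℕ) : F) ≠ 0 →
          Lcm (Fintype.card F) y := fun y h6 h7 =>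
        lcm_seven h2F (nondeg_iff.2 (quadOdd_nondegenerate h2F)) (data_odd le_rfl h2F)
          (by rw [Nat.card_eq_fintype_card, hF]; exact hr) h6 h7 (card_odd 3)
      rw [coe_quadOdd] at key
      refine key _ (by rw [h3]; exact hrd) ?_
      rw [h3]
      exact cast_ne_zero hdv
  have hL' : Lcm (p ^ f) ((⟨m, hm⟩ : R) ^ S.index) := lcm_map S.subtype hL
  obtain ⟨h5, h6⟩ := residual_num hp hf hq h1 hidx hL'
  apply hcard h5
  rw [hmul, ← h6, mul_comm, S.card_mul_index]

/-- **`T = PΩ⁺_8(q)`, `q ≥ 4`**, own characteristic. -/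
theorem charp_eight_gap {g : Grp} {R : Subgroup T} (hp : p.Prime) (hf : 1 ≤ f) (hq : 4 ≤ p ^ f)
    (hT : IsNamed (.oplus 4 (p ^ f)) T) (hR : R ≠ ⊤) (S : Subgroup R) [S.Normal] [IsSimpleGroup S]
    (hna : ¬ IsMulCommutative S) (hC : Subgroup.centralizer (S : Set R) = ⊥) (hS : IsNamed g S)
    (hch : HasChar p g)
    (hcard : p ^ f % 4 = 1 → (IsNamed (.psp 3 (p ^ f)) S ∨ IsNamed (.oodd 3 (p ^ f)) S) →
      Nat.card R ≠ Nat.card (MulAut S)) : OrdGap T R := by
  by_cases hfull : Full T R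
  · obtain ⟨-, h2⟩ := full_oplus' hT hp hf le_rfl (fun h => by
      obtain ⟨rfl, h⟩ := h
      have : f = 1 := by omega
      subst this
      norm_num at hq) (fun h => by omega) hR hfull S hna hC hS hch
    have h3 : IsNamed (.psp 3 (p ^ f)) S ∨ IsNamed (.oodd 3 (p ^ f)) S := by
      rcases h2 with rfl | rfl
      · exact Or.inl hS
      · exact Or.inr hS
    exact ordGap_eight hp hf hq hT S hC h3 (fun h => hcard h h3)
  · exact (pgap_of_not_full hfull).ordGap

end rows

end Cfsg.Agent.H938.Sax
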