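import Cfsg.Agent.H884.ElLin

/-!
# Commuting isometries of primitive prime orders and the type of the form (helper938)

`x`, `y` commuting isometries of prime orders `s`, `r`, with `ord_s(q) = 2b`, `ord_r(q) = 2a`, `dim V < 4b`, and
(`a ∤ b` or `b / a` even): then `[V,x] ≤ C_V(y)`, `2a + 2b ≤ dim V`, and if equality holds then `V` has plus type
and `C_V(x) ∩ C_V(y) = 0`.
-/

set_option autoImplicit false

namespace Cfsg.Agent.H938.Sax.Typ

open Module QuadraticMap Cfsg.Agent.LieClassical.OrthCore Cfsg.Agent.H955 Cfsg.Agent.H954.TSing Cfsg.Agent.H884.El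
open Cfsg.Agent.H951 (fx cm Inv)

universe u v

variable {F : Type u} [Field F] [Fintype F] {V : Type v} [AddCommGroup V] [Module F V] [FiniteDimensional F V]
  {Q : QuadraticForm F V} {x y : Module.End F V} {r s e a b : ℕ}

/-- type of an invariant subspace without fixed vectors -/
theorem isPlus_res_iff (h : Iso Q x r) (hr : PP (Nat.card F) e r) (he : Even e) {W : Submodule F V}
    (hW : Inv x W) (hWn : Nondeg (res Q W)) (h0 : W ⊓ fx x = ⊥) {A : ℕ} (hA : finrank F W = e * A) :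
    IsPlus (res Q W) ↔ Even A := by
  have := Fact.mk h.prime
  refine isPlus_iff_even hWn (x := x.restrict hW) h.two_lt h.ne0 (fun v => h.iso v) ?_ ?_ (ord_eq hr) he hA
  · refine LinearMap.ext fun v => Subtype.ext ?_
    rw [restrict_pow_coe, h.pow]; rfl
  · intro v hv
    apply Subtype.ext
    show (v : V) = 0
    rw [← Submodule.mem_bot F, ← h0]
    exact ⟨v.2, H951.mem_fx.2 (congrArg Subtype.val hv)⟩

omit [Fintype F] [FiniteDimensional F V] in
theorem inv_cm_of_comm (hxy : x * y = y * x) : Inv y (cm x) := by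
  intro w hw
  obtain ⟨v, rfl⟩ := H951.mem_cm.1 hw
  refine H951.mem_cm.2 ⟨y v, ?_⟩
  have h1 : x (y v) = y (x v) := congrArg (fun z : Module.End F V => z v) hxy
  rw [h1, map_sub]

omit [Fintype F] [FiniteDimensional F V] in
theorem inv_fx_of_comm (hxy : x * y = y * x) : Inv y (fx x) := by
  intro w hw
  rw [H951.mem_fx] at hw ⊢
  have h1 : x (y w) = y (x w) := congrArg (fun z : Module.End F V => z w) hxy
  rw [h1, hw]

theorem finrank_cm_eq (hx : Iso Q x s) (hs : PP (Nat.card F) (2 * b) s) (hx1 : x ≠ 1)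
    (hd : finrank F V < 4 * b) : finrank F (cm x) = 2 * b := by
  obtain ⟨A, hA⟩ := hx.dvd_cm hs
  have h2 : finrank F (cm x) ≤ finrank F V := Submodule.finrank_le _
  have h3 : finrank F (cm x) ≠ 0 := fun h0 => cm_ne_bot hx1 (Submodule.finrank_eq_zero.1 h0)
  have hA1 : A = 1 := by
    have h4 : A < 2 := by
      by_contra hcon
      push Not at hcon
      have := Nat.mul_le_mul_left (2 * b) hcon
      omega
    have h5 : A ≠ 0 := by rintro rfl; omega
    omega
  rw [hA, hA1, mul_one]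

/-- an invariant subspace of `[V, x]` of both `x` and `y` -/
theorem inf_cm_cases (hx : Iso Q x s) (hs : PP (Nat.card F) (2 * b) s) (hb : finrank F (cm x) = 2 * b)
    {W : Submodule F V} (hW : Inv x W) (hWx : W ≤ cm x) : W = ⊥ ∨ W = cm x := by
  have h1 : 2 * b ∣ finrank F W := by
    have := hx.dvd hs hW
    rwa [inf_eq_left.2 hWx] at this
  have h2 : finrank F W ≤ 2 * b := by rw [← hb]; exact Submodule.finrank_mono hWx
  rcases Nat.eq_zero_or_pos (finrank F W) with h0 | hpos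
  · exact Or.inl (Submodule.finrank_eq_zero.1 h0)
  · right
    have h3 := Nat.le_of_dvd hpos h1
    exact Submodule.eq_of_le_of_finrank_eq hWx (by omega)

theorem key (hQ : Nondeg Q) (hx : Iso Q x s) (hy : Iso Q y r) (hxy : x * y = y * x)
    (hs : PP (Nat.card F) (2 * b) s) (hr : PP (Nat.card F) (2 * a) r)
    (hb : finrank F (cm x) = 2 * b) (hab : a ∣ b → Even (b / a)) : cm x ≤ fx y := by
  have hWi : Inv x (cm x ⊓ cm y) := (H951.inv_cm).inf (inv_cm_of_comm hxy.symm)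
  rcases inf_cm_cases hx hs hb hWi inf_le_left with h | h
  · have h5 := H951.inf_fx_sup_inf_cm hy.ne0 hy.pow (inv_cm_of_comm hxy)
    rw [h, sup_bot_eq] at h5
    rw [← h5]
    exact inf_le_right
  · exfalso
    have h1 : cm x ≤ cm y := inf_eq_left.1 h
    have hx0 : cm x ⊓ fx y = ⊥ := H951.inf_fx_of_le_cm hy.ne0 hy.pow h1
    have h2 : 2 * a ∣ 2 * b := by
      have := hy.dvd hr (inv_cm_of_comm hxy)
      rwa [h, hb] at this
    have h3 : a ∣ b := (Nat.mul_dvd_mul_iff_left (by norm_num)).1 h2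
    have hnd := nondeg_cm hQ hx.iso hx.ne0 hx.pow
    have h4 := isPlus_res_iff hy hr (even_two_mul a) (inv_cm_of_comm hxy) hnd hx0 (A := b / a) (by
      rw [hb, mul_assoc, Nat.mul_div_cancel' h3])
    have h5 := isPlus_res_iff hx hs (even_two_mul b) H951.inv_cm hnd
      (H951.inf_fx_of_le_cm hx.ne0 hx.pow le_rfl) (A := 1) (by rw [hb, mul_one])
    have h6 := h5.1 (h4.2 (hab h3))
    exact absurd h6 (by decide)

omit [Fintype F] in
theorem cm_le_fx (hQ : Nondeg Q) (hx : Iso Q x s) (hy : Iso Q y r) (h : cm x ≤ fx y) : cm y ≤ fx x := by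
  rw [← perp_fx hQ hy.iso hy.ne0 hy.pow, ← perp_cm hQ hx.iso hx.ne0 hx.pow]
  exact perp_anti h

theorem le_finrank (hQ : Nondeg Q) (hx : Iso Q x s) (hy : Iso Q y r) (hr : PP (Nat.card F) (2 * a) r)
    (hb : finrank F (cm x) = 2 * b) (hy1 : y ≠ 1) (h : cm x ≤ fx y) : 2 * a + 2 * b ≤ finrank F V := by
  have h1 := cm_le_fx hQ hx hy h
  have h2 := hx.finrank_add
  have h3 : finrank F (cm y) ≤ finrank F (fx x) := Submodule.finrank_mono h1
  have h4 := hy.dvd_cm hr
  have h5 : finrank F (cm y) ≠ 0 := fun h0 => cm_ne_bot hy1 (Submodule.finrank_eq_zero.1 h0)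
  have := Nat.le_of_dvd (Nat.pos_of_ne_zero h5) h4
  omega

theorem fx_eq (hQ : Nondeg Q) (hx : Iso Q x s) (hy : Iso Q y r) (hr : PP (Nat.card F) (2 * a) r)
    (hb : finrank F (cm x) = 2 * b) (hy1 : y ≠ 1) (h : cm x ≤ fx y) (hd : finrank F V = 2 * a + 2 * b) :
    cm y = fx x ∧ finrank F (cm y) = 2 * a := by
  have h1 := cm_le_fx hQ hx hy h
  have h2 := hx.finrank_add
  have h3 : finrank F (cm y) ≤ finrank F (fx x) := Submodule.finrank_mono h1
  have h4 := hy.dvd_cm hr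
  have h5 : finrank F (cm y) ≠ 0 := fun h0 => cm_ne_bot hy1 (Submodule.finrank_eq_zero.1 h0)
  have := Nat.le_of_dvd (Nat.pos_of_ne_zero h5) h4
  exact ⟨Submodule.eq_of_le_of_finrank_eq h1 (by omega), by omega⟩

theorem isPlus_of (hQ : Nondeg Q) (hx : Iso Q x s) (hy : Iso Q y r) (hs : PP (Nat.card F) (2 * b) s)
    (hr : PP (Nat.card F) (2 * a) r) (hb : finrank F (cm x) = 2 * b) (hy1 : y ≠ 1) (h : cm x ≤ fx y)
    (hd : finrank F V = 2 * a + 2 * b) : IsPlus Q := by
  have := Fact.mk hx.prime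
  obtain ⟨h1, h2⟩ := fx_eq hQ hx hy hr hb hy1 h hd
  have h3 := isPlus_fx_iff hx.two_lt hQ (by rw [hd]; exact ⟨a + b, by ring⟩) hx.iso hx.ne0 hx.pow (ord_eq hs)
    (even_two_mul b) (A := 1) (by rw [hb, mul_one])
  have h4 := isPlus_res_iff hy hr (even_two_mul a) H951.inv_cm (nondeg_cm hQ hy.iso hy.ne0 hy.pow)
    (H951.inf_fx_of_le_cm hy.ne0 hy.pow le_rfl) (A := 1) (by rw [h2, mul_one])
  rw [← h1, h4] at h3
  have h5 : ¬ Even 1 := by decide
  tauto

theorem fix_zero (hQ : Nondeg Q) (hx : Iso Q x s) (hy : Iso Q y r) (hr : PP (Nat.card F) (2 * a) r)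
    (hb : finrank F (cm x) = 2 * b) (hy1 : y ≠ 1) (h : cm x ≤ fx y) (hd : finrank F V = 2 * a + 2 * b)
    {v : V} (hv : x v = v) (hv' : y v = v) : v = 0 := by
  obtain ⟨h1, -⟩ := fx_eq hQ hx hy hr hb hy1 h hd
  rw [← Submodule.mem_bot F, ← (H951.isCompl_fx_cm hy.ne0 hy.pow).inf_eq_bot]
  exact ⟨H951.mem_fx.2 hv', by rw [h1]; exact H951.mem_fx.2 hv⟩

/-! ### the group `O_16(2)` and elements of order `99` -/

theorem nine_perm {X : Type*} [Fintype X] [DecidableEq X] (σ : Equiv.Perm X) (h9 : σ ^ 9 = 1)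
    (h3 : ∀ x, (σ ^ 3) x ≠ x) : 9 ∣ Fintype.card X := by
  have hsup : σ.support = Finset.univ := by
    ext x
    simp only [Equiv.Perm.mem_support, Finset.mem_univ, iff_true]
    intro h
    exact h3 x (Equiv.Perm.pow_apply_eq_self_of_apply_eq_self h 3)
  rw [← Finset.card_univ, ← hsup, ← Equiv.Perm.sum_cycleType]
  apply Multiset.dvd_sum
  intro c hc
  have h1 : c ∣ 9 := (Equiv.Perm.dvd_of_mem_cycleType hc).trans (orderOf_dvd_of_pow_eq_one h9)
  obtain ⟨d, τ, hσ, hd, hcyc, hcard⟩ := Equiv.Perm.mem_cycleType_iff.1 hc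
  have h4 : ¬ c ∣ 3 := by
    intro h
    obtain ⟨x, hx⟩ : d.support.Nonempty := by
      rw [← Finset.card_pos, hcard]
      exact lt_of_lt_of_le two_pos (Equiv.Perm.two_le_of_mem_cycleType hc)
    apply h3 x
    have h8 : τ x = x := (hd x).resolve_left (Equiv.Perm.mem_support.1 hx)
    have h9' : d ^ 3 = 1 := by
      apply orderOf_dvd_iff_pow_eq_one.1
      rw [hcyc.orderOf, hcard]
      exact h
    rw [hσ, hd.commute.mul_pow, Equiv.Perm.mul_apply, Equiv.Perm.pow_apply_eq_self_of_apply_eq_self h8, h9']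
    rfl
  have h5 : c ≤ 9 := Nat.le_of_dvd (by norm_num) h1
  interval_cases c <;> first | decide | (exact absurd h1 (by decide)) | (exact absurd (by decide) h4)

/-- an element `y` of order nine acting without `y ^ 3`-fixed vectors -/
theorem nine_dvd {W : Submodule F V} (hW : Inv y W) (h9 : y ^ 9 = 1) (h0 : W ⊓ fx (y ^ 3) = ⊥) :
    9 ∣ Nat.card W - 1 := by
  classical
  have hfin : Finite V := Module.finite_of_finite F
  have hpow : ∀ n : ℕ, ∀ w ∈ W, (y ^ n) w ∈ W := by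
    intro n
    induction n with
    | zero => intro w hw; exact hw
    | succ n ih =>
      intro w hw
      rw [pow_succ, Module.End.mul_apply]
      exact ih _ (hW w hw)
  have h81 : ∀ w : V, (y ^ 8) (y w) = w := fun w => by
    rw [← Module.End.mul_apply, ← pow_succ, h9]; rfl
  have h18 : ∀ w : V, y ((y ^ 8) w) = w := fun w => by
    rw [← Module.End.mul_apply, ← pow_succ', h9]; rfl
  let X := {w : V // w ∈ W ∧ w ≠ 0}
  have hfX : Fintype X := Fintype.ofFinite X
  let σ : Equiv.Perm X :=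
    { toFun := fun w => ⟨y w.1, hW _ w.2.1, fun h => w.2.2 (by rw [← h81 w.1, h, map_zero])⟩
      invFun := fun w => ⟨(y ^ 8) w.1, hpow 8 _ w.2.1, fun h => w.2.2 (by rw [← h18 w.1, h, map_zero])⟩
      left_inv := fun w => Subtype.ext (h81 w.1)
      right_inv := fun w => Subtype.ext (h18 w.1) }
  have hσ : ∀ (n : ℕ) (w : X), ((σ ^ n) w).1 = (y ^ n) w.1 := by
    intro n
    induction n with
    | zero => intro w; rfl
    | succ n ih =>
      intro w
      rw [pow_succ, Equiv.Perm.mul_apply, ih, pow_succ, Module.End.mul_apply]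
      rfl
  have h1 := nine_perm σ (by
    ext w : 1
    apply Subtype.ext
    rw [hσ, h9]
    rfl) (by
    intro w hw
    apply w.2.2
    rw [← Submodule.mem_bot F, ← h0]
    refine ⟨w.2.1, H951.mem_fx.2 ?_⟩
    rw [← hσ, hw])
  have h2 : Fintype.card X = Nat.card W - 1 := by
    have h3 : Nat.card X = Nat.card {w : W // w ≠ 0} := Nat.card_congr
      { toFun := fun w => ⟨⟨w.1, w.2.1⟩, fun h => w.2.2 (congrArg Subtype.val h)⟩
        invFun := fun w => ⟨w.1.1, w.1.2, fun h => w.2 (Subtype.ext h)⟩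
        left_inv := fun _ => rfl
        right_inv := fun _ => rfl }
    have : Fintype W := Fintype.ofFinite W
    rw [← Nat.card_eq_fintype_card, h3, Nat.card_eq_fintype_card, Fintype.card_subtype_compl,
      Fintype.card_subtype_eq, Nat.card_eq_fintype_card]
  rwa [h2] at h1

omit [Field F] in
theorem pp_ten (hF : Fintype.card F = 2) : PP (Nat.card F) (2 * 5) 11 := ⟨by norm_num, by
  rw [Nat.card_eq_fintype_card, hF]
  refine (orderOf_eq_iff (by norm_num)).2 ⟨by decide, fun m hm hm0 => ?_⟩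
  interval_cases m <;> decide⟩

omit [Field F] in
theorem pp_two (hF : Fintype.card F = 2) : PP (Nat.card F) (2 * 1) 3 := ⟨by norm_num, by
  rw [Nat.card_eq_fintype_card, hF]
  refine (orderOf_eq_iff (by norm_num)).2 ⟨by decide, fun m hm hm0 => ?_⟩
  interval_cases m <;> decide⟩

/-- the case of order `99` over the field of two elements -/
theorem nine (hF : Fintype.card F = 2) (hx : Iso Q x 11) (hy : Iso Q (y ^ 3) 3) (h9 : y ^ 9 = 1)
    (hx1 : x ≠ 1) (hxy : x * y = y * x) (hd : finrank F V < 20) :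
    cm x ≤ fx (y ^ 3) ∧ finrank F (cm x) = 2 * 5 ∧ 6 ∣ finrank F (cm (y ^ 3)) := by
  have hF' : Nat.card F = 2 := by rw [Nat.card_eq_fintype_card, hF]
  have hs := pp_ten hF
  have hxy3 : x * y ^ 3 = y ^ 3 * x := (Commute.pow_right (show Commute x y from hxy) 3)
  have hb : finrank F (cm x) = 2 * 5 := finrank_cm_eq (b := 5) hx hs hx1 (by omega)
  have hcard : ∀ W : Submodule F V, Nat.card W = 2 ^ finrank F W := fun W => by
    rw [Module.natCard_eq_pow_finrank (K := F), hF']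
  refine ⟨?_, hb, ?_⟩
  · have hWi : Inv x (cm x ⊓ cm (y ^ 3)) := (H951.inv_cm).inf (inv_cm_of_comm hxy3.symm)
    rcases inf_cm_cases (b := 5) hx hs hb hWi inf_le_left with h | h
    · have h5 := H951.inf_fx_sup_inf_cm hy.ne0 hy.pow (inv_cm_of_comm hxy3)
      rw [h, sup_bot_eq] at h5
      rw [← h5]
      exact inf_le_right
    · exfalso
      have h1 : cm x ≤ cm (y ^ 3) := inf_eq_left.1 h
      have h2 := nine_dvd (inv_cm_of_comm hxy) h9 (H951.inf_fx_of_le_cm hy.ne0 hy.pow h1)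
      rw [hcard, hb] at h2
      exact absurd h2 (by decide)
  · have hyc : y ^ 3 * y = y * y ^ 3 := by rw [← pow_succ, ← pow_succ']
    have h2 := nine_dvd (inv_cm_of_comm hyc) h9 (H951.inf_fx_of_le_cm hy.ne0 hy.pow le_rfl)
    rw [hcard] at h2
    have h3 : ∀ n < 20, 9 ∣ 2 ^ n - 1 → 6 ∣ n := by decide
    exact h3 _ (lt_of_le_of_lt (Submodule.finrank_le _) hd) h2

theorem nine_le (hF : Fintype.card F = 2) (hQ : Nondeg Q) (hx : Iso Q x 11) (hy : Iso Q (y ^ 3) 3) (h9 : y ^ 9 = 1)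
    (hx1 : x ≠ 1) (hy1 : y ^ 3 ≠ 1) (hxy : x * y = y * x) : 16 ≤ finrank F V := by
  by_contra hlt
  obtain ⟨h, hb, h6⟩ := nine hF hx hy h9 hx1 hxy (by omega)
  have h1 := cm_le_fx hQ hx hy h
  have h2 := hx.finrank_add
  have h3 : finrank F (cm (y ^ 3)) ≤ finrank F (fx x) := Submodule.finrank_mono h1
  have h5 : finrank F (cm (y ^ 3)) ≠ 0 := fun h0 => cm_ne_bot hy1 (Submodule.finrank_eq_zero.1 h0)
  have := Nat.le_of_dvd (Nat.pos_of_ne_zero h5) h6
  omega

theorem nine_eq (hF : Fintype.card F = 2) (hQ : Nondeg Q) (hx : Iso Q x 11) (hy : Iso Q (y ^ 3) 3) (h9 : y ^ 9 = 1)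
    (hx1 : x ≠ 1) (hy1 : y ^ 3 ≠ 1) (hxy : x * y = y * x) (hd : finrank F V = 16) :
    cm (y ^ 3) = fx x ∧ finrank F (cm (y ^ 3)) = 6 ∧ finrank F (cm x) = 2 * 5 := by
  obtain ⟨h, hb, h6⟩ := nine hF hx hy h9 hx1 hxy (by omega)
  have h1 := cm_le_fx hQ hx hy h
  have h2 := hx.finrank_add
  have h3 : finrank F (cm (y ^ 3)) ≤ finrank F (fx x) := Submodule.finrank_mono h1
  have h5 : finrank F (cm (y ^ 3)) ≠ 0 := fun h0 => cm_ne_bot hy1 (Submodule.finrank_eq_zero.1 h0)
  have := Nat.le_of_dvd (Nat.pos_of_ne_zero h5) h6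
  exact ⟨Submodule.eq_of_le_of_finrank_eq h1 (by omega), by omega, hb⟩

theorem nine_isPlus (hF : Fintype.card F = 2) (hQ : Nondeg Q) (hx : Iso Q x 11) (hy : Iso Q (y ^ 3) 3) (h9 : y ^ 9 = 1)
    (hx1 : x ≠ 1) (hy1 : y ^ 3 ≠ 1) (hxy : x * y = y * x) (hd : finrank F V = 16) : IsPlus Q := by
  have := Fact.mk hx.prime
  obtain ⟨h1, h2, hb⟩ := nine_eq hF hQ hx hy h9 hx1 hy1 hxy hd
  have h3 := isPlus_fx_iff hx.two_lt hQ (by rw [hd]; decide) hx.iso hx.ne0 hx.pow (ord_eq (pp_ten hF))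
    (even_two_mul 5) (A := 1) (by rw [hb, mul_one])
  have h4 := isPlus_res_iff hy (pp_two hF) (even_two_mul 1) H951.inv_cm (nondeg_cm hQ hy.iso hy.ne0 hy.pow)
    (H951.inf_fx_of_le_cm hy.ne0 hy.pow le_rfl) (A := 3) (by rw [h2])
  rw [← h1, h4] at h3
  have h5 : ¬ Even 1 := by decide
  have h6 : ¬ Even 3 := by decide
  tauto

theorem nine_fix_zero (hF : Fintype.card F = 2) (hQ : Nondeg Q) (hx : Iso Q x 11) (hy : Iso Q (y ^ 3) 3)
    (h9 : y ^ 9 = 1) (hx1 : x ≠ 1) (hy1 : y ^ 3 ≠ 1) (hxy : x * y = y * x) (hd : finrank F V = 16)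
    {v : V} (hv : x v = v) (hv' : (y ^ 3) v = v) : v = 0 := by
  obtain ⟨h1, -, -⟩ := nine_eq hF hQ hx hy h9 hx1 hy1 hxy hd
  rw [← Submodule.mem_bot F, ← (H951.isCompl_fx_cm hy.ne0 hy.pow).inf_eq_bot]
  exact ⟨H951.mem_fx.2 hv', by rw [h1]; exact H951.mem_fx.2 hv⟩

end Cfsg.Agent.H938.Sax.Typ
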