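import Cfsg.Agent.H938.Sax.Base
import Cfsg.Agent.H938.Sax.Typ
import Cfsg.Agent.H884.ElRows
import Cfsg.Agent.H377.ToOmega
import Cfsg.Agent.H72.AdjSp

/-!
# The element orders `r_{2k-2} r_{2k+2}` of the orthogonal groups of dimension `4k` and plus type (helper938)

`NumD q k N` : `N = r s` with `ord_r(q) = 2(k-1)`, `ord_s(q) = 2(k+1)`; `N = 99` for `q = 2`, `k = 4`.

Isometries of order `N` of a nondegenerate space of dimension `< 4k + 4` exist only in dimension `≥ 4k`, and in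
dimension `4k` only for plus type; they have no fixed vectors.
-/

set_option autoImplicit false

namespace Cfsg.Agent.H938.Sax

open Module QuadraticMap Cfsg.Agent.LieClassical.OrthCore Cfsg.Agent.H955 Cfsg.Agent.H954.TSing Cfsg.Agent.H884.El
open Cfsg.Agent.H951 (fx cm Inv)
open Cfsg.Agent.H377

universe u v

def NumD (q k N : ℕ) : Prop :=
  (q = 2 ∧ k = 4 ∧ N = 99) ∨ ∃ r s : ℕ, N = r * s ∧ PP q (2 * (k - 1)) r ∧ PP q (2 * (k + 1)) s

theorem exists_numD {q k : ℕ} (hq : 1 < q) (hk : 3 ≤ k) : ∃ N, NumD q k N := by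
  by_cases h : q = 2 ∧ k = 4
  · exact ⟨99, Or.inl ⟨h.1, h.2, rfl⟩⟩
  · obtain ⟨r, hr⟩ := exists_pp (q := q) (e := 2 * (k - 1)) hq (by omega) (by
      rintro ⟨h1, h2⟩
      exact h ⟨h1, by omega⟩)
    obtain ⟨s, hs⟩ := exists_pp (q := q) (e := 2 * (k + 1)) hq (by omega) (by omega)
    exact ⟨r * s, Or.inr ⟨r, s, rfl, hr, hs⟩⟩

theorem NumD.odd {q k N : ℕ} (h : NumD q k N) (hk : 3 ≤ k) : Odd N := by
  rcases h with ⟨-, -, rfl⟩ | ⟨r, s, rfl, hr, hs⟩
  · decide
  · exact (hr.odd (by omega)).mul (hs.odd (by omega))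

section

variable {F : Type u} [Field F] [Fintype F] {V : Type v} [AddCommGroup V] [Module F V] [FiniteDimensional F V]
  {Q : QuadraticForm F V} {g : Module.End F V} {k N : ℕ}

omit [Fintype F] [FiniteDimensional F V] in
theorem iso_pow (hg : ∀ v, Q (g v) = Q v) (n : ℕ) (v : V) : Q ((g ^ n) v) = Q v := by
  induction n generalizing v with
  | zero => rfl
  | succ n ih => rw [pow_succ, Module.End.mul_apply, ih, hg]

theorem lin_main (hk : 3 ≤ k) (hN : NumD (Nat.card F) k N) (hQ : Nondeg Q) (hg : ∀ v, Q (g v) = Q v)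
    (ho : orderOf g = N) (hd : finrank F V < 4 * (k + 1)) :
    4 * k ≤ finrank F V ∧ (finrank F V = 4 * k → IsPlus Q ∧ ∀ v, g v = v → v = 0) := by
  rcases hN with ⟨hq, rfl, rfl⟩ | ⟨r, s, rfl, hr, hs⟩
  · have hF : Fintype.card F = 2 := by rw [← Nat.card_eq_fintype_card, hq]
    have hg99 : g ^ 99 = 1 := by rw [← ho]; exact pow_orderOf_eq_one g
    have hne : ∀ n : ℕ, ¬ 99 ∣ n → g ^ n ≠ 1 := fun n hn h => hn (by rw [← ho]; exact orderOf_dvd_of_pow_eq_one h)
    have h3 : Fact (Nat.Prime 3) := ⟨by norm_num⟩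
    have hx : Iso Q (g ^ 9) 11 := Iso.mk' (Typ.pp_ten hF) (by omega) (by rw [← pow_mul, hg99]) (iso_pow hg 9)
    have hy : Iso Q ((g ^ 11) ^ 3) 3 := Iso.mk' (Typ.pp_two hF) (by omega) (by
      rw [← pow_mul, ← pow_mul, hg99]) (by rw [← pow_mul]; exact iso_pow hg _)
    have h9 : (g ^ 11) ^ 9 = 1 := by rw [← pow_mul, hg99]
    have hx1 : g ^ 9 ≠ 1 := hne 9 (by decide)
    have hy1 : (g ^ 11) ^ 3 ≠ 1 := by rw [← pow_mul]; exact hne 33 (by decide)
    have hxy : g ^ 9 * g ^ 11 = g ^ 11 * g ^ 9 := by rw [← pow_add, ← pow_add]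
    refine ⟨Typ.nine_le hF hQ hx hy h9 hx1 hy1 hxy, fun hd' => ⟨Typ.nine_isPlus hF hQ hx hy h9 hx1 hy1 hxy hd', ?_⟩⟩
    intro v hv
    refine Typ.nine_fix_zero hF hQ hx hy h9 hx1 hy1 hxy hd' (H951.pow_fx hv 9) ?_
    rw [← pow_mul]
    exact H951.pow_fx hv _
  · have hgrs : g ^ (r * s) = 1 := by rw [← ho]; exact pow_orderOf_eq_one g
    have hr0 := hr.prime.pos
    have hs0 := hs.prime.pos
    have hx : Iso Q (g ^ r) s := Iso.mk' hs (by omega) (by rw [← pow_mul, hgrs]) (iso_pow hg r)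
    have hy : Iso Q (g ^ s) r := Iso.mk' hr (by omega) (by rw [← pow_mul, mul_comm, hgrs]) (iso_pow hg s)
    have hx1 : g ^ r ≠ 1 := by
      intro h
      have h0 := orderOf_dvd_of_pow_eq_one h
      rw [ho] at h0
      have h1 := Nat.le_of_dvd hr0 h0
      have h2 : r * 2 ≤ r * s := Nat.mul_le_mul_left r hs.prime.two_le
      omega
    have hy1 : g ^ s ≠ 1 := by
      intro h
      have h0 := orderOf_dvd_of_pow_eq_one h
      rw [ho] at h0
      have h1 := Nat.le_of_dvd hs0 h0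
      have h2 : 2 * s ≤ r * s := Nat.mul_le_mul_right s hr.prime.two_le
      omega
    have hxy : g ^ r * g ^ s = g ^ s * g ^ r := by rw [← pow_add, ← pow_add, add_comm]
    have hab : (k - 1) ∣ (k + 1) → Even ((k + 1) / (k - 1)) := by
      intro h
      have h1 : k - 1 ∣ 2 := by
        have h2 : k + 1 = (k - 1) + 2 := by omega
        rw [h2] at h
        exact (Nat.dvd_add_right dvd_rfl).1 h
      have h2 := Nat.le_of_dvd (by norm_num) h1
      have h3 : k = 3 := by omega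
      subst h3
      decide
    have hb := Typ.finrank_cm_eq hx hs hx1 (by omega)
    have hkey := Typ.key hQ hx hy hxy hs hr hb hab
    have hle := Typ.le_finrank hQ hx hy hr hb hy1 hkey
    refine ⟨by omega, fun hd' => ?_⟩
    have hd2 : finrank F V = 2 * (k - 1) + 2 * (k + 1) := by omega
    refine ⟨Typ.isPlus_of hQ hx hy hs hr hb hy1 hkey hd2, fun v hv => ?_⟩
    exact Typ.fix_zero hQ hx hy hr hb hy1 hkey hd2 (H951.pow_fx hv r) (H951.pow_fx hv s)

end

/-! ### existence -/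

section ex

variable {F : Type u} [Field F] [Finite F] {k N : ℕ}

theorem dvd_pow_add_one {q e r : ℕ} (hq : 1 ≤ q) (he : 1 ≤ e) (h : PP q (2 * e) r) : r ∣ q ^ e + 1 := by
  have h1 : r ∣ q ^ (2 * e) - 1 := (h.dvd_iff hq _).2 dvd_rfl
  have h2 : q ^ (2 * e) - 1 = (q ^ e + 1) * (q ^ e - 1) := by
    rw [mul_comm 2 e, pow_mul]
    have := Nat.sq_sub_sq (q ^ e) 1
    rwa [one_pow] at this
  rw [h2] at h1
  rcases h.prime.dvd_mul.1 h1 with h3 | h3
  · exact h3
  · exfalso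
    have h4 := (h.dvd_iff hq _).1 h3
    have := Nat.le_of_dvd (by omega) h4
    omega

theorem elt_numD (hk : 3 ≤ k) (hN : NumD (Nat.card F) k N) : Elt F (2 * k) 1 N := by
  have hq : 1 < Nat.card F := Finite.one_lt_card
  rcases hN with ⟨hq2, rfl, rfl⟩ | ⟨r, s, rfl, hr, hs⟩
  · have h1 : Elt F 3 (-1) 9 := elt_tor_minus (by norm_num) (by rw [hq2]; norm_num)
    have h2 : Elt F 5 (-1) 11 := elt_tor_minus (by norm_num) (by rw [hq2]; norm_num)
    have h3 := h1.prod h2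
    exact h3
  · have h1 : Elt F (k - 1) (-1) r := elt_tor_minus (by omega) (dvd_pow_add_one hq.le (by omega) hr)
    have h2 : Elt F (k + 1) (-1) s := elt_tor_minus (by omega) (dvd_pow_add_one hq.le (by omega) hs)
    have h3 := h1.prod h2
    have hne : r ≠ s := hr.ne_of_ne hs (by omega)
    rw [show k - 1 + (k + 1) = 2 * k by omega, ((Nat.coprime_primes hr.prime hs.prime).2 hne).lcm_eq_mul] at h3
    exact h3

theorem exists_plus_numD (hk : 3 ≤ k) (hN : NumD (Nat.card F) k N) :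
    ∃ g : Cfsg.POmega F (Cfsg.quadFormPlus (2 * k) F), orderOf g = N :=
  (Elt.two (by omega) (hN.odd hk) (elt_numD hk hN)).plus (by omega)

theorem exists_psp_numD [CharP F 2] (hk : 3 ≤ k) (hN : NumD (Nat.card F) k N) :
    ∃ g : Cfsg.PSp (2 * k) F, orderOf g = N :=
  Cfsg.Agent.H72.AdjSp.of_elt (by omega) (elt_numD hk hN)

theorem exists_odd_numD (h2 : (2 : F) ≠ 0) (hk : 3 ≤ k) (hN : NumD (Nat.card F) k N) :
    ∃ g : Cfsg.POmega F (Cfsg.quadFormOdd (2 * k) F), orderOf g = N := by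
  refine exists_odd_of_elt h2 (by omega) (elt_numD hk hN) fun j => ?_
  have ho : Nat.Coprime N 2 := Nat.coprime_two_right.2 (hN.odd hk)
  exact ⟨fun h5 => ho.dvd_of_dvd_mul_left h5, fun h5 => Dvd.dvd.mul_left h5 2⟩

end ex

end Cfsg.Agent.H938.Sax
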