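import Cfsg.Agent.H938.Sax.PR
import Cfsg.Agent.S2472
import Cfsg.Agent.S2474

/-!
# `Ω_9(q)` and `PSp_8(q)`, `q` odd: element order `p r`, `ord_r(q) = 6` (helper938)
-/

set_option autoImplicit false
set_option linter.style.haveILetI false

namespace Cfsg.Agent.H938.Sax

open Module QuadraticMap Cfsg Cfsg.Geo Cfsg.Agent.LieClassical.OrthCore Cfsg.Agent.H955 Cfsg.Agent.H954.TSing
  Cfsg.Agent.H884.El Cfsg.Agent.LieClassical.OmegaReindex Cfsg.Agent.OrdDiv Cfsg.Agent.H436 Cfsg.Agent.H915.GN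
  Cfsg.Agent.H264.GN Cfsg.Agent.H264.FKS
open Cfsg.Agent.H951 (fx cm Inv)
open scoped MatrixGroups Matrix

universe u v

section perp

variable {F : Type u} [Field F] {V : Type v} [AddCommGroup V] [Module F V] [FiniteDimensional F V]
  {Q : QuadraticForm F V} {g : Module.End F V}

/-- an isometry fixing a nonsingular vector has the same order on its orthogonal complement -/
theorem perp_restrict (h2F : (2 : F) ≠ 0) (hQ : Nondeg Q) (hg : ∀ v, Q (g v) = Q v) {v : V} (hv : Q v ≠ 0)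
    (hfix : g v = v) : ∃ hinv : Inv g (perp Q (Submodule.span F {v})),
      orderOf (g.restrict hinv) = orderOf g ∧ Nondeg (res Q (perp Q (Submodule.span F {v}))) ∧
        finrank F (perp Q (Submodule.span F {v})) + 1 = finrank F V := by
  set W := perp Q (Submodule.span F {v}) with hW
  have hpol : ∀ a b, polar Q (g a) (g b) = polar Q a b := fun a b => by
    simp only [polar, ← map_add, hg]
  have hinv : Inv g W := by
    intro w hw u hu
    obtain ⟨c, rfl⟩ := Submodule.mem_span_singleton.1 hu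
    have h4 := hw (c • v) hu
    rw [← hpol, map_smul, hfix] at h4
    exact h4
  have hv0 : v ≠ 0 := by
    rintro rfl
    exact hv (QuadraticMap.map_zero Q)
  have hns : Nondeg (res Q (Submodule.span F {v})) := by
    rw [nondeg_res_iff]
    intro x hx hxy
    obtain ⟨c, rfl⟩ := Submodule.mem_span_singleton.1 hx
    have h4 := hxy v (Submodule.mem_span_singleton_self v)
    rw [polar_smul_left, polar_self, smul_eq_mul, two_nsmul, ← two_mul] at h4
    rcases mul_eq_zero.1 h4 with h | h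
    · rw [h, zero_smul]
    · exact absurd ((mul_eq_zero.1 h).resolve_left h2F) hv
  have hnW : Nondeg (res Q W) := nondeg_perp hQ hns
  have hdW : finrank F W + 1 = finrank F V := by
    have := finrank_add_perp hQ (Submodule.span F {v})
    rw [finrank_span_singleton (K := F) hv0, ← hW] at this
    omega
  have hcompl := isCompl_perp hns
  refine ⟨hinv, ?_, hnW, hdW⟩
  apply Nat.dvd_antisymm
  · apply orderOf_dvd_of_pow_eq_one
    refine LinearMap.ext fun w => Subtype.ext ?_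
    rw [restrict_pow_coe, pow_orderOf_eq_one]
    rfl
  · apply orderOf_dvd_of_pow_eq_one
    refine LinearMap.ext fun x => ?_
    have hx : x ∈ Submodule.span F {v} ⊔ W := by rw [hcompl.sup_eq_top]; trivial
    obtain ⟨a, ha, b, hb, rfl⟩ := Submodule.mem_sup.1 hx
    obtain ⟨c, rfl⟩ := Submodule.mem_span_singleton.1 ha
    rw [map_add, map_smul, H951.pow_fx hfix]
    have h5 := restrict_pow_coe hinv (orderOf (g.restrict hinv)) ⟨b, hb⟩
    rw [pow_orderOf_eq_one] at h5
    change c • v + _ = c • v + b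
    rw [← h5]
    rfl

end perp

section quad

variable {ι : Type} [Fintype ι] [DecidableEq ι] {F : Type u} [Field F] [Fintype F] {Q : QuadraticForm F (ι → F)}
  {e p r : ℕ}

omit [Field F] [Fintype F] in
theorem odd_pr (hpp : p.Prime) (hp2 : p ≠ 2) (hr : PP (Nat.card F) e r) (he : 3 ≤ e) : Odd (p * r) :=
  (hpp.odd_of_ne_two hp2).mul (hr.odd (by omega))

theorem pomega_no_pr (h2 : (2 : F) ≠ 0) (hQ : Nondeg Q) (hD : H390.Lift.Data Q) [CharP F p] [hpp : Fact p.Prime]
    (hp2 : p ≠ 2) (hr : PP (Nat.card F) e r) (he : 3 ≤ e) (hd : Fintype.card ι ≤ e + 2) (m : POmega F (⇑Q)) :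
    orderOf m ≠ p * r := by
  intro ho
  obtain ⟨g, h1, h3⟩ := exists_lin_iso hD (odd_pr hpp.out hp2 hr he) ho
  exact no_pr h2 hr he hQ h1 h3 (by rw [finrank_V]; exact hd)

/-- stabilisers of nonsingular points -/
theorem point_no_pr (h2 : (2 : F) ≠ 0) (hQ : Nondeg Q) (hD : H390.Lift.Data Q) [CharP F p] [hpp : Fact p.Prime]
    (hp2 : p ≠ 2) (hr : PP (Nat.card F) e r) (he : 3 ≤ e) (hd : Fintype.card ι ≤ e + 3)
    {M : Subgroup (POmega F (⇑Q))} {v : ι → F} (hv : Q v ≠ 0)
    (hM : pre (⇑Q) M ≤ subspaceStabilizer (Submodule.span F {v})) (m : POmega F (⇑Q)) (hm : m ∈ M) :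
    orderOf m ≠ p * r := by
  intro ho
  have hodd := odd_pr hpp.out hp2 hr he
  obtain ⟨g, h1, h4, h3⟩ := exists_pre hD hodd hm ho
  have hfix : lin g v = v := fix_of_line h3 hodd (by rw [← h4]; exact pow_orderOf_eq_one _) hv
    (inv_of_mem (hM h1) v (Submodule.mem_span_singleton_self v))
  obtain ⟨hinv, h5, h6, h7⟩ := perp_restrict h2 hQ h3 hv hfix
  refine no_pr h2 hr he h6 (g := (lin g).restrict hinv) (fun w => h3 w) (h5.trans h4) ?_
  rw [finrank_V] at h7
  omega

end quad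

/-! ### existence -/

section rows

variable {p f r : ℕ} {T : Type u} [Group T]

theorem psp8_pr (hp : p.Prime) (hf : 1 ≤ f) {F : Type} [Field F] [Fintype F]
    (hF : Fintype.card F = p ^ f) (hr : PP (p ^ f) 6 r) : p * r ∈ Set.range (orderOf : PSp 4 F → ℕ) := by
  haveI : Fact p.Prime := ⟨hp⟩
  haveI := charP_of hp hf hF
  have hq : 1 ≤ p ^ f := Nat.one_le_pow _ _ hp.pos
  have hT : IsNamed (.psp 4 (p ^ f)) (PSp 4 F) :=
    .mk' ⟨F, inferInstance, inferInstance, hF, ⟨MulEquiv.refl _⟩⟩ ⟨by omega, fun _ => by omega, hF ▸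
      Fintype.isPrimePow_card_of_field⟩ (by rw [← hF]; exact psp_eq (by omega))
  have hr' := prim_of_pp hq (by omega) hr
  have key := Cfsg.Agent.S2472.result (F := F) p 4 (by omega) (fun h => by omega) r hr.prime
    (ne_of_prim' hr' (by omega)) (ne_char hr' hf) (dvd_psp hT (by omega) dvd_rfl (k := 3) (by omega) (by omega) hr')
    6 3 (by rw [hF]; exact hr.ord.symm) (Or.inr ⟨by decide, by decide⟩)
  by_contra hcon
  rw [mul_comm] at hcon
  exact absurd (key.1 hcon) (by norm_num)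

theorem exists_psp8_pr (hp : p.Prime) (hf : 1 ≤ f) (hr : PP (p ^ f) 6 r)
    (hT : IsNamed (.psp 4 (p ^ f)) T) : ∃ g : T, orderOf g = p * r := by
  obtain ⟨F, _, _, hF, ⟨e⟩⟩ := hT.real
  obtain ⟨g, hg⟩ := psp8_pr hp hf hF hr
  exact ⟨e.symm g, by rw [← hg]; exact orderOf_injective e.symm.toMonoidHom e.symm.injective g⟩

theorem exists_oodd9_pr (hp : p.Prime) (hf : 1 ≤ f) (hr : PP (p ^ f) 6 r)
    (hT : IsNamed (.oodd 4 (p ^ f)) T) : ∃ g : T, orderOf g = p * r := by
  obtain ⟨F, _, _, hF, ⟨e⟩⟩ := hT.real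
  have hodd : Odd (Fintype.card F) := by rw [hF]; exact hT.cond.2.1
  have hrp : p ≠ r := (ne_char (prim_of_pp (Nat.one_le_pow _ _ hp.pos) (by omega) hr) hf).symm
  have h1 := psp8_pr hp hf hF hr
  obtain ⟨g, hg⟩ := (Cfsg.Agent.S2474.result hodd 4 (by omega) p r hp hr.prime hrp).2 h1
  exact ⟨e.symm g, by rw [← hg]; exact orderOf_injective e.symm.toMonoidHom e.symm.injective g⟩

/-- no element of order `p` normalises an `s`-subgroup, `ord_s(q) = 8` -/
theorem oodd9_norm (hp : p.Prime) (hp2 : p ≠ 2) (hf : 1 ≤ f) {s : ℕ} (hs : PP (p ^ f) 8 s)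
    (hT : IsNamed (.oodd 4 (p ^ f)) T) (P : Subgroup T) (hP : IsPGroup s P) (hP1 : P ≠ ⊥) (y : T)
    (hy : y ∈ Subgroup.normalizer (P : Set T)) : orderOf y ≠ p := by
  intro ho
  obtain ⟨F, _, _, hF, ⟨e⟩⟩ := hT.real
  haveI : Fact p.Prime := ⟨hp⟩
  haveI := charP_of hp hf hF
  have h2 : (2 : F) ≠ 0 := H390.two_ne_zero_of_odd (by rw [hF]; exact hT.cond.2.1)
  have hD : H390.Lift.Data (quadOdd 4 F) := data_odd (by omega) h2
  have e' : T ≃* POmega F (⇑(quadOdd 4 F)) := by rw [coe_quadOdd]; exact e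
  haveI : Finite T := Finite.of_equiv _ e.symm.toEquiv
  refine Frat.no_norm (F := F) (e := 8) (r := s) (p := p) (by rw [Nat.card_eq_fintype_card, hF]; exact hs)
    (by omega) (ι := Unit ⊕ (Fin 4 ⊕ Fin 4)) (by rw [card_odd])
    ((isometryGroup F (⇑(quadOdd 4 F))).subtype.comp (Omega F (⇑(quadOdd 4 F))).subtype)
    ((Subgroup.subtype_injective _).comp (Subgroup.subtype_injective _))
    (e'.symm.toMonoidHom.comp (QuotientGroup.mk' (Subgroup.center (Omega F (⇑(quadOdd 4 F))))))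
    (e'.symm.surjective.comp (QuotientGroup.mk'_surjective _)) (fun z hz => ?_) hp2 ?_ hP hP1 hy ho
  · have h3 : z ∈ Subgroup.center (Omega F (⇑(quadOdd 4 F))) := by
      have h4 : (QuotientGroup.mk' (Subgroup.center (Omega F (⇑(quadOdd 4 F))))) z = 1 := by
        apply e'.symm.injective
        rw [map_one]; exact hz
      exact (QuotientGroup.eq_one_iff z).1 h4
    exact ⟨h3, H390.Lift.center_sq hD z h3⟩
  · rw [show (8 : ℕ) = 2 ^ 3 by norm_num]
    exact ((Nat.coprime_primes hp Nat.prime_two).2 hp2).pow_right 3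

theorem psp8_norm (hp : p.Prime) (hp2 : p ≠ 2) (hf : 1 ≤ f) {s : ℕ} (hs : PP (p ^ f) 8 s)
    (hT : IsNamed (.psp 4 (p ^ f)) T) (P : Subgroup T) (hP : IsPGroup s P) (hP1 : P ≠ ⊥) (y : T)
    (hy : y ∈ Subgroup.normalizer (P : Set T)) : orderOf y ≠ p := by
  intro ho
  obtain ⟨F, _, _, hF, ⟨e⟩⟩ := hT.real
  haveI : Fact p.Prime := ⟨hp⟩
  haveI := charP_of hp hf hF
  haveI : Finite T := Finite.of_equiv _ e.symm.toEquiv
  refine Frat.no_norm (F := F) (e := 8) (r := s) (p := p) (by rw [Nat.card_eq_fintype_card, hF]; exact hs)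
    (by omega) (ι := Fin 4 ⊕ Fin 4) (by simp)
    (MonoidHom.toHomUnits (Matrix.symplecticGroup (Fin 4) F).subtype)
    (fun a b hab => Subtype.ext (congrArg Units.val hab))
    (e.symm.toMonoidHom.comp (QuotientGroup.mk' (Subgroup.center (Matrix.symplecticGroup (Fin 4) F))))
    (e.symm.surjective.comp (QuotientGroup.mk'_surjective _)) (fun z hz => ?_) hp2 ?_ hP hP1 hy ho
  · have h3 : z ∈ Subgroup.center (Matrix.symplecticGroup (Fin 4) F) := by
      have h4 : (QuotientGroup.mk' (Subgroup.center (Matrix.symplecticGroup (Fin 4) F))) z = 1 := by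
        apply e.symm.injective
        rw [map_one]; exact hz
      exact (QuotientGroup.eq_one_iff z).1 h4
    refine ⟨h3, Subtype.ext ?_⟩
    rcases Cfsg.Agent.ClassicalGeometry.SympInvolutions.center_eq h3 with h | h
    · rw [SubmonoidClass.coe_pow, h, one_pow]; rfl
    · rw [SubmonoidClass.coe_pow, h, neg_one_sq]; rfl
  · rw [show (8 : ℕ) = 2 ^ 3 by norm_num]
    exact ((Nat.coprime_primes hp Nat.prime_two).2 hp2).pow_right 3

theorem mem_of_coprime_index {R : Type*} [Group R] (S : Subgroup R) [S.Normal] {N : ℕ}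
    (hN : N.Coprime S.index) {x : R} (hx : orderOf x = N) : x ∈ S := by
  obtain ⟨k, hk⟩ := exists_pow_eq_self_of_coprime (x := x) (n := S.index) (by rw [hx]; exact hN.symm)
  rw [← hk]
  exact S.pow_mem (Subgroup.pow_index_mem S x) k

theorem exists_ppp' (hp : p.Prime) (hf : 1 ≤ f) (hp2 : p ≠ 2) : (∃ r, PP (p ^ f) 6 r ∧ 6 * f < r) ∧
    ∃ s, PP (p ^ f) 8 s := by
  constructor
  · obtain ⟨r, hr⟩ := exists_pp (q := p) (e := f * 6) hp.two_le (by omega) (fun h => hp2 h.1)
    exact ⟨r, hr.of_pow hf, by have := hr.lt (by omega); omega⟩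
  · obtain ⟨r, hr⟩ := exists_pp (q := p) (e := f * 8) hp.two_le (by omega) (fun h => hp2 h.1)
    exact ⟨r, hr.of_pow hf⟩

/-- the socle `PΩ⁻_8(q)` in `T` -/
theorem ordGap_ominus_four [Finite T] {R : Subgroup T} (hp : p.Prime) (hp2 : p ≠ 2) (hf : 1 ≤ f)
    (hT : IsNamed (.oodd 4 (p ^ f)) T ∨ IsNamed (.psp 4 (p ^ f)) T) (S : Subgroup R) [S.Normal]
    (hC : Subgroup.centralizer (S : Set R) = ⊥) (hS : IsNamed (.ominus 4 (p ^ f)) S) : OrdGap T R := by
  haveI : Fact p.Prime := ⟨hp⟩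
  obtain ⟨⟨r, hr, hlt⟩, s, hs⟩ := exists_ppp' hp hf hp2
  have hq : 1 ≤ p ^ f := Nat.one_le_pow _ _ hp.pos
  obtain ⟨x, hx⟩ : ∃ g : T, orderOf g = p * r := by
    rcases hT with h | h
    · exact exists_oodd9_pr hp hf hr h
    · exact exists_psp8_pr hp hf hr h
  have hsS : s ∣ Nat.card S := by
    refine IsNamed.dvd hS hs.prime ?_ ?_
    · exact (((dvd_pow_add_one hq (e := 4) (by omega) hs).mul_right _).mul_left _)
    · intro h
      have h1 : s ∣ 4 := h.trans (Nat.gcd_dvd_left _ _)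
      have h2 := Nat.le_of_dvd (by norm_num) h1
      have := hs.lt (by omega)
      omega
  have hpi : ¬ p ∣ S.index := Frat.not_dvd_index S hs.prime hsS hp fun P hP hP1 y hy => by
    rcases hT with h | h
    · exact oodd9_norm hp hp2 hf hs h P hP hP1 y hy
    · exact psp8_norm hp hp2 hf hs h P hP hP1 y hy
  obtain ⟨F, _, _, a, b, hF, hab, ⟨e⟩⟩ := hS.real
  haveI := charP_of hp hf hF
  have hodd : Odd (Fintype.card F) := by rw [hF]; exact (hp.odd_of_ne_two hp2).pow
  have h2 : (2 : F) ≠ 0 := H390.two_ne_zero_of_odd hodd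
  have hri : ¬ r ∣ S.index := by
    have h3 := Cfsg.Agent.S0818.result p f hf hF 4 (by omega) a b hab
    rw [← Nat.card_congr e.toEquiv, ← Nat.card_congr (MulAut.congr e).toEquiv] at h3
    have h4 := Sax.index_dvd S hC h3
    intro h5
    have h6 : r ∣ 8 * f := (h5.trans h4).trans (Nat.mul_dvd_mul_right (by split_ifs <;> decide) f)
    rcases hr.prime.dvd_mul.1 h6 with h7 | h7
    · have h8 : r ∣ 2 := hr.prime.dvd_of_dvd_pow (show r ∣ 2 ^ 3 from h7)
      have := Nat.le_of_dvd (by norm_num) h8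
      omega
    · have := Nat.le_of_dvd (by omega) h7
      omega
  have hco : (p * r).Coprime S.index :=
    Nat.Coprime.mul_left ((Nat.Prime.coprime_iff_not_dvd hp).2 hpi) ((Nat.Prime.coprime_iff_not_dvd hr.prime).2 hri)
  refine ordGap_of hx fun m hm ho => ?_
  have h1 : orderOf (⟨m, hm⟩ : R) = p * r := by rw [← ho, ← Subgroup.orderOf_coe]
  have h3 := mem_of_coprime_index S hco h1
  have h4 : orderOf (e ⟨⟨m, hm⟩, h3⟩) = p * r := by
    have h6 : orderOf (e ⟨⟨m, hm⟩, h3⟩) = orderOf (⟨⟨m, hm⟩, h3⟩ : S) :=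
      orderOf_injective e.toMonoidHom e.injective _
    rw [h6, ← h1, Subgroup.orderOf_mk]
  have h5 : ∀ m : POmega F (⇑(quadMinus (4 - 1) F a b)), orderOf m ≠ p * r := fun m =>
    pomega_no_pr h2 (nondeg_iff.2 (quadMinus_nondegenerate hab)) (data_minus (by omega) hab) hp2
      (by rw [Nat.card_eq_fintype_card, hF]; exact hr) (by omega) (by rw [card_minus (by omega)]) m
  rw [coe_quadMinus] at h5
  exact h5 _ h4

section charp

variable {n : ℕ} {g : Grp} [Finite T] {R : Subgroup T}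

/-- **`T = PSp_{2n}(q)`, `n ≥ 3`, `(n, p) ≠ (4, 2)`.** -/
theorem charp_psp_gap' (hT : IsNamed (.psp n (p ^ f)) T) (hp : p.Prime) (hf : 1 ≤ f) (hn : 3 ≤ n)
    (hn4 : ¬ (n = 4 ∧ p = 2))
    (hex1 : ¬ (p = 2 ∧ f * (2 * n) = 6)) (hR : R ≠ ⊤) (S : Subgroup R) [S.Normal] [IsSimpleGroup S]
    (hna : ¬ IsMulCommutative S) (hC : Subgroup.centralizer (S : Set R) = ⊥) (hS : IsNamed g S)
    (hch : HasChar p g) : OrdGap T R := by
  by_cases h4 : n = 4
  · subst h4
    by_cases hfull : Full T R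
    · obtain ⟨h1, rfl⟩ := full_psp hT hp hf hn hex1 (fun h => hn4 ⟨rfl, h.1⟩) hR hfull S hna hC hS hch
      exact ordGap_ominus_four hp (fun h => hn4 ⟨rfl, h⟩) hf (Or.inr hT) S hC hS
    · exact (pgap_of_not_full hfull).ordGap
  · exact charp_psp_gap hT hp hf hn h4 hex1 hR S hna hC hS hch

/-- **`T = Ω_{2n+1}(q)`, `n ≥ 3`.** -/
theorem charp_oodd_gap' (hT : IsNamed (.oodd n (p ^ f)) T) (hp : p.Prime) (hf : 1 ≤ f) (hn : 3 ≤ n)
    (hR : R ≠ ⊤) (S : Subgroup R) [S.Normal] [IsSimpleGroup S]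
    (hna : ¬ IsMulCommutative S) (hC : Subgroup.centralizer (S : Set R) = ⊥) (hS : IsNamed g S)
    (hch : HasChar p g) : OrdGap T R := by
  by_cases h4 : n = 4
  · subst h4
    by_cases hfull : Full T R
    · obtain ⟨h1, rfl⟩ := full_oodd hT hp hf hn hR hfull S hna hC hS hch
      refine ordGap_ominus_four hp ?_ hf (Or.inl hT) S hC hS
      rintro rfl
      have := hT.cond.2.1
      rw [Nat.odd_pow_iff (by omega)] at this
      exact absurd this (by decide)
    · exact (pgap_of_not_full hfull).ordGap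
  · exact charp_oodd_gap hT hp hf hn h4 hR S hna hC hS hch

end charp

end rows

/-- geometric subgroups of `Ω_9(q)` -/
theorem odd_row_four {F : Type} [Field F] [Fintype F] (hodd : Odd (Fintype.card F))
    (M : Subgroup (POmega F (quadFormOdd 4 F))) :
    OrdGap (POmega F (quadFormOdd 4 F)) M ∨ InOrthogonalResidualClass (pre (quadFormOdd 4 F) M) := by
  have h2 := H390.two_ne_zero_of_odd hodd
  obtain ⟨p, f, hp, hf, hpf⟩ := exists_char F
  rw [Nat.card_eq_fintype_card] at hpf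
  haveI : Fact p.Prime := ⟨hp⟩
  haveI := charP_of hp hf hpf
  have hp2 : p ≠ 2 := by
    rintro rfl
    rw [hpf, Nat.odd_pow_iff (by omega)] at hodd
    exact absurd hodd (by decide)
  obtain ⟨⟨r, hr, -⟩, -⟩ := exists_ppp' hp hf hp2
  have hex : ∃ g : POmega F (quadFormOdd 4 F), orderOf g = p * r := by
    have hT : IsNamed (.oodd 4 (p ^ f)) (POmega F (quadFormOdd 4 F)) :=
      .mk' ⟨F, inferInstance, inferInstance, hpf, ⟨MulEquiv.refl _⟩⟩ ⟨by omega, hpf ▸ hodd, hpf ▸
        Fintype.isPrimePow_card_of_field⟩ (by rw [← hpf]; exact oodd_eq (by omega) hodd)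
    exact exists_oodd9_pr hp hf hr hT
  have h : ∀ M : Subgroup (POmega F (⇑(quadOdd 4 F))),
      OrdGap (POmega F (⇑(quadOdd 4 F))) M ∨ InOrthogonalResidualClass (pre (⇑(quadOdd 4 F)) M) := by
    intro M
    rcases odd_miss h2 (by omega) (card_odd 4) (nondeg_iff.2 (quadOdd_nondegenerate h2)) (data_odd (by omega) h2) M with
      h | h | ⟨-, v, hv, hMv, hP⟩
    · exact Or.inl (PGap.ordGap h)
    · exact Or.inr h
    · left
      rw [← coe_quadOdd] at hex
      obtain ⟨g, hg⟩ := hex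
      refine ordGap_of hg fun x hx => ?_
      exact point_no_pr h2 (nondeg_iff.2 (quadOdd_nondegenerate h2)) (data_odd (by omega) h2) hp2
        (by rw [Nat.card_eq_fintype_card, hpf]; exact hr) (by omega) (by rw [card_odd]) hv hMv x hx
  rw [coe_quadOdd] at h
  exact h M

end Cfsg.Agent.H938.Sax
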