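import Cfsg.Agent.H357.NT

/-!
# Sums of distinct odd primes larger than `j` in `(n - j, n]` (helper938)

For `1 ≤ j`, `2 j < n`, `5 ≤ n` and `(n, j) ≠ (6, 1), (9, 1), (10, 3)`.
(S2528: element orders of the alternating groups.)
-/

set_option autoImplicit false

namespace Cfsg.Agent.H938.Sax

open Finset Cfsg.Agent.H357.Cheb Cfsg.Agent.H357.NT

/-- a sum of distinct odd primes larger than `j` lies in `(n - j, n]` -/
def Hit (n j : ℕ) : Prop :=
  ∃ P : Finset ℕ, (∀ p ∈ P, p.Prime ∧ p ≠ 2 ∧ j < p) ∧ ∑ p ∈ P, p ≤ n ∧ n < ∑ p ∈ P, p + j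

def wit : List (List ℕ) := [
[5], [7], [3, 5], [3, 7], [11], [5, 7], [13], [3, 11], [3, 5, 7], [5, 11], [17], [5, 13], [19], [3,
17], [3, 5, 13], [5, 17], [23], [11, 13], [3, 5, 17], [7, 19], [3, 5, 19], [5, 23], [29], [7, 23],
[31], [3, 29], [3, 7, 23], [11, 23], [3, 13, 19], [5, 31], [37], [7, 31], [3, 5, 31], [11, 29],
[41], [5, 37], [43], [3, 41], [5, 11, 29], [3, 43], [47], [5, 43], [3, 5, 41], [13, 37], [3, 5, 43],
[5, 47], [53], [7, 47], [3, 5, 47], [13, 43], [3, 7, 47], [5, 53], [59], [7, 53], [61], [3, 59], [3,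
7, 53], [11, 53], [3, 19, 43], [5, 61], [67], [7, 61], [5, 11, 53], [3, 67], [71], [5, 67], [73],
[31, 43], [3, 5, 67], [5, 71], [3, 7, 67], [11, 67], [79], [7, 73], [3, 5, 73], [23, 59], [83], [5,
79], [3, 11, 71], [7, 79], [3, 5, 79], [5, 83], [89], [7, 83], [5, 7, 79], [3, 89], [11, 23, 59],
[5, 89], [5, 7, 83], [7, 89], [97], [19, 79], [5, 11, 83], [3, 97], [101], [5, 97], [103], [3, 101],
[3, 5, 97], [47, 59], [107], [5, 103], [109], [13, 97], [3, 5, 103], [3, 109], [113], [5, 109], [31,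
37, 47], [3, 113], [3, 5, 109], [29, 89], [3, 7, 109], [7, 113], [3, 5, 113], [37, 103], [163]]

def hitB (n j : ℕ) : Bool :=
  wit.any fun l => Nat.ble l.sum n && Nat.blt n (l.sum + j) && incP j l

def chkN (n : ℕ) : Bool :=
  (List.range n).all fun j =>
    Nat.beq j 0 || Nat.ble n (2 * j) || (Nat.beq n 6 && Nat.beq j 1) || (Nat.beq n 9 && Nat.beq j 1) ||
      (Nat.beq n 10 && Nat.beq j 3) || (Nat.blt 40 n && Nat.ble n (5 * j)) ||
      (Nat.blt 121 n && Nat.blt (6 * j) n) || (Nat.blt 121 n && Nat.blt 32 j) || hitB n j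

theorem chkN_ok : ((List.range 200).all fun n => Nat.ble n 4 || chkN n) = true := by decide +kernel

theorem hit_of_hitB {n j : ℕ} (h : hitB n j = true) : Hit n j := by
  unfold hitB at h
  rw [List.any_eq_true] at h
  obtain ⟨l, -, h⟩ := h
  simp only [Bool.and_eq_true, Nat.ble_eq, Nat.blt_eq] at h
  obtain ⟨⟨h1, h2⟩, h3⟩ := h
  obtain ⟨h4, h5⟩ := incP_spec l j h3
  refine ⟨⟨(l : Multiset ℕ), h4⟩, fun p hp => ?_, ?_, ?_⟩
  · have hp' : p ∈ l := hp
    exact ⟨(h5 p hp').2.1, (h5 p hp').2.2, (h5 p hp').1⟩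
  · refine le_trans (le_of_eq ?_) h1
    simp [Finset.sum]
  · refine lt_of_lt_of_le h2 (le_of_eq ?_)
    simp [Finset.sum]

theorem hit_of_prime {n j p : ℕ} (hp : p.Prime) (h2 : p ≠ 2) (hj : j < p) (h3 : p ≤ n) (h4 : n < p + j) :
    Hit n j :=
  ⟨{p}, by simp [hp, h2, hj], by simpa using h3, by simpa using h4⟩

theorem hit_five {n j : ℕ} (hn : 41 ≤ n) (h : n ≤ 5 * j) (hj : 2 * j < n) : Hit n j := by
  obtain ⟨r, s, hr, hs, h1, h2, h3⟩ := two_primes hn
  exact hit_of_prime hr (by omega) (by omega) (by omega) (by omega)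

theorem hit_six {n j : ℕ} (hj : 33 ≤ j) (h5 : 5 * j < n) (h6 : n ≤ 6 * j) : Hit n j := by
  obtain ⟨p, s, hp, -, h1, h2, h3⟩ := two_primes (n := (5 * j + 3) / 4) (by omega)
  have hjp : j < p := by omega
  have hp2 : 4 * p ≤ 5 * j + 3 := by omega
  obtain ⟨q, s', hq, -, k1, k2, k3⟩ := two_primes (n := n - p) (by omega)
  have hpq : p ≠ q := by omega
  refine ⟨{p, q}, ?_, ?_, ?_⟩
  · intro x hx
    rw [Finset.mem_insert, Finset.mem_singleton] at hx
    rcases hx with rfl | rfl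
    · exact ⟨hp, by omega, hjp⟩
    · exact ⟨hq, by omega, by omega⟩
  · rw [Finset.sum_pair hpq]; omega
  · rw [Finset.sum_pair hpq]; omega

theorem hit_step {n j q : ℕ} (hq : q.Prime) (h1 : n < 2 * q) (h2 : q ≤ n) (hq2 : q ≠ 2) (hjq : j < q)
    (h : Hit (n - q) j) : Hit n j := by
  obtain ⟨P, hP, hs, hs'⟩ := h
  have hqP : q ∉ P := fun hmem => by
    have h5 : q ≤ ∑ x ∈ P, x := Finset.single_le_sum (f := fun x : ℕ => x) (fun i _ => Nat.zero_le i) hmem
    omega
  refine ⟨insert q P, fun x hx => ?_, ?_, ?_⟩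
  · rcases Finset.mem_insert.1 hx with rfl | hx
    · exact ⟨hq, hq2, hjq⟩
    · exact hP x hx
  · rw [Finset.sum_insert hqP]; omega
  · rw [Finset.sum_insert hqP]; omega

/-- **Main number theoretic statement.** -/
theorem hit {n j : ℕ} (hn : 5 ≤ n) (hj : 1 ≤ j) (hjn : 2 * j < n) (h1 : ¬ (n = 6 ∧ j = 1))
    (h2 : ¬ (n = 9 ∧ j = 1)) (h3 : ¬ (n = 10 ∧ j = 3)) : Hit n j := by
  induction n using Nat.strong_induction_on with
  | _ n ih =>
  by_cases hb : 41 ≤ n ∧ n ≤ 5 * j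
  · exact hit_five hb.1 hb.2 hjn
  by_cases hc : 33 ≤ j ∧ 5 * j < n ∧ n ≤ 6 * j
  · exact hit_six hc.1 hc.2.1 hc.2.2
  by_cases hd : 121 < n ∧ 6 * j < n
  · obtain ⟨q, s, hq, -, k1, k2, k3⟩ := two_primes (n := n - 2 * j - 5 - (if j = 1 then 5 else 0)) (by split_ifs <;> omega)
    have e1 : (if j = 1 then 5 else 0) ≤ 5 := by split_ifs <;> omega
    have e2 : j = 1 → (if j = 1 then 5 else 0) = 5 := fun h => if_pos h
    have e3 : j ≠ 1 → (if j = 1 then 5 else 0) = 0 := fun h => if_neg h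
    generalize (if j = 1 then 5 else 0) = c at k1 k3 e1 e2 e3
    refine hit_step hq (by omega) (by omega) (by omega) (by omega) ?_
    exact ih (n - q) (by omega) (by omega) (by omega) (by omega) (by omega) (by omega)
  · have hn200 : n < 200 := by omega
    have h := chkN_ok
    rw [List.all_eq_true] at h
    have h := h n (List.mem_range.2 hn200)
    rw [Bool.or_eq_true, Nat.ble_eq] at h
    have h := h.resolve_left (by omega)
    unfold chkN at h
    rw [List.all_eq_true] at h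
    have h := h j (List.mem_range.2 (by omega))
    simp only [Bool.or_eq_true, Bool.and_eq_true, Nat.beq_eq, Nat.ble_eq, Nat.blt_eq] at h
    rcases h with (((((((h | h) | h) | h) | h) | h) | h) | h) | h
    · omega
    · omega
    · exact absurd h h1
    · exact absurd h h2
    · exact absurd h h3
    · omega
    · omega
    · omega
    · exact hit_of_hitB h

end Cfsg.Agent.H938.Sax
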