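import Cfsg.Agent.H938.Sax.Base
import Cfsg.Agent.H938.Sax.Gap
import Cfsg.Agent.H278.ElAlt
import Cfsg.Agent.H357.PermOrd
import Cfsg.Agent.H100.AltSyl.Back

/-!
# Every proper subgroup of an alternating group misses an element order (helper938)
-/

set_option autoImplicit false

namespace Cfsg.Agent.H938.Sax.Alt

open MulAction Equiv Equiv.Perm Cfsg.Agent.H396 Cfsg.Agent.H394.SqBasic
open scoped Pointwise

/-- the length of an orbit inside `Δ`. -/
theorem period_le {n : ℕ} (σ : Perm (Fin n)) (Δ : Finset (Fin n)) (hΔ : ∀ x ∈ Δ, σ x ∈ Δ) {x : Fin n}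
    (hx : x ∈ Δ) : Function.minimalPeriod σ x ≤ Δ.card ∧ Function.minimalPeriod σ x ∣ orderOf σ := by
  have hmem : ∀ k : ℕ, σ^[k] x ∈ Δ := by
    intro k
    induction k with
    | zero => exact hx
    | succ k ih => rw [Function.iterate_succ_apply']; exact hΔ _ ih
  constructor
  · have h1 := Function.iterate_injOn_Iio_minimalPeriod (f := σ) (x := x)
    have h2 : (Finset.range (Function.minimalPeriod σ x)).card ≤ Δ.card := by
      apply Finset.card_le_card_of_injOn (fun k => σ^[k] x)
      · intro k _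
        exact hmem k
      · intro a ha b hb hab
        exact h1 (by simpa using ha) (by simpa using hb) hab
    simpa using h2
  · apply Function.IsPeriodicPt.minimalPeriod_dvd
    show σ^[orderOf σ] x = x
    rw [← Perm.coe_pow, pow_orderOf_eq_one]
    rfl

theorem fixed_of {n : ℕ} (σ : Perm (Fin n)) (Δ : Finset (Fin n)) (hΔ : ∀ x ∈ Δ, σ x ∈ Δ)
    (hord : ∀ p : ℕ, p.Prime → p ∣ orderOf σ → Δ.card < p) : ∀ x ∈ Δ, σ x = x := by
  intro x hx
  obtain ⟨h1, h2⟩ := period_le σ Δ hΔ hx
  have h3 : Function.minimalPeriod σ x = 1 := by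
    by_contra hne
    obtain ⟨p, hp, hpd⟩ := Nat.exists_prime_and_dvd hne
    have h4 := hord p hp (hpd.trans h2)
    have h5 : 0 < Function.minimalPeriod σ x := Nat.pos_of_dvd_of_pos h2 (orderOf_pos σ)
    have := Nat.le_of_dvd h5 hpd
    omega
  exact Function.minimalPeriod_eq_one_iff_isFixedPt.1 h3

theorem sum_le_support {n : ℕ} (σ : Perm (Fin n)) {P : Finset ℕ}
    (hP : ∀ p ∈ P, p.Prime ∧ p ∣ orderOf σ) : ∑ p ∈ P, p ≤ σ.support.card := by
  rw [← Perm.sum_cycleType]
  exact Cfsg.Agent.H357.PermOrd.sum_le_of_dvd_lcm σ.cycleType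
    (fun a ha => lt_of_lt_of_le two_pos (Perm.two_le_of_mem_cycleType ha)) P
    (fun p hp => by rw [Perm.lcm_cycleType]; exact hP p hp)

theorem support_le {n : ℕ} (σ : Perm (Fin n)) (Δ : Finset (Fin n)) (h : ∀ x ∈ Δ, σ x = x) :
    σ.support.card + Δ.card ≤ n := by
  have h1 : Disjoint σ.support Δ := by
    rw [Finset.disjoint_left]
    intro x hx hx'
    exact Perm.mem_support.1 hx (h x hx')
  rw [← Finset.card_union_of_disjoint h1]
  simpa using (σ.support ∪ Δ).card_le_univ

/-- a permutation of order `9` has a cycle of length `9`. -/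
theorem nine_of {n : ℕ} (σ : Perm (Fin n)) (h9 : orderOf σ = 9) (Δ : Finset (Fin n))
    (hΔ : ∀ x ∈ Δ, σ x ∈ Δ) (h3 : Δ.card ≤ 3) : 9 + Δ.card ≤ n := by
  have h1 : ∃ a ∈ σ.cycleType, a = 9 := by
    by_contra hcon
    push Not at hcon
    have h2 : orderOf σ ∣ 3 := by
      rw [← Perm.lcm_cycleType, Multiset.lcm_dvd]
      intro a ha
      have h4 : a ∣ 9 := by rw [← h9]; exact Perm.dvd_of_mem_cycleType ha
      have h5 : a ≤ 9 := Nat.le_of_dvd (by norm_num) h4
      have h6 := hcon a ha
      interval_cases a <;> first | decide | (exact absurd h4 (by decide)) | omega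
    rw [h9] at h2
    exact absurd h2 (by decide)
  obtain ⟨a, ha, rfl⟩ := h1
  obtain ⟨c, τ, hσ, hd, hc, hcard⟩ := Perm.mem_cycleType_iff.1 ha
  have hdis : Disjoint c.support Δ := by
    rw [Finset.disjoint_left]
    intro x hx hxΔ
    obtain ⟨h4, h5⟩ := period_le σ Δ hΔ hxΔ
    rw [h9] at h5
    have h6 : Function.minimalPeriod σ x ∣ 3 := by
      have h7 : Function.minimalPeriod σ x ≤ 3 := h4.trans h3
      generalize Function.minimalPeriod σ x = d at h5 h7
      interval_cases d <;> first | decide | (exact absurd h5 (by decide))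
    have h7 : (σ ^ 3) x = x := by
      rw [Perm.coe_pow]
      exact Function.isPeriodicPt_iff_minimalPeriod_dvd.2 h6
    rw [hσ, hd.commute.mul_pow] at h7
    have h8 : τ x = x := (hd x).resolve_left (Perm.mem_support.1 hx)
    rw [Perm.mul_apply, Perm.pow_apply_eq_self_of_apply_eq_self h8] at h7
    have h9' : c ^ 3 = 1 := (hc.pow_eq_one_iff).2 ⟨x, Perm.mem_support.1 hx, h7⟩
    have h10 := orderOf_dvd_of_pow_eq_one h9'
    rw [hc.orderOf, hcard] at h10
    exact absurd h10 (by decide)
  rw [← hcard, ← Finset.card_union_of_disjoint hdis]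
  simpa using (c.support ∪ Δ).card_le_univ

theorem exists_nine {n : ℕ} (hn : 9 ≤ n) : ∃ g : alternatingGroup (Fin n), orderOf g = 9 := by
  obtain ⟨σ, hσ⟩ := (Perm.exists_with_cycleType_iff (Fin n) (m := {9})).2 ⟨by simpa using hn, by simp⟩
  refine ⟨⟨σ, ?_⟩, ?_⟩
  · rw [Perm.mem_alternatingGroup, Perm.sign_of_cycleType, hσ]
    simp only [Multiset.sum_singleton, Multiset.card_singleton]
    decide
  · rw [← Subgroup.orderOf_coe]
    change orderOf σ = 9
    rw [← Perm.lcm_cycleType, hσ]
    simp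

section

variable {n : ℕ} {M : Subgroup (alternatingGroup (Fin n))}

/-- Intransitive case. -/
theorem intrans (hn : 7 ≤ n) (hall : ¬ OrdGap _ M)
    (Δ : Finset (Fin n)) (hΔ1 : 1 ≤ Δ.card) (hΔ2 : 2 * Δ.card ≤ n)
    (hinv : ∀ g ∈ M, ∀ x ∈ Δ, (g : Perm (Fin n)) x ∈ Δ) : False := by
  rcases Nat.lt_or_ge (2 * Δ.card) n with hlt | hge
  · by_cases h9 : (n = 9 ∧ Δ.card = 1) ∨ (n = 10 ∧ Δ.card = 3)
    · obtain ⟨g, hg⟩ := exists_nine (n := n) (by omega)
      obtain ⟨m, hm, ho⟩ := exists_order_of_not_ordGap hall g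
      have h1 := nine_of (m : Perm (Fin n)) (by rw [Subgroup.orderOf_coe, ho, hg]) Δ
        (fun x hx => hinv m hm x hx) (by omega)
      omega
    · obtain ⟨P, hP, hs, hs'⟩ := hit (n := n) (j := Δ.card) (by omega) hΔ1 hlt (by omega) (by omega) (by omega)
      obtain ⟨g, hg⟩ := Cfsg.Agent.H357.PermOrd.exists_order_prod (P := P)
        (fun p hp => ⟨(hP p hp).1, (hP p hp).2.1⟩) hs
      obtain ⟨m, hm, ho⟩ := exists_order_of_not_ordGap hall g
      have ho' : orderOf (m : Perm (Fin n)) = ∏ p ∈ P, p := by rw [Subgroup.orderOf_coe, ho, hg]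
      have hfix := fixed_of (m : Perm (Fin n)) Δ (fun x hx => hinv m hm x hx) (by
        intro p hp hpd
        rw [ho'] at hpd
        obtain ⟨q, hq, hpq⟩ := (hp.prime.dvd_finsetProd_iff _).1 hpd
        have := (Nat.prime_dvd_prime_iff_eq hp (hP q hq).1).1 hpq
        rw [this]
        exact (hP q hq).2.2)
      have h1 := support_le _ _ hfix
      have h2 := sum_le_support (m : Perm (Fin n)) (P := P) (fun p hp =>
        ⟨(hP p hp).1, by rw [ho']; exact Finset.dvd_prod_of_mem _ hp⟩)
      omega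
  · obtain ⟨l, hl, hl1, hl2⟩ := Nat.exists_prime_lt_and_le_two_mul (n / 2) (by omega)
    obtain ⟨g, hg, ho⟩ := Cfsg.Agent.H394.SqAlt.exists_full n l hl (by omega) (by omega)
    obtain ⟨m, hm, ho'⟩ := exists_order_of_not_ordGap hall g
    have ho2 : orderOf (m : Perm (Fin n)) = l := by rw [Subgroup.orderOf_coe, ho', ho]
    have hfix1 := fixed_of (m : Perm (Fin n)) Δ (fun x hx => hinv m hm x hx) (by
      intro p hp hpd
      rw [ho2, Nat.prime_dvd_prime_iff_eq hp hl] at hpd
      omega)
    have hfix2 := fixed_of (m : Perm (Fin n)) Δᶜ (fun x hx => by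
        rw [Finset.mem_compl] at hx ⊢
        intro h
        apply hx
        have := hinv m⁻¹ (inv_mem hm) _ h
        rwa [Subgroup.coe_inv, Equiv.Perm.inv_def, Equiv.symm_apply_apply] at this) (by
      intro p hp hpd
      rw [ho2, Nat.prime_dvd_prime_iff_eq hp hl] at hpd
      rw [Finset.card_compl, Fintype.card_fin]
      omega)
    have h1 : (m : Perm (Fin n)) = 1 := by
      ext1 x
      by_cases hx : x ∈ Δ
      · exact hfix1 x hx
      · exact hfix2 x (Finset.mem_compl.2 hx)
    rw [h1, orderOf_one] at ho2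
    exact hl.one_lt.ne ho2

/-- Transitivity. -/
theorem trans_of (hn : 7 ≤ n) (hall : ¬ OrdGap _ M) :
    IsPretransitive (M.map (alternatingGroup (Fin n)).subtype) (Fin n) := by
  classical
  by_contra hcon
  set M' := M.map (alternatingGroup (Fin n)).subtype with hM'
  have hex : ∃ x y : Fin n, y ∉ orbit M' x := by
    by_contra h
    push Not at h
    apply hcon
    exact ⟨fun x y => h x y⟩
  obtain ⟨x, y, hy⟩ := hex
  let Δ : Finset (Fin n) := (orbit M' x).toFinset
  have hinv : ∀ g ∈ M, ∀ z ∈ Δ, (g : Perm (Fin n)) z ∈ Δ := by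
    intro g hg z hz
    rw [Set.mem_toFinset] at hz ⊢
    obtain ⟨m, rfl⟩ := hz
    have hgM : (g : Perm (Fin n)) ∈ M' := ⟨g, hg, rfl⟩
    refine ⟨⟨(g : Perm (Fin n)), hgM⟩ * m, ?_⟩
    show ((⟨(g : Perm (Fin n)), hgM⟩ * m : M') • x : Fin n) = _
    rw [mul_smul]
    rfl
  have hinv' : ∀ g ∈ M, ∀ z ∈ Δᶜ, (g : Perm (Fin n)) z ∈ Δᶜ := by
    intro g hg z hz
    rw [Finset.mem_compl] at hz ⊢
    intro h
    apply hz
    have := hinv g⁻¹ (inv_mem hg) _ h
    rw [Subgroup.coe_inv, Equiv.Perm.inv_def, Equiv.symm_apply_apply] at this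
    exact this
  have hx : x ∈ Δ := by rw [Set.mem_toFinset]; exact mem_orbit_self x
  have hy' : y ∈ Δᶜ := by rw [Finset.mem_compl, Set.mem_toFinset]; exact hy
  have hc : Δᶜ.card = n - Δ.card := by rw [Finset.card_compl, Fintype.card_fin]
  have h1 : 1 ≤ Δ.card := Finset.card_pos.2 ⟨x, hx⟩
  have h2 : 1 ≤ Δᶜ.card := Finset.card_pos.2 ⟨y, hy'⟩
  rcases Nat.lt_or_ge n (2 * Δ.card) with h | h
  · exact intrans hn hall Δᶜ h2 (by omega) hinv'
  · exact intrans hn hall Δ h1 h hinv

/-- Primitivity. -/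
theorem prim_of (hn : 7 ≤ n) (hall : ¬ OrdGap _ M) :
    IsPreprimitive (M.map (alternatingGroup (Fin n)).subtype) (Fin n) := by
  classical
  have htr := trans_of hn hall
  set M' := M.map (alternatingGroup (Fin n)).subtype with hM'
  obtain ⟨l, hl, hl1, hl2⟩ := Nat.exists_prime_lt_and_le_two_mul (n / 2) (by omega)
  have hln : l ≤ n := by omega
  have h2l : n < 2 * l := by omega
  obtain ⟨g, hg, ho⟩ := Cfsg.Agent.H394.SqAlt.exists_full n l hl (by omega) hln
  obtain ⟨h, hhM, ho'⟩ := exists_order_of_not_ordGap hall g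
  have ho2 : orderOf (h : Perm (Fin n)) = l := by rw [Subgroup.orderOf_coe, ho', ho]
  have hhl : (h : Perm (Fin n)) ^ l = 1 := by rw [← ho2]; exact pow_orderOf_eq_one _
  have hh1 : (h : Perm (Fin n)) ≠ 1 := by
    intro h1
    rw [h1, orderOf_one] at ho2
    exact hl.one_lt.ne ho2
  let hM : M' := ⟨(h : Perm (Fin n)), ⟨h, hhM, rfl⟩⟩
  have hMl : hM ^ l = 1 := Subtype.ext hhl
  have hne : Nonempty (Fin n) := ⟨⟨0, by omega⟩⟩
  refine ⟨fun {B} hB => ?_⟩
  by_contra hnt
  rw [IsTrivialBlock, not_or] at hnt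
  obtain ⟨hns, hnu⟩ := hnt
  have hBne : B.Nonempty := by
    by_contra h0
    rw [Set.not_nonempty_iff_eq_empty] at h0
    exact hns (h0 ▸ Set.subsingleton_empty)
  have hcard := hB.ncard_block_mul_ncard_orbit_eq hBne
  have hcn : Nat.card (Fin n) = n := by rw [Nat.card_eq_fintype_card, Fintype.card_fin]
  rw [hcn] at hcard
  have hB2 : 2 ≤ B.ncard := by
    rw [Nat.succ_le_iff, Set.one_lt_ncard (Set.toFinite B)]
    rw [Set.not_subsingleton_iff] at hns
    obtain ⟨a, ha, b, hb, hab⟩ := hns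
    exact ⟨a, ha, b, hb, hab⟩
  have hO2 : 2 ≤ (orbit M' B).ncard := by
    by_contra hlt
    have h1 : (orbit M' B).ncard = 0 ∨ (orbit M' B).ncard = 1 := by omega
    rcases h1 with h1 | h1
    · rw [h1] at hcard; omega
    · rw [h1, mul_one] at hcard
      apply hnu
      apply Set.eq_of_subset_of_ncard_le (Set.subset_univ B)
      rw [Set.ncard_univ, hcn, hcard]
  have hO : (orbit M' B).ncard < l := by
    by_contra hge
    push Not at hge
    have : 2 * l ≤ B.ncard * (orbit M' B).ncard := Nat.mul_le_mul hB2 hge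
    omega
  have hBl : B.ncard < l := by
    by_contra hge
    push Not at hge
    have : l * 2 ≤ B.ncard * (orbit M' B).ncard := Nat.mul_le_mul hge hO2
    omega
  have hfixB : ∀ C ∈ orbit M' B, hM • C = C := by
    intro C hC
    refine fix_of_lt hl hMl (orbit M' B) (Set.toFinite _) ?_ hO C hC
    intro D hD
    exact MulAction.mem_orbit_of_mem_orbit hM hD
  apply hh1
  ext x : 1
  obtain ⟨b, hb⟩ := hBne
  obtain ⟨m, hm⟩ := htr.exists_smul_eq b x
  have hx : x ∈ m • B := by rw [← hm]; exact Set.smul_mem_smul_set hb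
  have h1 := hfixB (m • B) ⟨m, rfl⟩
  have h2 := fix_of_lt hl hMl (m • B) (Set.toFinite _) (fun y hy => by
    have : hM • y ∈ hM • (m • B) := Set.smul_mem_smul_set hy
    rwa [h1] at this) (by rw [Set.ncard_smul_set]; exact hBl) x hx
  exact h2

end

/-- a prime in `(n/2, n - 3]` -/
theorem exists_prime {n : ℕ} (hn : 8 ≤ n) : ∃ p : ℕ, p.Prime ∧ n < 2 * p ∧ p + 3 ≤ n := by
  by_cases h : 44 ≤ n
  · obtain ⟨r, s, hr, -, h1, h2, h3⟩ := Cfsg.Agent.H357.NT.two_primes (n := n - 3) (by omega)
    exact ⟨r, hr, by omega, by omega⟩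
  · have key : ∀ n < 44, 8 ≤ n → ∃ p < 44, Nat.Prime p ∧ n < 2 * p ∧ p + 3 ≤ n := by decide
    obtain ⟨p, -, hp⟩ := key n (by omega) hn
    exact ⟨p, hp⟩

theorem ordGap_large {n : ℕ} (hn : 8 ≤ n) (M : Subgroup (alternatingGroup (Fin n))) (hM : M ≠ ⊤) :
    OrdGap _ M := by
  by_contra hall
  have hprim := prim_of (by omega) hall
  obtain ⟨p, hp, hp1, hp2⟩ := exists_prime hn
  obtain ⟨g, hg, ho⟩ := Cfsg.Agent.H394.SqAlt.exists_full n p hp (by omega) (by omega)
  obtain ⟨h, hhM, ho'⟩ := exists_order_of_not_ordGap hall g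
  have ho2 : orderOf (h : Perm (Fin n)) = p := by rw [Subgroup.orderOf_coe, ho', ho]
  have hcyc : (h : Perm (Fin n)).cycleType = {p} := by
    obtain ⟨k, hk⟩ := cycleType_prime_order (σ := (h : Perm (Fin n))) (by rw [ho2]; exact hp)
    rw [ho2] at hk
    have h1 := sum_cycleType (h : Perm (Fin n))
    rw [hk, Multiset.sum_replicate, smul_eq_mul] at h1
    have h0 : (h : Perm (Fin n)).support.card ≤ n := by
      simpa using (h : Perm (Fin n)).support.card_le_univ
    have h2 : k = 0 := by
      by_contra hne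
      have h3 : 2 ≤ k + 1 := by omega
      have h4 : 2 * p ≤ (k + 1) * p := Nat.mul_le_mul_right _ h3
      omega
    rw [hk, h2]
    rfl
  have hC : (h : Perm (Fin n)).IsCycle := by
    rw [← card_cycleType_eq_one, hcyc]
    rfl
  have hS : (h : Perm (Fin n)).support.card = p := by
    rw [← sum_cycleType, hcyc, Multiset.sum_singleton]
  have hle := Cfsg.Agent.S0713.result _ hprim hp (by rw [Fintype.card_fin]; omega)
    (by rw [Fintype.card_fin]; omega) hC hS ⟨h, hhM, rfl⟩
  apply hM
  rw [eq_top_iff]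
  intro g _
  obtain ⟨g', hg', hgg⟩ := hle g.2
  rw [← Subtype.ext (p := (· ∈ alternatingGroup (Fin n))) hgg]
  exact hg'

theorem order_of_list {n : ℕ} (m : Multiset ℕ) (h1 : m.sum ≤ n) (h2 : ∀ a ∈ m, 2 ≤ a)
    (h3 : Even (m.sum + Multiset.card m)) : ∃ g : alternatingGroup (Fin n), orderOf g = m.lcm := by
  obtain ⟨σ, hσ⟩ := (Perm.exists_with_cycleType_iff (Fin n) (m := m)).2 ⟨by simpa using h1, h2⟩
  refine ⟨⟨σ, ?_⟩, ?_⟩
  · rw [Perm.mem_alternatingGroup, Perm.sign_of_cycleType, hσ]
    exact Even.neg_one_pow h3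
  · rw [← Subgroup.orderOf_coe]
    change orderOf σ = _
    rw [← Perm.lcm_cycleType, hσ]

/-- no permutation of at most `7` points has order `15`. -/
theorem no_fifteen {n : ℕ} (hn : n ≤ 7) (g : alternatingGroup (Fin n)) : orderOf g ≠ 15 := by
  intro h
  have h1 := Cfsg.Agent.H357.PermOrd.sum_le_of_dvd_order (g : Perm (Fin n)) (P := {3, 5}) (by
    intro p hp
    rw [Subgroup.orderOf_coe, h]
    simp only [Finset.mem_insert, Finset.mem_singleton] at hp
    rcases hp with rfl | rfl
    · exact ⟨Nat.prime_three, by norm_num⟩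
    · exact ⟨Nat.prime_five, by norm_num⟩)
  rw [Finset.sum_pair (by norm_num)] at h1
  omega

/-- a group of order `15` has an element of order `15` (copied from `H495/Frob`) -/
theorem order_fifteen {G : Type*} [Group G] [Finite G] (h : Nat.card G = 15) :
    ∃ x : G, orderOf x = 15 := by
  have h3 := Fact.mk Nat.prime_three
  have h5 := Fact.mk Nat.prime_five
  let P : Sylow 5 G := default
  let Q : Sylow 3 G := default
  have hfac5 : Nat.factorization 15 5 = 1 := by
    rw [show (15 : ℕ) = 5 * 3 by norm_num, Nat.factorization_mul (by norm_num) (by norm_num)]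
    simp [Nat.prime_five.factorization, Nat.prime_three.factorization]
  have hfac3 : Nat.factorization 15 3 = 1 := by
    rw [show (15 : ℕ) = 5 * 3 by norm_num, Nat.factorization_mul (by norm_num) (by norm_num)]
    simp [Nat.prime_five.factorization, Nat.prime_three.factorization]
  have hPc : Nat.card P = 5 := by rw [P.card_eq_multiplicity, h, hfac5, pow_one]
  have hQc : Nat.card Q = 3 := by rw [Q.card_eq_multiplicity, h, hfac3, pow_one]
  have hPi : (P : Subgroup G).index = 3 := by
    have := Subgroup.card_mul_index (P : Subgroup G)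
    rw [h] at this
    have h6 : Nat.card (P : Subgroup G) = 5 := hPc
    rw [h6] at this
    omega
  have hQi : (Q : Subgroup G).index = 5 := by
    have := Subgroup.card_mul_index (Q : Subgroup G)
    rw [h] at this
    have h6 : Nat.card (Q : Subgroup G) = 3 := hQc
    rw [h6] at this
    omega
  have hPn : (P : Subgroup G).Normal := by
    have h1 : Nat.card (Sylow 5 G) ∣ 3 := hPi ▸ P.card_dvd_index
    have h2 : Nat.card (Sylow 5 G) ≡ 1 [MOD 5] := card_sylow_modEq_one 5 G
    have h4 : Nat.card (Sylow 5 G) = 1 := by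
      rcases (Nat.dvd_prime Nat.prime_three).mp h1 with h | h
      · exact h
      · rw [h] at h2
        exact absurd h2 (by decide)
    have := (Nat.card_eq_one_iff_unique.mp h4).1
    exact P.normal_of_subsingleton
  have hQn : (Q : Subgroup G).Normal := by
    have h1 : Nat.card (Sylow 3 G) ∣ 5 := hQi ▸ Q.card_dvd_index
    have h2 : Nat.card (Sylow 3 G) ≡ 1 [MOD 3] := card_sylow_modEq_one 3 G
    have h4 : Nat.card (Sylow 3 G) = 1 := by
      rcases (Nat.dvd_prime Nat.prime_five).mp h1 with h | h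
      · exact h
      · rw [h] at h2
        exact absurd h2 (by decide)
    have := (Nat.card_eq_one_iff_unique.mp h4).1
    exact Q.normal_of_subsingleton
  obtain ⟨x, hx⟩ := exists_prime_orderOf_dvd_card' (G := P) 5 (by rw [hPc])
  obtain ⟨y, hy⟩ := exists_prime_orderOf_dvd_card' (G := Q) 3 (by rw [hQc])
  have hdisj : Disjoint (P : Subgroup G) (Q : Subgroup G) := by
    apply Subgroup.disjoint_of_coprime_natCard
    rw [hPc, hQc]
    norm_num
  have hcomm : Commute (x : G) (y : G) :=
    Subgroup.commute_of_normal_of_disjoint _ _ hPn hQn hdisj _ _ x.2 y.2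
  refine ⟨(x : G) * (y : G), ?_⟩
  rw [hcomm.orderOf_mul_eq_mul_orderOf_of_coprime, Subgroup.orderOf_coe, Subgroup.orderOf_coe, hx,
    hy]
  rw [Subgroup.orderOf_coe, Subgroup.orderOf_coe, hx, hy]
  norm_num

/-- a group of order `60` with an element of order `4` has an element of order `15`. -/
theorem exists_fifteen {G : Type*} [Group G] [Finite G] (hG : Nat.card G = 60) {x : G}
    (hx : orderOf x = 4) : ∃ y : G, orderOf y = 15 := by
  classical
  have h2 : Fact (Nat.Prime 2) := ⟨Nat.prime_two⟩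
  obtain ⟨P, hP⟩ : ∃ P : Sylow 2 G, Subgroup.zpowers x ≤ P := by
    have : IsPGroup 2 (Subgroup.zpowers x) := by
      refine IsPGroup.of_card (n := 2) ?_
      rw [Nat.card_zpowers, hx]
      norm_num
    exact this.exists_le_sylow
  have hPc : Nat.card P = 4 := by
    rw [P.card_eq_multiplicity, hG]
    have : (60 : ℕ).factorization 2 = 2 := by
      rw [show (60 : ℕ) = 2 ^ 2 * 15 by norm_num, Nat.factorization_mul (by norm_num) (by norm_num),
        Nat.factorization_pow]
      simp [Nat.Prime.factorization Nat.prime_two, Nat.factorization_eq_zero_of_not_dvd (show ¬ 2 ∣ 15 by norm_num)]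
    rw [this]
    norm_num
  have hPz : Subgroup.zpowers x = P := by
    apply Subgroup.eq_of_le_of_card_ge hP
    rw [Nat.card_zpowers, hx]
    exact hPc.le
  have hcyc : IsCyclic (P : Subgroup G) := by
    rw [← hPz]; infer_instance
  have hmin : (Nat.card G).minFac = 2 := by rw [hG]; norm_num
  have hcompl := IsCyclic.isComplement' hmin (P := P) hcyc
  set K := (MonoidHom.transferSylow P (hcyc.normalizer_le_centralizer hmin)).ker
  have hK : Nat.card K = 15 := by
    have h1 := hcompl.card_mul_card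
    rw [hG, hPc] at h1
    omega
  obtain ⟨y, hy⟩ := order_fifteen hK
  exact ⟨(y : G), by rw [Subgroup.orderOf_coe, hy]⟩

theorem dvd_of_order {n : ℕ} {M : Subgroup (alternatingGroup (Fin n))} (hall : ¬ OrdGap _ M) (m : Multiset ℕ)
    (h1 : m.sum ≤ n) (h2 : ∀ a ∈ m, 2 ≤ a) (h3 : Even (m.sum + Multiset.card m)) {N : ℕ} (hN : m.lcm = N) :
    N ∣ Nat.card M := by
  obtain ⟨g, hg⟩ := order_of_list m h1 h2 h3
  rw [← hN, ← hg]
  exact dvd_card_of_not_ordGap hall g

theorem simple_alt (n : ℕ) (hn : 5 ≤ n) : IsSimpleGroup (alternatingGroup (Fin n)) :=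
  alternatingGroup.isSimpleGroup (by simpa using hn)

theorem ordGap_five (M : Subgroup (alternatingGroup (Fin 5))) (hM : M ≠ ⊤) : OrdGap _ M := by
  by_contra hall
  have hcard : Nat.card (alternatingGroup (Fin 5)) = 60 := Cfsg.Agent.H394.SqAlt.card_alt 5 (by norm_num)
  have hp : ∀ p : ℕ, p.Prime → p ∣ 60 → p ∣ Nat.card M := fun p hp hd =>
    prime_dvd_of_not_ordGap hall hp (by rw [hcard]; exact hd)
  have h2 := hp 2 (by norm_num) (by norm_num)
  have h3 := hp 3 (by norm_num) (by norm_num)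
  have h5 := hp 5 (by norm_num) (by norm_num)
  have h30 : 30 ∣ Nat.card M := by omega
  have hi := M.card_mul_index
  rw [hcard] at hi
  have := simple_alt 5 (by norm_num)
  have h7 := le_index_of_prime_dvd hM (p := 5) (by norm_num) (by rw [hcard]; norm_num)
  obtain ⟨c, hc⟩ := h30
  rw [hc] at hi
  have : 0 < c := by
    rcases Nat.eq_zero_or_pos c with rfl | h
    · omega
    · exact h
  nlinarith

theorem ordGap_six (M : Subgroup (alternatingGroup (Fin 6))) (hM : M ≠ ⊤) : OrdGap _ M := by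
  by_contra hall
  have hcard : Nat.card (alternatingGroup (Fin 6)) = 360 := Cfsg.Agent.H394.SqAlt.card_alt 6 (by norm_num)
  have h4 : 4 ∣ Nat.card M := dvd_of_order hall {4, 2} (by decide) (by decide) (by decide) (by decide)
  have h3 : 3 ∣ Nat.card M := dvd_of_order hall {3} (by decide) (by decide) (by decide) (by decide)
  have h5 : 5 ∣ Nat.card M := dvd_of_order hall {5} (by decide) (by decide) (by decide) (by decide)
  have h60 : 60 ∣ Nat.card M := by omega
  have hi := M.card_mul_index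
  rw [hcard] at hi
  have := simple_alt 6 (by norm_num)
  have h7 := card_dvd_factorial hM
  rw [hcard] at h7
  obtain ⟨c, hc⟩ := h60
  rw [hc] at hi
  have hc0 : 0 < c := by
    rcases Nat.eq_zero_or_pos c with rfl | h
    · omega
    · exact h
  have hi0 : M.index ≤ 6 := by nlinarith
  have hi6 : M.index = 6 := by
    by_contra hne
    have h8 : M.index ≤ 5 := by omega
    have h9 : 360 ≤ (M.index).factorial := Nat.le_of_dvd (Nat.factorial_pos _) h7
    have h10 := Nat.factorial_le h8
    have h11 : Nat.factorial 5 = 120 := rfl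
    omega
  have hM60 : Nat.card M = 60 := by
    rw [hi6] at hi
    omega
  obtain ⟨g, hg⟩ := order_of_list (n := 6) {4, 2} (by decide) (by decide) (by decide)
  obtain ⟨m, hm, ho⟩ := exists_order_of_not_ordGap hall g
  obtain ⟨y, hy⟩ := exists_fifteen (G := M) hM60 (x := ⟨m, hm⟩) (by
    rw [Subgroup.orderOf_mk, ho, hg]
    rfl)
  exact no_fifteen (by norm_num) (y : alternatingGroup (Fin 6)) (by rw [Subgroup.orderOf_coe, hy])

theorem ordGap_seven (M : Subgroup (alternatingGroup (Fin 7))) (hM : M ≠ ⊤) : OrdGap _ M := by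
  by_contra hall
  have hcard : Nat.card (alternatingGroup (Fin 7)) = 2520 := Cfsg.Agent.H394.SqAlt.card_alt 7 (by norm_num)
  have h4 : 4 ∣ Nat.card M := dvd_of_order hall {4, 2} (by decide) (by decide) (by decide) (by decide)
  have h3 : 3 ∣ Nat.card M := dvd_of_order hall {3} (by decide) (by decide) (by decide) (by decide)
  have h5 : 5 ∣ Nat.card M := dvd_of_order hall {5} (by decide) (by decide) (by decide) (by decide)
  have h7 : 7 ∣ Nat.card M := dvd_of_order hall {7} (by decide) (by decide) (by decide) (by decide)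
  have h420 : 420 ∣ Nat.card M := by omega
  have hi := M.card_mul_index
  rw [hcard] at hi
  have := simple_alt 7 (by norm_num)
  have h7 := le_index_of_prime_dvd hM (p := 7) (by norm_num) (by rw [hcard]; norm_num)
  obtain ⟨c, hc⟩ := h420
  rw [hc] at hi
  have : 0 < c := by
    rcases Nat.eq_zero_or_pos c with rfl | h
    · omega
    · exact h
  nlinarith

/-- **Every proper subgroup of an alternating group misses an element order.** -/
theorem ordGap_alt {n : ℕ} (hn : 5 ≤ n) (M : Subgroup (alternatingGroup (Fin n))) (hM : M ≠ ⊤) :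
    OrdGap _ M := by
  rcases Nat.lt_or_ge n 8 with h | h
  · have h8 : n = 5 ∨ n = 6 ∨ n = 7 := by omega
    rcases h8 with rfl | rfl | rfl
    · exact ordGap_five M hM
    · exact ordGap_six M hM
    · exact ordGap_seven M hM
  · exact ordGap_large h M hM

theorem ogMax_alt {T : Type*} [Group T] (h : Cfsg.IsAlternating T) : OGMax T := by
  obtain ⟨n, hn, ⟨e⟩⟩ := h
  exact OGMax.congr e.symm fun M hM => ordGap_alt hn M hM.1

end Cfsg.Agent.H938.Sax.Alt
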