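import Cfsg.Agent.H938.Sax.OrthRows
import Cfsg.Agent.H264.FKS.Final
import Cfsg.Agent.S0814
import Cfsg.Agent.S0816
import Cfsg.Agent.S0818
import Cfsg.Agent.S2469

/-!
# Almost simple subgroups of classical groups, composite orders (helper938)

`NumP p f k N` : `NumD (p ^ f) k N` with `N` coprime to `2 f`.
-/

set_option autoImplicit false

namespace Cfsg.Agent.H938.Sax

open Cfsg Cfsg.Agent.H884.El Cfsg.Agent.OrdDiv Cfsg.Agent.H436 Cfsg.Agent.H915.GN Cfsg.Agent.H264.GN
  Cfsg.Agent.H264.FKS

universe u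

section abs

variable {R : Type*} [Group R] [Finite R] (S : Subgroup R) [S.Normal] {c N : ℕ}

theorem index_dvd (hC : Subgroup.centralizer (S : Set R) = ⊥) (hc : Nat.card (MulAut S) = c * Nat.card S) :
    S.index ∣ c := by
  have h1 := dvd_aut S hC
  rw [hc, ← S.card_mul_index, mul_comm] at h1
  exact Nat.dvd_of_mul_dvd_mul_right Nat.card_pos h1

/-- an element of order prime to `|Out S|` lies in `S` -/
theorem mem_of_coprime (hC : Subgroup.centralizer (S : Set R) = ⊥) (hc : Nat.card (MulAut S) = c * Nat.card S)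
    (hN : N.Coprime c) {x : R} (hx : orderOf x = N) : x ∈ S := by
  have h1 : x ^ S.index ∈ S := Subgroup.pow_index_mem S x
  have h2 : N.Coprime S.index := hN.coprime_dvd_right (index_dvd S hC hc)
  have h3 : orderOf (x ^ S.index) = N := by
    rw [orderOf_pow, hx, Nat.Coprime.gcd_eq_one h2, Nat.div_one]
  have h4 : x ∈ Subgroup.zpowers (x ^ S.index) := by
    have h5 : Subgroup.zpowers (x ^ S.index) = Subgroup.zpowers x := by
      apply Subgroup.eq_of_le_of_card_ge
      · rw [Subgroup.zpowers_le]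
        exact Subgroup.pow_mem _ (Subgroup.mem_zpowers x) _
      · rw [Nat.card_zpowers, Nat.card_zpowers, h3, hx]
    rw [h5]
    exact Subgroup.mem_zpowers x
  exact (Subgroup.zpowers_le.2 h1) h4

end abs

/-- the order `N` is missing in `R` -/
theorem no_of_socle {T : Type*} [Group T] [Finite T] {R : Subgroup T} (S : Subgroup R) [S.Normal] {c N : ℕ}
    (hC : Subgroup.centralizer (S : Set R) = ⊥) (hc : Nat.card (MulAut S) = c * Nat.card S)
    (hN : N.Coprime c) (hno : ∀ s : S, orderOf s ≠ N) (m : T) (hm : m ∈ R) : orderOf m ≠ N := by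
  intro ho
  have h1 : orderOf (⟨m, hm⟩ : R) = N := by rw [← ho, ← Subgroup.orderOf_coe]
  have h2 := mem_of_coprime S hC hc hN h1
  exact hno ⟨⟨m, hm⟩, h2⟩ (by rw [← h1, ← Subgroup.orderOf_coe])

def NumP (p f k N : ℕ) : Prop := NumD (p ^ f) k N ∧ N.Coprime (8 * f)

theorem exists_numP {p f k : ℕ} (hp : p.Prime) (hf : 1 ≤ f) (hk : 3 ≤ k) : ∃ N, NumP p f k N := by
  by_cases h : p ^ f = 2 ∧ k = 4
  · refine ⟨99, Or.inl ⟨h.1, h.2, rfl⟩, ?_⟩
    have h1 : f = 1 := by
      by_contra hne
      have h2 : 2 ^ 2 ≤ p ^ f := (Nat.pow_le_pow_left hp.two_le 2).trans (Nat.pow_le_pow_right hp.pos (by omega))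
      rw [h.1] at h2
      norm_num at h2
    subst h1
    decide
  · obtain ⟨r, hr⟩ := exists_ppp (p := p) (a := f) (e := 2 * (k - 1)) hp hf (by omega) (fun hh => by
      exact h ⟨hh.1, by omega⟩) (fun b hb => by
        intro hh
        have := Nat.mul_le_mul hb (show 4 ≤ 2 * (k - 1) by omega)
        omega)
    obtain ⟨s, hs⟩ := exists_ppp (p := p) (a := f) (e := 2 * (k + 1)) hp hf (by omega) (fun hh => by omega)
      (fun b hb => by
        intro hh
        have := Nat.mul_le_mul hb (show 8 ≤ 2 * (k + 1) by omega)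
        omega)
    refine ⟨r * s, Or.inr ⟨r, s, rfl, hr.of_pow hf, hs.of_pow hf⟩, ?_⟩
    have key : ∀ {e t : ℕ}, 4 ≤ e → PP p (f * e) t → t.Coprime (8 * f) := by
      intro e t he ht
      have h1 := ht.lt (by have := Nat.mul_le_mul hf he; omega)
      have h2 : f * 4 ≤ f * e := Nat.mul_le_mul_left f he
      have ht2 : t.Coprime 2 := by
        rw [Nat.coprime_primes ht.prime Nat.prime_two]
        omega
      refine Nat.Coprime.mul_right (by rw [show 8 = 2 ^ 3 by norm_num]; exact ht2.pow_right 3) ?_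
      exact (Nat.Prime.coprime_iff_not_dvd ht.prime).2 fun hd => by
        have := Nat.le_of_dvd (by omega) hd
        omega
    exact Nat.Coprime.mul_left (key (by omega) hr) (key (by omega) hs)

end Cfsg.Agent.H938.Sax
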