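import Cfsg.Agent.H938.Sax.AS

/-!
# Char-`p` socles in `PSp_{2n}(q)`, `Ω_{2n+1}(q)`, `PΩ⁺_{2n}(q)`: `OrdGap` for `n ≠ 4` (helper938)
-/

set_option autoImplicit false
set_option linter.style.haveILetI false

namespace Cfsg.Agent.H938.Sax

open Cfsg Cfsg.Agent.H884.El Cfsg.Agent.OrdDiv Cfsg.Agent.H436 Cfsg.Agent.H915.GN Cfsg.Agent.H264.GN
  Cfsg.Agent.H264.FKS

universe u

/-- `S` has no element of order `N`, and `|Out S|` divides `8 f` -/
def Blk (S : Type*) [Group S] (f N : ℕ) : Prop :=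
  ∃ c, c ∣ 8 * f ∧ Nat.card (MulAut S) = c * Nat.card S ∧ ∀ s : S, orderOf s ≠ N

theorem Blk.congr {S S' : Type*} [Group S] [Group S'] {f N : ℕ} (e : S ≃* S') (h : Blk S' f N) : Blk S f N := by
  obtain ⟨c, h1, h2, h3⟩ := h
  refine ⟨c, h1, ?_, fun s hs => h3 (e s) (by rw [← hs]; exact orderOf_injective e.toMonoidHom e.injective s)⟩
  rw [Nat.card_congr e.toEquiv, ← h2]
  exact Nat.card_congr (MulAut.congr e).toEquiv

theorem charP_of {p f : ℕ} {F : Type*} [Field F] [Fintype F] (hp : p.Prime) (hf : 1 ≤ f)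
    (hF : Fintype.card F = p ^ f) : CharP F p := H364.OutLie.charP_of_card hp hf hF

section

variable {p f k N : ℕ} {S : Type u} [Group S]

theorem blk_ominus (hp : p.Prime) (hf : 1 ≤ f) (hk : 3 ≤ k) (hN : NumP p f k N)
    (hS : IsNamed (.ominus (2 * k) (p ^ f)) S) : Blk S f N := by
  obtain ⟨F, _, _, a, b, hF, hab, ⟨e⟩⟩ := hS.real
  haveI : Fact p.Prime := ⟨hp⟩
  refine Blk.congr e ⟨_, ?_, Cfsg.Agent.S0818.result p f hf hF (2 * k) (by omega) a b hab, fun m =>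
    ominus_no hk (by rw [Nat.card_eq_fintype_card, hF]; exact hN.1) hab m⟩
  refine Nat.mul_dvd_mul_right ?_ f
  split_ifs <;> decide

theorem blk_oodd (hp : p.Prime) (hf : 1 ≤ f) (hk : 3 ≤ k) (hN : NumP p f k N)
    (hS : IsNamed (.oodd (2 * k - 1) (p ^ f)) S) : Blk S f N := by
  obtain ⟨F, _, _, hF, ⟨e⟩⟩ := hS.real
  haveI : Fact p.Prime := ⟨hp⟩
  have hodd : Odd (p ^ f) := hS.cond.2.1
  have hoddp : Odd p := (Nat.odd_pow_iff (by omega)).1 hodd
  have h2 : (2 : F) ≠ 0 := H390.two_ne_zero_of_odd (by rw [hF]; exact hodd)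
  refine Blk.congr e ⟨_, ?_, Cfsg.Agent.S0816.result p f hf hF hoddp (2 * k - 1) (by omega), fun m =>
    oodd_no h2 hk (by rw [Nat.card_eq_fintype_card, hF]; exact hN.1) m⟩
  exact Nat.mul_dvd_mul_right (by decide) f

theorem prim_of_pp {q e r : ℕ} (hq : 1 ≤ q) (he : 1 ≤ e) (h : PP q e r) : Prim q e r :=
  ⟨h.prime, fun m => h.dvd_iff hq m, h.not_dvd he⟩

/-- adjacency in `PSp_{2n}(q)` -/
theorem psp_adj_iff {F : Type} [Field F] [Fintype F] {n r s : ℕ} (hp : p.Prime) (hf : 1 ≤ f)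
    (hF : Fintype.card F = p ^ f) (hn : 2 * k - 1 ≤ n) (hn2 : n ≤ 2 * k) (hk : 3 ≤ k)
    (hr : PP (p ^ f) (2 * (k - 1)) r) (hs : PP (p ^ f) (2 * (k + 1)) s) :
    r * s ∈ Set.range (orderOf : PSp n F → ℕ) ↔ n = 2 * k := by
  haveI : Fact p.Prime := ⟨hp⟩
  haveI := charP_of hp hf hF
  have hq : 1 ≤ p ^ f := Nat.one_le_pow _ _ hp.pos
  have hq2 : 2 ≤ p ^ f := hp.two_le.trans (Nat.le_self_pow (by omega) _)
  have hT : IsNamed (.psp n (p ^ f)) (PSp n F) :=
    .mk' ⟨F, inferInstance, inferInstance, hF, ⟨MulEquiv.refl _⟩⟩ ⟨by omega, fun _ => by omega, hF ▸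
      Fintype.isPrimePow_card_of_field⟩ (by rw [← hF]; exact psp_eq (by omega))
  have hr' := prim_of_pp hq (by omega) hr
  have hs' := prim_of_pp hq (by omega) hs
  have key := Cfsg.Agent.S2469.result (F := F) p n (by omega) (fun h => by omega) r s hr.prime hs.prime
    (ne_of_prim' hr' (by omega)) (ne_of_prim' hs' (by omega)) (ne_char hr' hf) (ne_char hs' hf)
    (hr.ne_of_ne hs (by omega)) (dvd_psp hT (by omega) dvd_rfl (by omega) (by omega) hr')
    (dvd_psp hT (by omega) dvd_rfl (by omega) (by omega) hs') (2 * (k - 1)) (2 * (k + 1)) (k - 1) (k + 1)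
    (by rw [hF]; exact hr.ord.symm) (by rw [hF]; exact hs.ord.symm) (Or.inr ⟨even_two_mul _, rfl⟩)
    (Or.inr ⟨even_two_mul _, rfl⟩) (by omega)
  rw [← not_iff_not, key]
  constructor
  · rintro ⟨h1, -⟩ h2
    omega
  · intro h
    refine ⟨by omega, ?_⟩
    rintro ⟨t, ht, h2⟩
    have h3 : k + 1 = (k - 1) * t := by
      have : 2 * (k + 1) = 2 * ((k - 1) * t) := by rw [h2]; ring
      omega
    have h4 : t < 3 := by
      by_contra h5
      have := Nat.mul_le_mul_left (k - 1) (show 3 ≤ t by omega)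
      omega
    interval_cases t
    · exact absurd ht (by decide)
    · omega
    · exact absurd ht (by decide)

theorem blk_psp (hp : p.Prime) (hf : 1 ≤ f) (hk : 3 ≤ k) (hN : NumP p f k N)
    (hS : IsNamed (.psp (2 * k - 1) (p ^ f)) S) : Blk S f N := by
  obtain ⟨F, _, _, hF, ⟨e⟩⟩ := hS.real
  haveI : Fact p.Prime := ⟨hp⟩
  haveI := charP_of hp hf hF
  have h1 := Cfsg.Agent.S0814.result (F := F) p f hf hF (2 * k - 1) (by omega) (fun h => by omega)
  rw [if_neg (fun h => by omega), one_mul] at h1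
  refine Blk.congr e ⟨_, ?_, h1, fun m => ?_⟩
  · refine Nat.mul_dvd_mul_right ((Nat.gcd_dvd_left _ _).trans (by decide)) f
  · rcases hN.1 with ⟨h2, h3, h4⟩ | ⟨r, s, h3, hr, hs⟩
    · have hp2 : p = 2 := by
        have : p ∣ 2 := by rw [← h2]; exact dvd_pow_self p (by omega)
        exact (Nat.prime_dvd_prime_iff_eq hp Nat.prime_two).1 this
      subst hp2
      exact psp_no hk (by rw [Nat.card_eq_fintype_card, hF]; exact hN.1) m
    · intro ho
      have := (psp_adj_iff hp hf hF le_rfl (by omega) hk hr hs).1 (by rw [← h3]; exact ⟨m, ho⟩)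
      omega

/-! ### existence of elements of order `N` -/

theorem exists_psp (hp : p.Prime) (hf : 1 ≤ f) (hk : 3 ≤ k) (hN : NumP p f k N)
    (hS : IsNamed (.psp (2 * k) (p ^ f)) S) : ∃ g : S, orderOf g = N := by
  obtain ⟨F, _, _, hF, ⟨e⟩⟩ := hS.real
  haveI : Fact p.Prime := ⟨hp⟩
  haveI := charP_of hp hf hF
  suffices h : ∃ g : PSp (2 * k) F, orderOf g = N by
    obtain ⟨g, hg⟩ := h
    exact ⟨e.symm g, by rw [← hg]; exact orderOf_injective e.symm.toMonoidHom e.symm.injective g⟩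
  rcases hN.1 with ⟨h2, h3, h4⟩ | ⟨r, s, h3, hr, hs⟩
  · have hp2 : p = 2 := by
      have : p ∣ 2 := by rw [← h2]; exact dvd_pow_self p (by omega)
      exact (Nat.prime_dvd_prime_iff_eq hp Nat.prime_two).1 this
    subst hp2
    exact exists_psp_numD hk (by rw [Nat.card_eq_fintype_card, hF]; exact hN.1)
  · have := (psp_adj_iff hp hf hF (by omega) le_rfl hk hr hs).2 rfl
    rw [← h3] at this
    exact this

theorem exists_oodd (hk : 3 ≤ k) (hN : NumP p f k N)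
    (hS : IsNamed (.oodd (2 * k) (p ^ f)) S) : ∃ g : S, orderOf g = N := by
  obtain ⟨F, _, _, hF, ⟨e⟩⟩ := hS.real
  have hodd : Odd (p ^ f) := hS.cond.2.1
  have h2 : (2 : F) ≠ 0 := H390.two_ne_zero_of_odd (by rw [hF]; exact hodd)
  obtain ⟨g, hg⟩ := exists_odd_numD h2 hk (by rw [Nat.card_eq_fintype_card, hF]; exact hN.1)
  exact ⟨e.symm g, by rw [← hg]; exact orderOf_injective e.symm.toMonoidHom e.symm.injective g⟩

theorem exists_oplus (hk : 3 ≤ k) (hN : NumP p f k N)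
    (hS : IsNamed (.oplus (2 * k) (p ^ f)) S) : ∃ g : S, orderOf g = N := by
  obtain ⟨F, _, _, hF, ⟨e⟩⟩ := hS.real
  obtain ⟨g, hg⟩ := exists_plus_numD (F := F) hk (by rw [Nat.card_eq_fintype_card, hF]; exact hN.1)
  exact ⟨e.symm g, by rw [← hg]; exact orderOf_injective e.symm.toMonoidHom e.symm.injective g⟩

end

/-! ### rows -/

section rows

variable {p f n : ℕ} {g : Grp} {T : Type u} [Group T] [Finite T] {R : Subgroup T}

theorem ordGap_of_blk {N : ℕ} (hg : ∃ x : T, orderOf x = N) (S : Subgroup R) [S.Normal]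
    (hC : Subgroup.centralizer (S : Set R) = ⊥) (hN : N.Coprime (8 * f)) (h : Blk S f N) : OrdGap T R := by
  obtain ⟨x, hx⟩ := hg
  obtain ⟨c, h1, h2, h3⟩ := h
  exact ordGap_of hx (no_of_socle S hC h2 (hN.coprime_dvd_right h1) h3)

omit [Finite T] in
theorem pgap_of_not_full (h : ¬ Full T R) : PGap T R := exists_of_not_full h

/-- **`T = PSp_{2n}(q)`, `n ≥ 3`, `n ≠ 4`.** -/
theorem charp_psp_gap (hT : IsNamed (.psp n (p ^ f)) T) (hp : p.Prime) (hf : 1 ≤ f) (hn : 3 ≤ n) (hn4 : n ≠ 4)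
    (hex1 : ¬ (p = 2 ∧ f * (2 * n) = 6)) (hR : R ≠ ⊤) (S : Subgroup R) [S.Normal] [IsSimpleGroup S]
    (hna : ¬ IsMulCommutative S) (hC : Subgroup.centralizer (S : Set R) = ⊥) (hS : IsNamed g S)
    (hch : HasChar p g) : OrdGap T R := by
  by_cases hfull : Full T R
  · obtain ⟨h1, rfl⟩ := full_psp hT hp hf hn hex1 (fun h => by
      obtain ⟨-, h⟩ := h
      have h3 : f * 4 ≤ f * (2 * (n - 1)) := Nat.mul_le_mul_left f (by omega)
      have h4 : f = 1 := by omega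
      subst h4
      omega) hR hfull S hna hC hS hch
    obtain ⟨k, rfl⟩ : ∃ k, n = 2 * k := ⟨n / 2, by omega⟩
    obtain ⟨N, hN⟩ := exists_numP (k := k) hp hf (by omega)
    exact ordGap_of_blk (exists_psp hp hf (by omega) hN hT) S hC hN.2 (blk_ominus hp hf (by omega) hN hS)
  · exact (pgap_of_not_full hfull).ordGap

/-- **`T = Ω_{2n+1}(q)`, `n ≥ 3`, `n ≠ 4`.** -/
theorem charp_oodd_gap (hT : IsNamed (.oodd n (p ^ f)) T) (hp : p.Prime) (hf : 1 ≤ f) (hn : 3 ≤ n) (hn4 : n ≠ 4)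
    (hR : R ≠ ⊤) (S : Subgroup R) [S.Normal] [IsSimpleGroup S]
    (hna : ¬ IsMulCommutative S) (hC : Subgroup.centralizer (S : Set R) = ⊥) (hS : IsNamed g S)
    (hch : HasChar p g) : OrdGap T R := by
  by_cases hfull : Full T R
  · obtain ⟨h1, rfl⟩ := full_oodd hT hp hf hn hR hfull S hna hC hS hch
    obtain ⟨k, rfl⟩ : ∃ k, n = 2 * k := ⟨n / 2, by omega⟩
    obtain ⟨N, hN⟩ := exists_numP (k := k) hp hf (by omega)
    exact ordGap_of_blk (exists_oodd (by omega) hN hT) S hC hN.2 (blk_ominus hp hf (by omega) hN hS)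
  · exact (pgap_of_not_full hfull).ordGap

end rows

end Cfsg.Agent.H938.Sax
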