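import Cfsg.Agent.H290.ElE8
import Cfsg.Agent.H290.ElE7
import Cfsg.Agent.H190.Exc.RowE6
import Cfsg.Agent.S4008
import Cfsg.Agent.H566.Main
import Cfsg.Agent.H278.ElFamA
import Cfsg.Agent.H946.RowF4
import Cfsg.Agent.H371.El.TwF
import Cfsg.Agent.H983.ElG.RowG2
import Cfsg.Agent.H983.ElG.RowD4
import Cfsg.Agent.H834.Sax.GTwo

/-!
# `OGMax` for the exceptional groups of Lie type (helper938)
-/

set_option autoImplicit false

namespace Cfsg.Agent.H938.Sax

open Cfsg Cfsg.Agent.OrdDiv Cfsg.Agent.H436 Cfsg.Agent.H278.El.Asm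
  Cfsg.Agent.H290.ElEng Cfsg.Agent.H290.ElRich
open Cfsg.Agent.H264.FKS (Full)

/-- the finite simple groups are known -/
abbrev KnownAll : Prop := ∀ (X : Type) [Group X] [Finite X] [IsSimpleGroup X], Cfsg.IsKnownSimple' X

theorem richFix' (hK : KnownAll) : RichFix.{0} :=
  fun _ _ _ _ _ h1 h2 h3 => (H566.rich_sub (fun X _ _ _ => hK X) h1 h2 h3).1

theorem asThm' : ASThm.{0} :=
  fun _ _ _ h1 h2 r h3 h4 h5 h6 R _ h7 h8 => S4008.result h1 h2 r h3 h4 h5 h6 R h7 h8

theorem ogMax_of_full {T : Type*} [Group T] [Finite T] (h : ∀ R : Subgroup T, Full T R → R = ⊤) : OGMax T := by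
  intro M hM
  by_contra hn
  refine hM.1 (h M fun r hr hd => ?_)
  by_contra hd'
  exact hn (PGap.ordGap ⟨r, hr, hd, hd'⟩)

variable (tab : OrderTable.{0}) (hK : KnownAll) {q : ℕ} {T : Type} [Group T] [Finite T]
include tab hK

theorem ogMax_e8 (h : IsNamed (.e8 q) T) : OGMax T := by
  obtain ⟨p, f, hp, hf, rfl⟩ := (isPrimePow_nat_iff _).1 h.cond
  exact ogMax_of_full fun R hR => H290.ElE8.full_E8 asThm' (richFix' hK)
    (fun S _ _ _ hna => named_of_simple tab hK hna) hp hf h hR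

theorem ogMax_e7 (h : IsNamed (.e7 q) T) : OGMax T := by
  obtain ⟨p, f, hp, hf, rfl⟩ := (isPrimePow_nat_iff _).1 h.cond
  exact ogMax_of_full fun R hR => H290.ElE7.full_E7 asThm' (richFix' hK)
    (fun S _ _ _ hna => named_of_simple tab hK hna) hp hf h hR

theorem ogMax_e6 (h : IsNamed (.e6 q) T) : OGMax T := by
  obtain ⟨F, _, _, hF, ⟨e⟩⟩ := h.real
  have hfin : Finite (Lie.chevE6.group F) := Finite.of_equiv T e.toEquiv
  exact (ogMax_of_full fun R hR => H190.Exc.full_e6 tab hK asThm' (richFix' hK) hR).congr e.symm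

theorem ogMax_te6 (h : IsNamed (.te6 q) T) : OGMax T := by
  obtain ⟨F, _, _, hF, ⟨e⟩⟩ := h.real
  have hfin : Finite (Lie.twistedE6 F q) := Finite.of_equiv T e.toEquiv
  exact (ogMax_of_full fun R hR => H190.Exc.full_te6 tab hK asThm' (richFix' hK) h.cond hF hR).congr e.symm

theorem ogMax_tf4 (h : IsNamed (.tf4 q) T) : OGMax T :=
  ogMax_of_full fun _ hR => H371.El.full_TF4 asThm' (richFix' hK)
    (fun _ _ _ _ hna => named_of_simple tab hK hna) h hR

theorem ogMax_td4 (h : IsNamed (.td4 q) T) : OGMax T := by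
  obtain ⟨p, f, hp, hf, rfl⟩ := (isPrimePow_nat_iff _).1 h.cond
  exact ogMax_of_full fun _ hR => H983.ElG.full_TD4 asThm' (richFix' hK)
    (fun _ _ _ _ hna => named_of_simple tab hK hna) hp hf h hR

theorem ogMax_g2 (h : IsNamed (.g2 q) T) : OGMax T := by
  by_cases h3 : q = 3
  · subst h3
    obtain ⟨F, _, _, hF, ⟨e⟩⟩ := h.real
    exact (H834.Sax.ogMax_g23 tab hK hF).congr e.symm
  obtain ⟨p, f, hp, hf, rfl⟩ := (isPrimePow_nat_iff _).1 h.cond.2
  refine ogMax_of_full fun R hR => ?_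
  rcases H983.ElG.full_G2 asThm' (richFix' hK) (fun _ _ _ _ hna => named_of_simple tab hK hna) hp hf h hR with h1 | h1
  · exact h1
  · exact absurd h1.1 h3

theorem ogMax_f4 (h : IsNamed (.f4 q) T) : OGMax T := by
  exact ogMax_of_full fun R hR => H946.Soc.full_F4 asThm' (richFix' hK) (fun S _ _ _ hna => named_of_simple tab hK hna) h hR

end Cfsg.Agent.H938.Sax
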