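import Cfsg.Agent.H938.Sax.PEight
import Cfsg.Agent.H582.FreeMod
import Cfsg.Agent.H366.Coclique
import Cfsg.Agent.H81.SaxSpFin

/-!
# Sections of `PSp_8(q)`, `q` even: the kernel is trivial (helper938)

`K ◁ L ≤ PSp_8(q)`, `L / K` with an element of order `q ^ 4 + 1`: an element `x ∈ L` of prime order `r ∣ q ^ 4 + 1` is
irreducible and acts fixed point freely on `K`, so the natural module is free for `⟨x⟩` if `K ≠ 1`.
-/

set_option autoImplicit false
set_option linter.unusedSectionVars false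

namespace Cfsg.Agent.H938.Sax

open Module Cfsg Cfsg.Agent.H884.El Cfsg.Agent.ClassicalGeometry.SympBasic
open Cfsg.Agent.H264.FKS (Cyc cyc_of_gl mem_zpowers_of_cyclic)
open Cfsg.Agent.H951 (fx cm Inv Frm Isom Nd)
open Cfsg.Agent.H876 (spToGL)

universe u v

section abs

variable {F : Type u} [Field F] [Fintype F] {V : Type v} [AddCommGroup V] [Module F V] [FiniteDimensional F V]
  {ε : F} {B : V → V → F} {X : Type*} [Group X] [Finite X]

/-- **Normal subgroups with an element of order `q ^ a + 1` in the quotient are trivial.** -/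
theorem kernel_bot (hB : Frm (RingHom.id F) ε B) (hV : Nd B (⊤ : Submodule F V)) {a : ℕ} (ha : 1 ≤ a)
    (hdim : finrank F V = 2 * a) {r : ℕ} (hr : PP (Nat.card F) (2 * a) r) (ρ : X →* Module.End F V)
    (hρ : Function.Injective ρ) (hiso : ∀ g, Isom B (ρ g))
    (hcyc : ∀ v : ℕ, v.Prime → v ∣ Fintype.card F ^ a + 1 → Cyc v X) (K : Subgroup X) [hK : K.Normal] {y : X}
    (hy : orderOf (QuotientGroup.mk' K y) = Fintype.card F ^ a + 1) : K = ⊥ := by
  classical
  have hrF := Fact.mk hr.prime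
  have hr0 : (r : F) ≠ 0 := hr.ne0 (by omega)
  set N := Fintype.card F ^ a + 1 with hN
  have hrN : r ∣ N := by
    have h := dvd_pow_add_one (q := Nat.card F) Finite.card_pos (e := a) ha hr
    rwa [Nat.card_eq_fintype_card] at h
  have hNy : N ∣ orderOf y := by rw [← hy]; exact orderOf_map_dvd _ _
  have hoy : 0 < orderOf y := orderOf_pos y
  -- the element of order `r`
  obtain ⟨x, hx⟩ : ∃ x, x = y ^ (orderOf y / r) := ⟨_, rfl⟩
  have hxo : orderOf x = r := by
    rw [hx, orderOf_pow_of_dvd (by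
      have := Nat.div_pos (Nat.le_of_dvd hoy (hrN.trans hNy)) hr.prime.pos
      omega) (Nat.div_dvd_of_dvd (hrN.trans hNy))]
    exact Nat.div_div_self (hrN.trans hNy) hoy.ne'
  have hxr : (ρ x) ^ r = 1 := by rw [← map_pow, ← hxo, pow_orderOf_eq_one, map_one]
  have hx1 : ρ x ≠ 1 := by
    intro h
    have h1 : x = 1 := hρ (by rw [h, map_one])
    rw [h1, orderOf_one] at hxo
    exact hr.prime.one_lt.ne hxo
  have hcmd : 2 * a ∣ finrank F (cm (ρ x)) := by
    rw [← ord_eq hr]
    exact H951.ord_dvd_finrank hxr H951.inv_cm (H951.inf_fx_of_le_cm hr0 hxr le_rfl)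
  have hcm0 := Ord.pos_finrank (cm_ne_bot hx1)
  have hcm1 := Submodule.finrank_le (cm (ρ x))
  have hcm2 : finrank F (cm (ρ x)) = 2 * a := le_antisymm (by omega) (Nat.le_of_dvd (by omega) hcmd)
  have hcm : cm (ρ x) = ⊤ := Submodule.eq_top_of_finrank_eq (by omega)
  have hfx : fx (ρ x) = ⊥ := by
    have h1 := (H951.isCompl_fx_cm hr0 hxr).inf_eq_bot
    rwa [hcm, inf_top_eq] at h1
  -- elements commuting with `x`
  have hcomm : ∀ g : X, g * x = x * g → g ^ N = 1 := by
    intro g hg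
    have h1 : Commute (ρ g) (ρ x) := by
      change ρ g * ρ x = ρ x * ρ g
      rw [← map_mul, hg, map_mul]
    have h2 := Ord.big hB hV (hiso x) (hiso g) h1 hr0 hxr (a := a) hrN (by rw [ord_eq hr, hcm2])
    apply hρ
    rw [map_pow, map_one]
    refine LinearMap.ext fun v => ?_
    exact h2 v (by rw [hcm]; trivial)
  have hyN : orderOf y = N := Nat.dvd_antisymm (orderOf_dvd_of_pow_eq_one (hcomm y (by
    rw [hx, ← pow_succ, ← pow_succ']))) hNy
  -- `|K|` is prime to `N`
  have hco : ∀ v : ℕ, v.Prime → v ∣ N → ¬ v ∣ Nat.card K := by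
    intro v hv hvN hvK
    have hvF := Fact.mk hv
    obtain ⟨k, hk⟩ := exists_prime_orderOf_dvd_card' v hvK
    have hk' : orderOf (k : X) = v := by rw [Subgroup.orderOf_coe, hk]
    obtain ⟨z, hz⟩ : ∃ z, z = y ^ (N / v) := ⟨_, rfl⟩
    have hNpos : 0 < N := by omega
    have hzo : orderOf z = v := by
      rw [hz, orderOf_pow_of_dvd (by
        have := Nat.div_pos (Nat.le_of_dvd hNpos hvN) hv.pos
        omega) (by rw [hyN]; exact Nat.div_dvd_of_dvd hvN), hyN]
      exact Nat.div_div_self hvN hNpos.ne'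
    have hzK : z ∉ K := by
      intro h
      have h1 : (QuotientGroup.mk' K y) ^ (N / v) = 1 := by
        rw [← map_pow, ← hz]
        exact (QuotientGroup.eq_one_iff z).2 h
      have h2 := Nat.le_of_dvd (Nat.div_pos (Nat.le_of_dvd hNpos hvN) hv.pos) (hy ▸ orderOf_dvd_of_pow_eq_one h1)
      have h3 := Nat.div_lt_self hNpos hv.one_lt
      omega
    -- Sylow
    obtain ⟨P, hP⟩ := (IsPGroup.of_card (p := v) (n := 1) (G := Subgroup.zpowers z) (by
      rw [Nat.card_zpowers, hzo, pow_one])).exists_le_sylow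
    obtain ⟨P', hP'⟩ := (IsPGroup.of_card (p := v) (n := 1) (G := Subgroup.zpowers (k : X)) (by
      rw [Nat.card_zpowers, hk', pow_one])).exists_le_sylow
    obtain ⟨g, hg⟩ := MulAction.exists_smul_eq X P' P
    have h4 : g * k * g⁻¹ ∈ (P : Subgroup X) := by
      rw [← hg]
      exact ⟨k, hP' (Subgroup.mem_zpowers _), rfl⟩
    have h5 : g * k * g⁻¹ ∈ K := hK.conj_mem _ k.2 g
    have h6 : orderOf (⟨g * k * g⁻¹, h4⟩ : (P : Subgroup X)) = v := by
      rw [Subgroup.orderOf_mk, ← hk']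
      exact orderOf_injective (MulAut.conj g).toMonoidHom (MulAut.conj g).injective (k : X)
    have h7 : orderOf (⟨z, hP (Subgroup.mem_zpowers z)⟩ : (P : Subgroup X)) = v := by rw [Subgroup.orderOf_mk, hzo]
    have := hcyc v hv hvN P P.isPGroup'
    have h8 := mem_zpowers_of_cyclic h6 h7 hv.pos
    obtain ⟨j, hj⟩ := Subgroup.mem_zpowers_iff.1 h8
    apply hzK
    have h9 : (g * k * g⁻¹) ^ j = z := congrArg Subtype.val hj
    rw [← h9]
    exact K.zpow_mem h5 j
  have hfpf : ∀ k ∈ K, x * k = k * x → k = 1 := by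
    intro k hk hkx
    have h1 : orderOf k ∣ N := orderOf_dvd_of_pow_eq_one (hcomm k hkx.symm)
    have h2 : orderOf k ∣ Nat.card K := by
      rw [← Subgroup.orderOf_mk k hk]
      exact orderOf_dvd_natCard _
    rw [← orderOf_eq_one_iff]
    by_contra hne
    obtain ⟨v, hv, hvd⟩ := Nat.exists_prime_and_dvd hne
    exact hco v hv (hvd.trans h1) (hvd.trans h2)
  have hnil : Group.IsNilpotent K := Cfsg.Agent.H366.Coclique.nilpotent_of_fpf K hr.prime
    (y := x) (by rw [← hxo, pow_orderOf_eq_one]) hfpf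
  by_contra hK1
  -- no fixed vectors
  have hCF : ∀ v : V, (∀ f ∈ K, ρ f v = v) → v = 0 := by
    let W : Submodule F V :=
      { carrier := {v | ∀ f ∈ K, ρ f v = v}
        add_mem' := fun {u w} hu hw f hf => by rw [map_add, hu f hf, hw f hf]
        zero_mem' := fun f _ => map_zero _
        smul_mem' := fun c u hu f hf => by rw [map_smul, hu f hf] }
    have hW : Inv (ρ x) W := by
      intro u hu f hf
      have h1 : ρ f (ρ x u) = ρ x (ρ (x⁻¹ * f * x) u) := by
        rw [← Module.End.mul_apply, ← Module.End.mul_apply, ← map_mul, ← map_mul]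
        congr 2
        group
      rw [h1, hu (x⁻¹ * f * x) (by simpa using hK.conj_mem f hf x⁻¹)]
    rcases Cfsg.Agent.H938.Sax.Frat.le_or hr (by omega) hxr hcm2 hW with h | h
    · intro v hv
      have h1 : v ∈ fx (ρ x) := h hv
      rw [hfx] at h1
      exact (Submodule.mem_bot F).1 h1
    · exfalso
      apply hK1
      rw [eq_bot_iff]
      intro k hk
      rw [Subgroup.mem_bot]
      apply hρ
      rw [map_one]
      refine LinearMap.ext fun v => ?_
      exact h (by rw [hcm]; trivial : v ∈ cm (ρ x)) k hk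
  let : Fintype (Subgroup.zpowers x) := Fintype.ofFinite _
  have hfree := Cfsg.Agent.H582.hfree_of_fpf ρ K (Subgroup.zpowers x) (by
    intro h hh hh1 f hf hcom
    have h1 : x ∈ Subgroup.zpowers h := by
      have h2 : orderOf (⟨h, hh⟩ : Subgroup.zpowers x) = r := by
        rw [Subgroup.orderOf_mk]
        obtain ⟨j, hj⟩ := Subgroup.mem_zpowers_iff.1 hh
        have h3 : orderOf h ∣ r := by
          rw [← hj, ← hxo]
          exact orderOf_dvd_of_pow_eq_one (by rw [← zpow_natCast, ← zpow_mul, mul_comm, zpow_mul, zpow_natCast,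
            pow_orderOf_eq_one, one_zpow])
        rcases (Nat.dvd_prime hr.prime).1 h3 with h4 | h4
        · exact absurd (orderOf_eq_one_iff.1 h4) hh1
        · exact h4
      have h3 : orderOf (⟨x, Subgroup.mem_zpowers x⟩ : Subgroup.zpowers x) = r := by rw [Subgroup.orderOf_mk, hxo]
      have h4 := mem_zpowers_of_cyclic h2 h3 hr.prime.pos
      obtain ⟨j, hj⟩ := Subgroup.mem_zpowers_iff.1 h4
      refine Subgroup.mem_zpowers_iff.2 ⟨j, ?_⟩
      have h5 := congrArg Subtype.val hj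
      rwa [Subgroup.coe_zpow] at h5
    obtain ⟨j, hj⟩ := Subgroup.mem_zpowers_iff.1 h1
    refine hfpf f hf ?_
    have h6 : Commute h f := hcom
    rw [← hj]
    exact h6.zpow_left j) hnil hCF
  have hz : ∀ v : V, v = 0 := fun v => Cfsg.Agent.H582.eq_zero_of_free _ hfree (fun u hu => by
    have h1 : u ∈ fx (ρ x) := H951.mem_fx.2 (hu ⟨x, Subgroup.mem_zpowers x⟩)
    rw [hfx] at h1
    exact (Submodule.mem_bot F).1 h1) v
  have : Subsingleton V := ⟨fun a b => by rw [hz a, hz b]⟩
  have h9 : finrank F V = 0 := finrank_zero_of_subsingleton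
  omega

end abs

section sp

variable {F : Type} [Field F] [Fintype F] {m : ℕ}

/-- the natural representation of `PSp_{2m}(q)`, `q` even -/
theorem exists_rep (hm : 1 ≤ m) (hF : ¬ Odd (Fintype.card F)) :
    ∃ ρ : PSp m F →* Module.End F (Fin m ⊕ Fin m → F), Function.Injective ρ ∧ ∀ g, Isom (sympForm m F) (ρ g) := by
  have hz := Cfsg.Agent.H81.SaxSp.center_bot (F := F) hm hF
  have hinj : Function.Injective (QuotientGroup.mk' (Subgroup.center (Matrix.symplecticGroup (Fin m) F))) := by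
    rw [← MonoidHom.ker_eq_bot_iff, QuotientGroup.ker_mk', hz]
  let e : Matrix.symplecticGroup (Fin m) F ≃* PSp m F :=
    MulEquiv.ofBijective _ ⟨hinj, QuotientGroup.mk'_surjective _⟩
  let φ : GL (Fin m ⊕ Fin m) F →* Module.End F (Fin m ⊕ Fin m → F) :=
    (Matrix.toLinAlgEquiv' (R := F) (n := Fin m ⊕ Fin m)).toRingEquiv.toMonoidHom.comp (Units.coeHom _)
  have hφ : Function.Injective φ := fun a b hab =>
    Units.ext ((Matrix.toLinAlgEquiv' (R := F) (n := Fin m ⊕ Fin m)).injective hab)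
  refine ⟨(φ.comp (spToGL m F)).comp e.symm.toMonoidHom,
    (hφ.comp Cfsg.Agent.H262.El.spToGL_injective).comp e.symm.injective, fun g u v => ?_⟩
  exact sympForm_mulVec (e.symm g).2 u v

theorem pp_of_dvd (hF : ¬ Odd (Fintype.card F)) {v : ℕ} (hv : v.Prime) (hd : v ∣ Fintype.card F ^ 4 + 1) :
    PP (Nat.card F) 8 v := by
  have := Fact.mk hv
  have hv2 : v ≠ 2 := by
    rintro rfl
    have h1 : Even (Fintype.card F ^ 4) := (Nat.not_odd_iff_even.1 hF).pow_of_ne_zero (by norm_num)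
    have h2 := (Nat.even_add_one.1 (even_iff_two_dvd.2 hd))
    exact h2 h1
  have h4 : (Fintype.card F : ZMod v) ^ 4 = -1 := by
    have h1 : ((Fintype.card F ^ 4 + 1 : ℕ) : ZMod v) = 0 := (ZMod.natCast_eq_zero_iff _ _).2 hd
    push_cast at h1
    exact eq_neg_of_add_eq_zero_left h1
  refine ⟨hv, ?_⟩
  rw [Nat.card_eq_fintype_card]
  refine orderOf_eq_prime_pow (p := 2) (n := 2) (x := (Fintype.card F : ZMod v)) ?_ ?_
  · rw [show 2 ^ 2 = 4 from rfl, h4]
    have : Fact (2 < v) := ⟨by have := hv.two_le; omega⟩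
    exact ZMod.neg_one_ne_one
  · rw [show 2 ^ (2 + 1) = 4 * 2 from rfl, pow_mul, h4, neg_one_sq]

/-- **Sections of `PSp_8(q)`, `q` even.** -/
theorem sp8e_section (hF : ¬ Odd (Fintype.card F)) (L : Subgroup (PSp 4 F)) (K : Subgroup ↥L) [K.Normal]
    (h : Set.range (orderOf : (↥L ⧸ K) → ℕ) = Set.range (orderOf : PSp 4 F → ℕ)) : K = ⊥ := by
  have := Cfsg.Agent.H81.SaxSp.char_two hF
  obtain ⟨g, hg⟩ := Cfsg.Agent.H72.AdjSp.of_elt (m := 4) (by norm_num)
    (Cfsg.Agent.H377.elt_tor_minus (F := F) (k := 4) (N := Nat.card F ^ 4 + 1) (by norm_num) dvd_rfl)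
  have h1 : Nat.card F ^ 4 + 1 ∈ Set.range (orderOf : (↥L ⧸ K) → ℕ) := by rw [h]; exact ⟨g, hg⟩
  obtain ⟨z, hz⟩ := h1
  obtain ⟨y, rfl⟩ := QuotientGroup.mk'_surjective K z
  obtain ⟨ρ, hρ, hiso⟩ := exists_rep (F := F) (m := 4) (by norm_num) hF
  obtain ⟨r, hr⟩ := exists_pp (q := Nat.card F) (e := 8) Finite.one_lt_card (by norm_num) (by omega)
  refine kernel_bot (H951.frm_symp 4) (H951.nd_symp 4) (a := 4) (by norm_num) ?_ hr (ρ.comp L.subtype)
    (hρ.comp L.subtype_injective) (fun g => hiso g) (fun v hv hd => ?_) K (y := y) ?_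
  · rw [Module.finrank_fintype_fun_eq_card, Fintype.card_sum, Fintype.card_fin]
  · exact (Cfsg.Agent.H264.FKS.cyc_psp (prim_of_pp Finite.card_pos (by norm_num) (pp_of_dvd hF hv hd)) (by norm_num)
      (by norm_num)).sub L
  · rw [hz, Nat.card_eq_fintype_card]

end sp

end Cfsg.Agent.H938.Sax
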