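import Cfsg.Agent.H938.Sax.Cl
import Cfsg.Agent.H938.Sax.SpEight

/-!
# `PSp_8(q)`, `q` even: every maximal subgroup misses an automorphism class (helper938)
-/

set_option autoImplicit false

namespace Cfsg.Agent.H938.Sax

open Module QuadraticMap Cfsg Cfsg.Geo Cfsg.Agent.H884.El Cfsg.Agent.OrdDiv Cfsg.Agent.H436 Cfsg.Agent.H915.GN
  Cfsg.Agent.H264.GN
open Cfsg.Agent.H264.FKS (SocleOf exists_socle hker_sp named_psp Cyc cyc_of_card cyc_four exists_big full_psp Full)
open Cfsg.Agent.H278.El.SporNum (IsCl exc)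
open Cfsg.Agent.H278.El.AltNum (dimOf surv)
open Cfsg.Agent.H884.Cx (excP cross_row)
open Cfsg.Agent.H876 (spToGL)
open scoped MatrixGroups Matrix

/-- `socle_gap` for an arbitrary conclusion -/
theorem socle_any {T : Type} [Group T] [Finite T] {gT : Grp} {M : Subgroup T} {p : ℕ} (hp : p.Prime)
    (hnm : NamedAll) (hT : IsNamed gT T) (hcl : IsCl gT) (hchT : HasChar p gT) (hsurv : gT ∉ surv)
    (hexc : ∀ g, (g, gT) ∉ exc) (hexP : ∀ g, (g, gT) ∉ excP) {ι : Type} [Fintype ι] [DecidableEq ι] {F : Type}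
    [Field F] [Finite F] [CharP F p] {P : Subgroup (GL ι F)} (hP : ⁅P, P⁆ = P) (hcard : Fintype.card ι = dimOf gT)
    (hM : SocleOf M P) {C : Prop} (hgap : PGap T M → C)
    (hsame : ∀ (S : Subgroup M) (g : Grp), S.Normal → IsSimpleGroup S → ¬ IsMulCommutative S →
      Subgroup.centralizer (S : Set M) = ⊥ → IsNamed g S → HasChar p g → C) : C := by
  obtain ⟨S, h1, h2, h3, h4, ⟨e⟩⟩ := hM
  obtain ⟨g, hg⟩ := hnm S h3
  refine Cfsg.Agent.H278.El.Asm.res_kill hT hcl hsurv hexc S h4 hg e hcard (fun h => hgap h)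
    (hsame S g h1 h2 h3 h4 hg) (fun s hs hsp hch => ?_)
  rcases cross_row hp hT hcl hchT hcard S h3 h4 hP e hs hsp hg hch with h | h
  · exact hgap h
  · exact (hexP g h).elim

/-- **`PSp_8(q)`, `q` even.** -/
theorem sp8e_miss (hnm : NamedAll) {F : Type} [Field F] [Fintype F] (hF : ¬ Odd (Fintype.card F))
    (hmc : ∀ {r : ℕ}, PP (Nat.card F) 4 r → ∀ R : Subgroup (PSp 4 F), Cyc r R → Miss (PSp 4 F) R)
    (h82 : Fintype.card F = 2 → ∀ R : Subgroup (PSp 4 F), R ≠ ⊤ →
      PGap _ R ∨ Nat.card R = 197406720 ∨ Nat.card R = 394813440) : MissMax (PSp 4 F) := by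
  intro M hM
  by_cases h2 : Fintype.card F = 2
  · have h5 : PP (Nat.card F) 4 5 := by
      rw [Nat.card_eq_fintype_card, h2]
      refine ⟨by norm_num, ?_⟩
      exact orderOf_eq_prime_pow (p := 2) (n := 1) (x := ((2 : ℕ) : ZMod 5)) (show ¬ (2 : ZMod 5) ^ 2 = 1 by decide)
        (show (2 : ZMod 5) ^ 4 = 1 by decide)
    rcases h82 h2 M hM.1 with h | h | h
    · exact h.ordGap.miss
    · exact hmc h5 M (cyc_of_card h5.prime (by rw [h]; norm_num))
    · exact hmc h5 M (cyc_of_card h5.prime (by rw [h]; norm_num))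
  obtain ⟨p, f, hp, hf, hpf, _⟩ := fintype_of_named F
  have hT : IsNamed (.psp 4 (p ^ f)) (PSp 4 F) := hpf ▸ named_psp F (by omega) (by omega)
  have hp2 : p = 2 := by
    by_contra hne
    exact hF (hpf ▸ (hp.odd_of_ne_two hne).pow)
  have hf2 : f ≠ 1 := by
    rintro rfl
    rw [pow_one] at hpf
    omega
  rcases Cfsg.Agent.H901.SaxSp.psp_cases (by omega) (fun h => by omega) (fun h => by omega) (fun h => by omega)
    hM.1 with h | ⟨P, hres, -, -⟩ | ⟨hk, hq, Q, hpol, hP, hH⟩ | ⟨h, -⟩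
  · exact h.ordGap.miss
  · refine socle_any hp hnm hT trivial ⟨f, rfl⟩ ?_ ?_ ?_ hres.perfect ?_
      (exists_socle (spToGL 4 F) Cfsg.Agent.H262.El.spToGL_injective _ (QuotientGroup.mk'_surjective _) hker_sp hres)
      (fun h => h.ordGap.miss) ?_
    · intro h
      simp [surv] at h
    · intro g h
      simp [exc] at h
    · intro g h
      simp [excP] at h
    · rw [Fintype.card_sum, Fintype.card_fin]
      rfl
    · intro S g h1 h2' h3 h5 h6 h7
      by_cases hfull : Full (PSp 4 F) M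
      · obtain ⟨-, hg⟩ := full_psp hT hp hf (by norm_num) (fun h => by omega) (fun h => hf2 (by omega)) hM.1 hfull S h3
          h5 h6 h7
        obtain ⟨r, hr, hlt⟩ := exists_big hp hf (n := 4) (by norm_num) (fun h => by omega)
        refine hmc (pp_of_prim ?_) M (cyc_four S h3 h5 (Or.inl hg) h6 hp hf hr hlt (by norm_num) (by norm_num))
        rw [Nat.card_eq_fintype_card, hpf]
        exact hr
      · exact (pgap_of_not_full hfull).ordGap.miss
  · refine Miss.of_der (Cfsg.Agent.H81.SaxSp.der_minus (Q := ⇑Q) (by norm_num) (by decide) hF ?_ ?_ ?_)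
    · exact Cfsg.Agent.H883.Bridge.isNondegenerateQuadraticForm (nondeg_of_symp hpol)
    · intro Q' hQ'
      rwa [DFunLike.coe_injective hQ']
    · intro g hg
      refine ⟨1, fun v => ?_⟩
      rw [(Cfsg.Agent.ClassicalGeometry.Reflection.mem_isometryGroup_iff _ _).1 (hH hg) v, Units.val_one, one_mul]
  · omega

end Cfsg.Agent.H938.Sax
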