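import Cfsg.Agent.H938.Sax.PEight
import Cfsg.Agent.H264.FKS.ResCore
import Cfsg.Agent.H264.FKS.SpFour
import Cfsg.Agent.H278.ElAsm
import Cfsg.Agent.H884.CxMain
import Cfsg.Agent.H833.PlusNe

/-!
# `OGMax` for symplectic and orthogonal groups (helper938)
-/

set_option autoImplicit false

namespace Cfsg.Agent.H938.Sax

open Module QuadraticMap Cfsg Cfsg.Geo Cfsg.Agent.LieClassical.OrthCore
  Cfsg.Agent.H884.El Cfsg.Agent.OrdDiv Cfsg.Agent.H436 Cfsg.Agent.H915.GN
  Cfsg.Agent.H264.GN Cfsg.Agent.H931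
open Cfsg.Agent.H264.FKS (SocleOf exists_socle hker_sp exists_res_odd exists_res_plus exists_res_minus named_psp
  named_oodd named_oplus named_ominus charRow_ominus exists_pf)
open Cfsg.Agent.H278.El.SporNum (IsCl exc)
open Cfsg.Agent.H278.El.AltNum (dimOf surv)
open Cfsg.Agent.H884.Cx (excP cross_row)
open Cfsg.Agent.H876 (spToGL)
open scoped MatrixGroups Matrix

/-- the names of the simple groups -/
def NamedAll : Prop := ∀ (S : Type) [Group S] [Finite S] [IsSimpleGroup S], ¬ IsMulCommutative S → ∃ g, IsNamed g S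

/-- a subgroup in the residual class: alternating, sporadic, cross characteristic socles are done -/
theorem socle_gap {T : Type} [Group T] [Finite T] {gT : Grp} {M : Subgroup T} {p : ℕ} (hp : p.Prime)
    (hnm : NamedAll) (hT : IsNamed gT T) (hcl : IsCl gT) (hchT : HasChar p gT) (hsurv : gT ∉ surv)
    (hexc : ∀ g, (g, gT) ∉ exc) {ι : Type} [Fintype ι] [DecidableEq ι] {F : Type} [Field F] [Finite F] [CharP F p]
    {P : Subgroup (GL ι F)} (hP : ⁅P, P⁆ = P) (hcard : Fintype.card ι = dimOf gT) (hM : SocleOf M P)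
    (hsame : ∀ (S : Subgroup M) (g : Grp), S.Normal → IsSimpleGroup S → ¬ IsMulCommutative S →
      Subgroup.centralizer (S : Set M) = ⊥ → IsNamed g S → HasChar p g → OrdGap T M)
    (hexP : ∀ (S : Subgroup M) (g : Grp), IsNamed g S → (g, gT) ∈ excP →
      Nonempty (S ≃* P ⧸ (scalars ι F).subgroupOf P) → OrdGap T M) :
    OrdGap T M := by
  obtain ⟨S, h1, h2, h3, h4, ⟨e⟩⟩ := hM
  obtain ⟨g, hg⟩ := hnm S h3
  refine Cfsg.Agent.H278.El.Asm.res_kill hT hcl hsurv hexc S h4 hg e hcard (fun h => PGap.ordGap h)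
    (hsame S g h1 h2 h3 h4 hg) (fun s hs hsp hch => ?_)
  rcases cross_row hp hT hcl hchT hcard S h3 h4 hP e hs hsp hg hch with h | h
  · exact PGap.ordGap h
  · exact hexP S g hg h ⟨e⟩

/-! ### symplectic groups -/

section psp

theorem ogMax_psp (hnm : NamedAll) {n q : ℕ} {T : Type} [Group T] [Finite T] (hT : IsNamed (.psp n q) T)
    (hn : 3 ≤ n) (h32 : ¬ (n = 3 ∧ q = 2)) (h4 : ¬ (n = 4 ∧ ¬ Odd q)) : OGMax T := by
  obtain ⟨F, _, _, hF, ⟨e⟩⟩ := hT.real
  refine OGMax.congr e.symm fun M hM => ?_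
  obtain ⟨p, f, hp, hf, hpf⟩ := exists_char F
  rw [Nat.card_eq_fintype_card] at hpf
  have := charP_of hp hf hpf
  have hT' : IsNamed (.psp n (p ^ f)) (PSp n F) := hpf ▸ named_psp F (by omega) (by omega)
  rcases psp_row hn (fun h => h32 ⟨h.1, hF ▸ h.2⟩) (fun h => h4 ⟨h.1, hF ▸ h.2⟩) hM.1 with h | ⟨P, hres, -, -⟩
  · exact h
  · refine socle_gap hp hnm hT' trivial ⟨f, rfl⟩ ?_ ?_ hres.perfect ?_
      (exists_socle (spToGL n F) Cfsg.Agent.H262.El.spToGL_injective _ (QuotientGroup.mk'_surjective _) hker_sp hres)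
      ?_ ?_
    · intro h
      simp only [surv, List.mem_cons, Grp.psp.injEq, reduceCtorEq, List.not_mem_nil, or_false, false_or] at h
      omega
    · intro g h
      simp [exc] at h
    · rw [Fintype.card_sum, Fintype.card_fin]
      change n + n = 2 * n
      omega
    · intro S g h1 h2 h3 h5 h6 h7
      exact charp_psp_gap' hT' hp hf hn (fun h => h4 ⟨h.1, by
        rw [← hF, hpf, h.2, Nat.not_odd_iff_even]
        exact even_two.pow_of_ne_zero (by omega)⟩) (fun h => h32 (by
        obtain ⟨rfl, h⟩ := h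
        have h8 : f * n = 3 := by
          have : f * (2 * n) = 2 * (f * n) := by ring
          omega
        have h9 : f = 1 := by
          have := Nat.mul_le_mul_left f hn
          omega
        subst h9
        rw [← hF, hpf]
        omega)) hM.1 S h3 h5 h6 h7
    · intro S g h1 h2 _
      exfalso
      simp [excP] at h2
      omega

end psp

/-! ### orthogonal groups -/

section orth

theorem fintype_of_named (F : Type) [Field F] [Fintype F] : ∃ p f, p.Prime ∧ 1 ≤ f ∧ Fintype.card F = p ^ f ∧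
    CharP F p := by
  obtain ⟨p, f, hp, hf, hpf⟩ := exists_char F
  rw [Nat.card_eq_fintype_card] at hpf
  exact ⟨p, f, hp, hf, hpf, charP_of hp hf hpf⟩

/-- `Ω_{2n+1}(q)`, not `Ω₇(3)` -/
theorem ogMax_oodd (hnm : NamedAll) {n q : ℕ} {T : Type} [Group T] [Finite T] (hT : IsNamed (.oodd n q) T)
    (h33 : ¬ (n = 3 ∧ q = 3)) : OGMax T := by
  have hn : 3 ≤ n := hT.cond.1
  obtain ⟨F, _, _, hF, ⟨e⟩⟩ := hT.real
  have hodd : Odd (Fintype.card F) := hF ▸ hT.cond.2.1
  refine OGMax.congr e.symm fun M hM => ?_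
  obtain ⟨p, f, hp, hf, hpf, _⟩ := fintype_of_named F
  have hT' : IsNamed (.oodd n (p ^ f)) (POmega F (quadFormOdd n F)) := hpf ▸ named_oodd F hn hodd
  have hrow : OrdGap (POmega F (quadFormOdd n F)) M ∨ InOrthogonalResidualClass (pre (quadFormOdd n F) M) := by
    by_cases h4 : n = 4
    · subst h4
      exact odd_row_four hodd M
    · exact odd_row hn h4 hodd M
  rcases hrow with h | ⟨P, hres, -⟩
  · exact h
  · refine socle_gap hp hnm hT' trivial ⟨f, rfl⟩ ?_ ?_ hres.perfect ?_ (exists_res_odd hn hodd hres) ?_ ?_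
    · intro h
      simp [surv] at h
    · intro g h
      simp [exc] at h
    · simp only [Fintype.card_sum, Fintype.card_fin, Fintype.card_unit]
      change 1 + (n + n) = 2 * n + 1
      omega
    · intro S g h1 h2 h3 h5 h6 h7
      exact charp_oodd_gap' hT' hp hf hn hM.1 S h3 h5 h6 h7
    · intro S g h1 h2 _
      exfalso
      simp [excP] at h2
      exact h33 ⟨h2.2.1, by rw [← hF, hpf, h2.2.2]⟩

/-- `PΩ⁺_{2n}(q)`, `n ≥ 5` -/
theorem ogMax_oplus_five (hnm : NamedAll) {n q : ℕ} {T : Type} [Group T] [Finite T] (hT : IsNamed (.oplus n q) T)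
    (hn : 5 ≤ n) (h52 : ¬ (n = 5 ∧ q = 2)) : OGMax T := by
  obtain ⟨F, _, _, hF, ⟨e⟩⟩ := hT.real
  refine OGMax.congr e.symm fun M hM => ?_
  obtain ⟨p, f, hp, hf, hpf, _⟩ := fintype_of_named F
  have hT' : IsNamed (.oplus n (p ^ f)) (POmega F (quadFormPlus n F)) := hpf ▸ named_oplus F (by omega)
  rcases plus_row (by omega) (by omega) M with h | ⟨P, hres, -⟩
  · exact h
  · refine socle_gap hp hnm hT' trivial ⟨f, rfl⟩ ?_ ?_ hres.perfect ?_ (exists_res_plus (by omega) hres) ?_ ?_
    · intro h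
      simp [surv] at h
      omega
    · intro g h
      simp [exc] at h
      omega
    · simp only [Fintype.card_sum, Fintype.card_fin]
      change n + n = 2 * n
      omega
    · intro S g h1 h2 h3 h5 h6 h7
      refine charp_oplus_gap hT' hp hf hn (fun h => h52 ?_) hM.1 S h3 h5 h6 h7
      obtain ⟨rfl, h⟩ := h
      have h8 : f * (n - 2) = 3 := by
        have : f * (2 * (n - 2)) = 2 * (f * (n - 2)) := by ring
        omega
      have h9 : f = 1 := by
        have := Nat.mul_le_mul_left f (show 3 ≤ n - 2 by omega)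
        omega
      subst h9
      rw [← hF, hpf]
      omega
    · intro S g h1 h2 _
      exfalso
      simp [excP] at h2
      omega

/-- `PΩ⁺_8(q)`, `q ≥ 4` -/
theorem ogMax_oplus_four (hnm : NamedAll) {q : ℕ} {T : Type} [Group T] [Finite T] (hT : IsNamed (.oplus 4 q) T)
    (hq : 4 ≤ q) : OGMax T := by
  obtain ⟨F, _, _, hF, ⟨e⟩⟩ := hT.real
  refine OGMax.congr e.symm fun M hM => ?_
  obtain ⟨p, f, hp, hf, hpf, _⟩ := fintype_of_named F
  have hT' : IsNamed (.oplus 4 (p ^ f)) (POmega F (quadFormPlus 4 F)) := hpf ▸ named_oplus F (by omega)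
  have hq' : 4 ≤ p ^ f := by rw [← hpf, hF]; exact hq
  rcases plus_row_four (by rw [hF]; exact hq) M with h | ⟨P, hres, -⟩
  · exact h
  · refine socle_gap hp hnm hT' trivial ⟨f, rfl⟩ ?_ ?_ hres.perfect ?_ (exists_res_plus (by omega) hres) ?_ ?_
    · intro h
      simp [surv] at h
      omega
    · intro g h
      simp [exc] at h
      omega
    · simp only [Fintype.card_sum, Fintype.card_fin]
      rfl
    · intro S g h1 h2 h3 h5 h6 h7
      exact charp_eight_gap hp hf hq' hT' hM.1 S h3 h5 h6 h7 fun h8 h9 =>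
        Cfsg.Agent.H833.PlusTwo.card_ne' hT' h8 S h5 h9
    · intro S g h1 h2 _
      exfalso
      simp [excP] at h2
      omega

/-- `PΩ⁻_{2n}(q)`, not `PΩ⁻_8(2)` -/
theorem ogMax_ominus (hnm : NamedAll) {n q : ℕ} {T : Type} [Group T] [Finite T] (hT : IsNamed (.ominus n q) T)
    (h42 : ¬ (n = 4 ∧ q = 2)) : OGMax T := by
  have hn : 4 ≤ n := hT.cond.1
  obtain ⟨F, _, _, a, b, hF, hab, ⟨e⟩⟩ := hT.real
  refine OGMax.congr e.symm fun M hM => ?_
  obtain ⟨p, f, hp, hf, hpf, _⟩ := fintype_of_named F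
  have hT' : IsNamed (.ominus n (p ^ f)) (POmega F (quadFormMinus (n - 1) F a b)) := hpf ▸ named_ominus F hn hab
  rcases minus_row hn hab M with h | ⟨P, hres, -⟩
  · exact h.ordGap
  · refine socle_gap hp hnm hT' trivial ⟨f, rfl⟩ ?_ ?_ hres.perfect ?_ (exists_res_minus hn a b hab hres) ?_ ?_
    · intro h
      simp [surv] at h
    · intro g h
      simp [exc] at h
    · simp only [Fintype.card_sum, Fintype.card_fin]
      change n - 1 + (n - 1) + 2 = 2 * n
      omega
    · intro S g h1 h2 h3 h5 h6 h7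
      exact PGap.ordGap (charRow_ominus hp (dvd_pow_self p (by omega)) hT' (fun h => h42 ⟨h.2, by
        rw [← hF, hpf, h.1]⟩) M hM.1 S h1 h2 h3 h5 g h6 h7)
    · intro S g h1 h2 _
      exfalso
      simp [excP] at h2

end orth

end Cfsg.Agent.H938.Sax
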