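import Cfsg.Agent.H938.Sax.All
import Cfsg.Agent.OrdDiv.Table
import Cfsg.Agent.S0000

/-!
# S2498 and S2528 (helper938)
-/

set_option autoImplicit false

namespace Cfsg.Agent.H938.Sax

open Cfsg Cfsg.Agent.OrdDiv Cfsg.Agent.H436 Cfsg.Agent.H278.El.Asm

universe u

theorem knownAll : KnownAll := fun _ _ _ _ => S0000.result

theorem rec3 : Cfsg.Agent.H198.Sax.Rec := fun _ _ _ h => Cfsg.Agent.S3408.main h

theorem four_le {q : ℕ} (h3 : 3 ≤ q) (ho : ¬ Odd q) : 4 ≤ q := by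
  rcases Nat.eq_or_lt_of_le h3 with h | h
  · exact absurd (by rw [← h]; decide) ho
  · exact h

/-- **Every maximal subgroup of a nonabelian finite simple group misses an automorphism class.** -/
theorem missMax_all (tab : OrderTable.{0}) (hK : KnownAll) {T : Type} [Group T] [Finite T] {g : Grp} (h : IsNamed g T) :
    MissMax T := by
  have hnm : NamedAll := fun S _ _ _ hna => named_of_simple tab hK hna
  by_cases hx : Exn g
  swap
  · exact (ogMax_all tab hK h hx).missMax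
  cases g with
  | psp m q =>
    obtain ⟨hm, ho⟩ := hx
    have hc := h.cond
    obtain ⟨F, _, _, rfl, ⟨e⟩⟩ := h.real
    have h2 := Cfsg.Agent.H81.SaxSp.char_two ho
    rcases hm with rfl | rfl
    · exact (H813.SaxSp.sp4e_miss (four_le (hc.2.1 rfl) ho)).congr e.symm
    · exact (sp8e_miss hnm ho (fun hr R hR => H753.SaxR.miss_of_cyc ho hr hR)
        (fun hF R hR => H503.El.pgap_sp82 tab hK F hF R hR)).congr e.symm
  | oplus m q =>
    obtain ⟨rfl, hq⟩ := hx
    obtain ⟨F, _, _, hF, ⟨e⟩⟩ := h.real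
    rcases hq with rfl | rfl
    · exact (H320.O8.o8p2_miss hF).congr e.symm
    · exact (H198.Sax.o8p3_miss hF rec3).congr e.symm
  | _ => exact hx.elim

/-- a copy in `Type` -/
theorem exists_copy {G : Type u} [Group G] [Finite G] [IsSimpleGroup G] (hna : ¬ IsMulCommutative G) :
    ∃ (T : Type) (_ : Group T) (_ : Finite T) (_ : IsSimpleGroup T) (g : Grp), IsNamed g T ∧ Nonempty (T ≃* G) := by
  let e : Shrink.{0} G ≃* G := (Shrink.mulEquiv : Shrink.{0} G ≃* G)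
  have hfin : Finite (Shrink.{0} G) := Finite.of_equiv G e.symm.toEquiv
  have hs : IsSimpleGroup (Shrink.{0} G) := e.isSimpleGroup
  have hna' : ¬ IsMulCommutative (Shrink.{0} G) := by
    intro hcomm
    refine hna ⟨⟨fun a b => ?_⟩⟩
    apply e.symm.injective
    rw [map_mul, map_mul]
    exact hcomm.is_comm.comm _ _
  obtain ⟨g, hg⟩ := named_of_simple table knownAll hna'
  exact ⟨Shrink.{0} G, inferInstance, hfin, hs, g, hg, ⟨e⟩⟩

/-- **S2498** -/
theorem s2498 {G : Type u} [Group G] [Finite G] (hs : IsSimpleGroup G) (hna : ∃ a b : G, a * b ≠ b * a)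
    (H : Subgroup G) (hH : H ≠ ⊤) : ∃ g : G, ∀ φ : G ≃* G, φ g ∉ H := by
  obtain ⟨T, i1, i2, i3, g, hg, ⟨e⟩⟩ := exists_copy (G := G) (by
    intro hc
    obtain ⟨a, b, hab⟩ := hna
    exact hab (hc.is_comm.comm a b))
  exact ((missMax_all table knownAll hg).congr e).miss H hH

/-- **S2528** -/
theorem s2528 {G : Type u} [Group G] [Finite G] [IsSimpleGroup G] (hG : ¬ IsMulCommutative G)
    (L : Subgroup G) (K : Subgroup ↥L) [hKn : K.Normal]
    (h : Set.range (orderOf : (↥L ⧸ K) → ℕ) = Set.range (orderOf : G → ℕ)) :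
    K = ⊥ ∧ (L = ⊤ ∨ ∃ (F : Type) (_ : Field F) (_ : Fintype F),
      (CharP F 2 ∧ (Nonempty (G ≃* Cfsg.PSp 2 F) ∨ Nonempty (G ≃* Cfsg.PSp 4 F))) ∨
      ((Fintype.card F = 2 ∨ Fintype.card F = 3) ∧ Nonempty (G ≃* Cfsg.POmega F (Cfsg.quadFormPlus 4 F)))) := by
  obtain ⟨T, i1, i2, i3, g, hg, ⟨e⟩⟩ := exists_copy hG
  by_cases hx : Exn g
  swap
  · have h1 := section_of_ogMax ((ogMax_all table knownAll hg hx).congr e) L K h
    exact ⟨h1.1, Or.inl h1.2⟩
  cases g with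
  | psp m q =>
    obtain ⟨hm, ho⟩ := hx
    have hc := hg.cond
    obtain ⟨F, j1, j2, rfl, ⟨e'⟩⟩ := hg.real
    have h2 := Cfsg.Agent.H81.SaxSp.char_two ho
    rcases hm with rfl | rfl
    · exact ⟨H813.SaxSp.section_congr (e'.symm.trans e)
        (fun L K _ h => H813.SaxSp.sp4e_section (four_le (hc.2.1 rfl) ho) L K h) L K h,
        Or.inr ⟨F, j1, j2, Or.inl ⟨h2, Or.inl ⟨e.symm.trans e'⟩⟩⟩⟩
    · exact ⟨H813.SaxSp.section_congr (e'.symm.trans e)
        (fun L K _ h => sp8e_section ho L K h) L K h,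
        Or.inr ⟨F, j1, j2, Or.inl ⟨h2, Or.inr ⟨e.symm.trans e'⟩⟩⟩⟩
  | oplus m q =>
    obtain ⟨rfl, hq⟩ := hx
    obtain ⟨F, j1, j2, hF, ⟨e'⟩⟩ := hg.real
    refine ⟨H813.SaxSp.section_congr (e'.symm.trans e) (fun L K _ h => ?_) L K h,
      Or.inr ⟨F, j1, j2, Or.inr ⟨hF ▸ hq, ⟨e.symm.trans e'⟩⟩⟩⟩
    rcases hq with rfl | rfl
    · exact H320.O8.o8p2_section hF L K h
    · exact H198.Sax.o8p3_section hF rec3 L K h
  | _ => exact hx.elim

end Cfsg.Agent.H938.Sax
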