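import Cfsg.Agent.H938.Sax.PlusRow
import Cfsg.Agent.H264.FKS.TwoFam

/-!
# Normalisers of subgroups of primitive prime order and the index of the socle (helper938)
-/

set_option autoImplicit false
set_option linter.style.haveILetI false

namespace Cfsg.Agent.H938.Sax.Frat

open Module Polynomial Cfsg.Agent.H884.El
open Cfsg.Agent.H951 (fx cm Inv Irr)

universe u v

/-- an endomorphism `α ↦ α ^ j` of the field `F[α]` over the finite field `F` -/
theorem aut_pow {F : Type u} [Field F] [Finite F] {P : F[X]} (hP : Irreducible P) {j : ℕ}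
    (h : aeval (AdjoinRoot.root P ^ j) P = 0) :
    (AdjoinRoot.root P) ^ (j ^ P.natDegree) = AdjoinRoot.root P := by
  have : Fact (Irreducible P) := ⟨hP⟩
  have hfd : FiniteDimensional F (AdjoinRoot P) := (AdjoinRoot.powerBasis hP.ne_zero).finite
  have hfin : Finite (AdjoinRoot P) := Module.finite_of_finite F
  let σ : AdjoinRoot P →ₐ[F] AdjoinRoot P := AdjoinRoot.liftAlgHom P (Algebra.ofId F (AdjoinRoot P))
    (AdjoinRoot.root P ^ j) h
  have hσ : σ (AdjoinRoot.root P) = AdjoinRoot.root P ^ j := by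
    exact AdjoinRoot.liftAlgHom_root _ _ _ _
  have hbij : Function.Bijective σ := (Finite.injective_iff_bijective).1 σ.toRingHom.injective
  let τ : AdjoinRoot P ≃ₐ[F] AdjoinRoot P := AlgEquiv.ofBijective σ hbij
  have hτ : ∀ n : ℕ, (τ ^ n) (AdjoinRoot.root P) = AdjoinRoot.root P ^ (j ^ n) := by
    intro n
    induction n with
    | zero => simp
    | succ n ih =>
      rw [pow_succ', AlgEquiv.mul_apply, ih, map_pow]
      change σ (AdjoinRoot.root P) ^ _ = _
      rw [hσ, ← pow_mul, pow_succ']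
  have hcard : Nat.card (AdjoinRoot P ≃ₐ[F] AdjoinRoot P) = P.natDegree := by
    rw [IsGalois.card_aut_eq_finrank, (AdjoinRoot.powerBasis hP.ne_zero).finrank, AdjoinRoot.powerBasis_dim]
  have h1 : τ ^ P.natDegree = 1 := by
    rw [← hcard]
    exact pow_card_eq_one'
  have h2 := hτ P.natDegree
  rw [h1] at h2
  exact h2.symm

section

variable {F : Type u} [Field F] [Fintype F] {V : Type v} [AddCommGroup V] [Module F V] [FiniteDimensional F V]
  {x y : Module.End F V} {r e : ℕ}

/-- irreducible commutator space: invariant subspaces contain it or are fixed pointwise. -/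
theorem le_or (hr : PP (Nat.card F) e r) (he : 1 ≤ e) (hx : x ^ r = 1) (hcm : finrank F (cm x) = e)
    {W : Submodule F V} (hW : Inv x W) : W ≤ fx x ∨ cm x ≤ W := by
  have := Fact.mk hr.prime
  have hr0 := hr.ne0 he
  have h1 : e ∣ finrank F ↥(W ⊓ cm x) := by
    rw [← ord_eq hr]
    exact H951.ord_dvd_finrank hx (hW.inf H951.inv_cm) (H951.inf_fx_of_le_cm hr0 hx inf_le_right)
  have h2 : finrank F ↥(W ⊓ cm x) ≤ finrank F (cm x) := Submodule.finrank_mono inf_le_right
  rcases Nat.eq_zero_or_pos (finrank F ↥(W ⊓ cm x)) with h0 | h0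
  · left
    have h4 : W ⊓ cm x = ⊥ := Submodule.finrank_eq_zero.1 h0
    have h5 := H951.inf_fx_sup_inf_cm hr0 hx hW
    rw [h4, sup_bot_eq] at h5
    rw [← h5]
    exact inf_le_right
  · right
    have := Nat.le_of_dvd h0 h1
    have h6 : W ⊓ cm x = cm x := Submodule.eq_of_le_of_finrank_eq inf_le_right (by omega)
    rw [← h6]
    exact inf_le_left

theorem irr_cm (hr : PP (Nat.card F) e r) (he : 1 ≤ e) (hx : x ^ r = 1) (hcm : finrank F (cm x) = e) :
    Irr x (cm x) := by
  have hr0 := hr.ne0 he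
  refine ⟨fun h => ?_, H951.inv_cm, fun U hU hUi => ?_⟩
  · rw [h, finrank_bot] at hcm
    omega
  · rcases le_or hr he hx hcm hUi with h | h
    · left
      rw [eq_bot_iff, ← (H951.isCompl_fx_cm hr0 hx).inf_eq_bot]
      exact le_inf h hU
    · right
      exact le_antisymm hU h

/-- **A linear map which normalises `⟨x⟩` acts on it as an automorphism of order dividing `e`.** -/
theorem pow_e_modEq (hr : PP (Nat.card F) e r) (he : 2 ≤ e) (hx : x ^ r = 1) (hcm : finrank F (cm x) = e)
    {j : ℕ} (hy : Function.Injective y) (hyx : y * x = x ^ j * y) : j ^ e ≡ 1 [MOD r] := by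
  have := Fact.mk hr.prime
  have hr0 := hr.ne0 (by omega)
  have hirr := irr_cm hr (by omega) hx hcm
  obtain ⟨P, hP, hd, hPW⟩ := hirr.exists_factor (cyclotomic r F) (cyclotomic_ne_zero r F)
    (fun v hv => H951.cyclotomic_apply_of_mem_cm hx hv)
  have hdeg : P.natDegree = e := by
    rw [H951.natDegree_factor hr0 hP hd, ord_eq hr]
  -- `y` maps `cm x` onto itself
  have hyW : Inv y (cm x) := by
    intro w hw
    obtain ⟨v, rfl⟩ := H951.mem_cm.1 hw
    have h1 : y (x v) = (x ^ j) (y v) := congrArg (fun z : Module.End F V => z v) hyx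
    rw [map_sub, h1]
    have key : ∀ n : ℕ, ∀ u : V, (x ^ n) u - u ∈ cm x := by
      intro n u
      induction n with
      | zero => simp
      | succ n ih =>
        have h2 : (x ^ (n + 1)) u - u = (x ((x ^ n) u) - (x ^ n) u) + ((x ^ n) u - u) := by
          rw [pow_succ', Module.End.mul_apply]; abel
        rw [h2]
        exact (cm x).add_mem (H951.mem_cm.2 ⟨_, rfl⟩) ih
    exact key j (y v)
  have hsurj : ∀ w ∈ cm x, ∃ v ∈ cm x, y v = w := by
    have h1 : (cm x).map y = cm x := by
      apply Submodule.eq_of_le_of_finrank_eq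
      · rintro _ ⟨w, hw, rfl⟩
        exact hyW w hw
      · exact (LinearEquiv.finrank_eq (Submodule.equivMapOfInjective y hy (cm x))).symm
    intro w hw
    rw [← h1] at hw
    exact hw
  have hpow : ∀ n : ℕ, y * x ^ n = (x ^ j) ^ n * y := by
    intro n
    induction n with
    | zero => simp
    | succ n ih => rw [pow_succ, ← mul_assoc, ih, mul_assoc, hyx, ← mul_assoc, ← pow_succ]
  have hconj : ∀ f : F[X], y * aeval x f = aeval (x ^ j) f * y := by
    intro f
    induction f using Polynomial.induction_on' with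
    | add p q hp hq => rw [map_add, map_add, mul_add, add_mul, hp, hq]
    | monomial n a =>
      rw [aeval_monomial, aeval_monomial, mul_assoc, ← hpow, ← mul_assoc, ← mul_assoc,
        (Algebra.commutes a y).symm]
  have hcomp : ∀ w ∈ cm x, aeval x (P.comp (X ^ j)) w = 0 := by
    intro w hw
    obtain ⟨v, hv, rfl⟩ := hsurj w hw
    have h1 : aeval x (P.comp (X ^ j)) = aeval (x ^ j) P := by
      rw [aeval_comp, map_pow, aeval_X]
    rw [h1]
    have h2 := congrArg (fun z : Module.End F V => z v) (hconj P)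
    have h3 : y (aeval x P v) = aeval (x ^ j) P (y v) := h2
    rw [← h3, hPW v hv, map_zero]
  have hdvd : P ∣ P.comp (X ^ j) := by
    by_contra hnd
    have hco : IsCoprime P (P.comp (X ^ j)) := (hP.coprime_iff_not_dvd).2 hnd
    obtain ⟨a, b, hab⟩ := hco
    obtain ⟨v, hv, hv0⟩ := (Submodule.ne_bot_iff _).1 hirr.1
    apply hv0
    have h1 : aeval x (a * P + b * P.comp (X ^ j)) v = v := by rw [hab]; simp
    rw [← h1, map_add, LinearMap.add_apply, map_mul, map_mul, Module.End.mul_apply, Module.End.mul_apply,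
      hPW v hv, hcomp v hv, map_zero, map_zero, add_zero]
  have hroot : aeval (AdjoinRoot.root P ^ j) P = 0 := by
    have h1 : aeval (AdjoinRoot.root P) (P.comp (X ^ j)) = 0 := by
      obtain ⟨c, hc⟩ := hdvd
      rw [hc, map_mul, AdjoinRoot.aeval_eq, AdjoinRoot.mk_self, zero_mul]
    rwa [aeval_comp, map_pow, aeval_X] at h1
  have hfix := aut_pow hP hroot
  rw [hdeg] at hfix
  have hF : Fact (Irreducible P) := ⟨hP⟩
  have hα : orderOf (AdjoinRoot.root P) = r := by
    have h1 : (AdjoinRoot.root P) ^ r = 1 := by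
      have h2 : P ∣ X ^ r - 1 := hd.trans (cyclotomic.dvd_X_pow_sub_one r F)
      obtain ⟨c, hc⟩ := h2
      have h3 : aeval (AdjoinRoot.root P) (X ^ r - 1 : F[X]) = 0 := by
        rw [hc, map_mul, AdjoinRoot.aeval_eq, AdjoinRoot.mk_self, zero_mul]
      rw [map_sub, map_pow, aeval_X, map_one] at h3
      exact sub_eq_zero.1 h3
    refine orderOf_eq_prime h1 fun h2 => ?_
    have h3 : P ∣ X - 1 := by
      have h4 : AdjoinRoot.mk P (X - 1) = 0 := by
        rw [map_sub, AdjoinRoot.mk_X, h2, map_one, sub_self]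
      exact AdjoinRoot.mk_eq_zero.1 h4
    have h4 := natDegree_le_of_dvd h3 (X_sub_C_ne_zero (1 : F) |> fun h => by simpa using h)
    have h5 : natDegree (X - 1 : F[X]) = 1 := by
      have := natDegree_X_sub_C (1 : F)
      rwa [map_one] at this
    omega
  have h1 : (AdjoinRoot.root P) ^ (j ^ e) = (AdjoinRoot.root P) ^ 1 := by rw [hfix, pow_one]
  have h0 : AdjoinRoot.root P ≠ 0 := by
    intro h0
    rw [h0, orderOf_zero] at hα
    exact hr.prime.ne_zero hα.symm
  have h2 : (Units.mk0 _ h0) ^ (j ^ e) = (Units.mk0 _ h0) ^ 1 := Units.ext (by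
    push_cast [Units.val_mk0]
    exact h1)
  rw [pow_eq_pow_iff_modEq, ← orderOf_units, Units.val_mk0, hα] at h2
  exact h2

omit [Fintype F] [FiniteDimensional F V] in
theorem pow_conj {j n : ℕ} (hyx : y * x = x ^ j * y) : y ^ n * x = x ^ (j ^ n) * y ^ n := by
  have hpow : ∀ m : ℕ, y * x ^ m = x ^ (j * m) * y := by
    intro m
    induction m with
    | zero => simp
    | succ m ih => rw [pow_succ, ← mul_assoc, ih, mul_assoc, hyx, ← mul_assoc, ← pow_add, mul_add, mul_one]
  induction n with
  | zero => simp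
  | succ n ih => rw [pow_succ', mul_assoc, ih, ← mul_assoc, hpow, mul_assoc, ← pow_succ', ← pow_succ']

/-- an element of order `p`, `p ∤ e`, normalising `⟨x⟩` centralises `x`. -/
theorem comm_of_norm (hr : PP (Nat.card F) e r) (he : 2 ≤ e) (hx : x ^ r = 1) (hcm : finrank F (cm x) = e)
    {j p : ℕ} (hyx : y * x = x ^ j * y) (hp : p.Coprime e) (hyp : y ^ p = 1) (hp0 : p ≠ 0) : y * x = x * y := by
  have hy : Function.Injective y := by
    intro a b hab
    obtain ⟨m, rfl⟩ := Nat.exists_eq_succ_of_ne_zero hp0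
    have h1 : ∀ v, (y ^ m) (y v) = v := fun v => by
      rw [← Module.End.mul_apply, ← pow_succ, hyp]; rfl
    rw [← h1 a, hab, h1 b]
  have h1 := pow_e_modEq hr he hx hcm hy hyx
  have hx1 : x ≠ 1 := by
    rintro rfl
    have h2 : cm (1 : Module.End F V) = ⊥ := by
      rw [eq_bot_iff]
      intro v hv
      obtain ⟨w, rfl⟩ := H951.mem_cm.1 hv
      simp
    rw [h2, finrank_bot] at hcm
    omega
  have hxo : orderOf x = r := by
    have := Fact.mk hr.prime
    exact orderOf_eq_prime hx hx1
  have hr1 := hr.prime.pos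
  have hxu : IsUnit x := by
    refine ⟨⟨x, x ^ (r - 1), ?_, ?_⟩, rfl⟩
    · rw [← pow_succ', Nat.sub_add_cancel hr1, hx]
    · rw [← pow_succ, Nat.sub_add_cancel hr1, hx]
  obtain ⟨u, rfl⟩ := hxu
  have h2 : j ^ p ≡ 1 [MOD r] := by
    have h3 := pow_conj (n := p) hyx
    rw [hyp, one_mul, mul_one] at h3
    have h4 : u ^ (j ^ p) = u ^ 1 := Units.ext (by push_cast; rw [pow_one]; exact h3.symm)
    rw [pow_eq_pow_iff_modEq, ← orderOf_units, hxo] at h4
    exact h4
  have h3 : j ≡ 1 [MOD r] := by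
    rw [← ZMod.natCast_eq_natCast_iff] at h1 h2 ⊢
    push_cast at h1 h2 ⊢
    have h4 : orderOf (j : ZMod r) ∣ 1 := by
      rw [← hp]
      exact Nat.dvd_gcd (orderOf_dvd_of_pow_eq_one h2) (orderOf_dvd_of_pow_eq_one h1)
    rw [Nat.dvd_one, orderOf_eq_one_iff] at h4
    exact h4
  have h4 : ((u : Module.End F V)) ^ j = u := by
    have h5 : u ^ j = u ^ 1 := by
      rw [pow_eq_pow_iff_modEq, ← orderOf_units, hxo]
      exact h3
    rw [pow_one] at h5
    exact_mod_cast congrArg Units.val h5
  rw [hyx, h4]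

/-- a `p`-element commuting with `x` acts trivially on `[V,x]` -/
theorem cm_le_fx (hr : PP (Nat.card F) e r) (he : 2 ≤ e) (hx : x ^ r = 1) (hcm : finrank F (cm x) = e)
    {p : ℕ} [CharP F p] [Fact p.Prime] (hyx : y * x = x * y) {n : ℕ} (hyp : y ^ (p ^ n) = 1) : cm x ≤ fx y := by
  have hinv : Inv x (fx y) := by
    intro w hw
    rw [H951.mem_fx] at hw ⊢
    have h1 : y (x w) = x (y w) := congrArg (fun z : Module.End F V => z w) hyx
    rw [h1, hw]
  rcases le_or hr (by omega) hx hcm hinv with h | h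
  · exfalso
    have hr0 := hr.ne0 (by omega)
    have h0 : cm x ⊓ fx y = ⊥ := by
      rw [eq_bot_iff, ← (H951.isCompl_fx_cm hr0 hx).inf_eq_bot]
      exact fun v hv => ⟨h hv.2, hv.1⟩
    have hz : (y - 1) ^ (p ^ n) = 0 := by
      have : CharP (Module.End F V) p := by
        have : Nontrivial V := by
          by_contra hcon
          rw [not_nontrivial_iff_subsingleton] at hcon
          have h8 : finrank F (cm x) ≤ finrank F V := Submodule.finrank_le _
          have h9 : finrank F V = 0 := finrank_zero_of_subsingleton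
          omega
        exact charP_of_injective_algebraMap (algebraMap F (Module.End F V)).injective p
      rw [sub_pow_char_pow_of_commute (p := p) n (Commute.one_right y), hyp, one_pow, sub_self]
    -- `y - 1` is injective on `cm x`
    have hstab : ∀ w ∈ cm x, (y - 1) w ∈ cm x := by
      intro w hw
      obtain ⟨v, rfl⟩ := H951.mem_cm.1 hw
      refine H951.mem_cm.2 ⟨(y - 1) v, ?_⟩
      have h1 : y (x v) = x (y v) := congrArg (fun z : Module.End F V => z v) hyx
      rw [LinearMap.sub_apply, LinearMap.sub_apply, Module.End.one_apply, Module.End.one_apply, map_sub,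
        map_sub, h1]
      abel
    have hinj : ∀ w ∈ cm x, (y - 1) w = 0 → w = 0 := by
      intro w hw h1
      rw [LinearMap.sub_apply, Module.End.one_apply, sub_eq_zero] at h1
      rw [← Submodule.mem_bot F, ← h0]
      exact ⟨hw, H951.mem_fx.2 h1⟩
    have key : ∀ m : ℕ, ∀ w ∈ cm x, ((y - 1) ^ m) w = 0 → w = 0 := by
      intro m
      induction m with
      | zero => intro w _ h1; simpa using h1
      | succ m ih =>
        intro w hw h1
        rw [pow_succ, Module.End.mul_apply] at h1
        exact hinj w hw (ih _ (hstab w hw) h1)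
    obtain ⟨v, hv, hv0⟩ := (Submodule.ne_bot_iff _).1 (irr_cm hr (by omega) hx hcm).1
    exact hv0 (key _ v hv (by rw [hz]; rfl))
  · exact h

/-- **No element of order `p` normalises `⟨x⟩`**, if `dim V ≤ e + 1`, `p ∤ e`. -/
theorem eq_one_of_norm (hr : PP (Nat.card F) e r) (he : 2 ≤ e) (hx : x ^ r = 1) (hcm : finrank F (cm x) = e)
    (hd : finrank F V ≤ e + 1) {p : ℕ} [CharP F p] [hpp : Fact p.Prime] {j : ℕ} (hyx : y * x = x ^ j * y)
    (hp : p.Coprime e) (hyp : y ^ p = 1) : y = 1 := by
  have hcomm := comm_of_norm hr he hx hcm hyx hp hyp hpp.out.ne_zero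
  have h1 := cm_le_fx hr he hx hcm hcomm (n := 1) (by rwa [pow_one])
  have hr0 := hr.ne0 (by omega)
  have hz : (y - 1) ^ p = 0 := by
    have : CharP (Module.End F V) p := by
      have : Nontrivial V := by
        by_contra hcon
        rw [not_nontrivial_iff_subsingleton] at hcon
        have h8 : finrank F (cm x) ≤ finrank F V := Submodule.finrank_le _
        have h9 : finrank F V = 0 := finrank_zero_of_subsingleton
        omega
      exact charP_of_injective_algebraMap (algebraMap F (Module.End F V)).injective p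
    rw [sub_pow_char_of_commute (p := p) (Commute.one_right y), hyp, one_pow, sub_self]
  -- `y - 1` has rank at most one and image in `fx x`, kernel contains `cm x`
  have hfx : fx x ≤ fx y := by
    intro w hw
    rw [H951.mem_fx] at hw ⊢
    have h2 := H951.finrank_fx_add_cm (F := F) hr0 hx
    have h3 : finrank F (fx x) ≤ 1 := by omega
    have hyw : y w ∈ fx x := by
      rw [H951.mem_fx]
      have h4 : y (x w) = x (y w) := congrArg (fun z : Module.End F V => z w) hcomm
      rw [← h4, hw]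
    by_cases hw0 : w = 0
    · rw [hw0, map_zero]
    · have h5 : finrank F (fx x) = 1 := by
        have h6 : finrank F (fx x) ≠ 0 := fun h7 => by
          rw [Submodule.finrank_eq_zero] at h7
          exact hw0 ((Submodule.mem_bot F).1 (h7 ▸ H951.mem_fx.2 hw))
        omega
      obtain ⟨c, hc⟩ := (finrank_eq_one_iff_of_nonzero' (⟨w, H951.mem_fx.2 hw⟩ : fx x)
        (fun h => hw0 (congrArg Subtype.val h))).1 h5 ⟨y w, hyw⟩
      have hc' : c • w = y w := congrArg Subtype.val hc
      have h6 : ∀ m : ℕ, ((y - 1) ^ m) w = (c - 1) ^ m • w := by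
        intro m
        induction m with
        | zero => simp
        | succ m ih =>
          rw [pow_succ', Module.End.mul_apply, ih, map_smul, LinearMap.sub_apply, Module.End.one_apply, ← hc',
            pow_succ, mul_smul, sub_smul, one_smul]
      have h7 := h6 p
      rw [hz, LinearMap.zero_apply] at h7
      have h8 : c - 1 = 0 := by
        rcases smul_eq_zero.1 h7.symm with h | h
        · exact pow_eq_zero_iff hpp.out.ne_zero |>.1 h
        · exact absurd h hw0
      rw [← hc', sub_eq_zero.1 h8, one_smul]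
  refine LinearMap.ext fun v => ?_
  have h2 : v ∈ fx x ⊔ cm x := by rw [(H951.isCompl_fx_cm hr0 hx).sup_eq_top]; trivial
  exact H951.mem_fx.1 (sup_le hfx h1 h2)

end

section group

variable {F : Type} [Field F] [Fintype F] {ι : Type} [Fintype ι] [DecidableEq ι] {X T : Type*} [Group X] [Group T]
  [Finite X] {e r p : ℕ}

theorem exists_zpow {P : Subgroup T} [IsCyclic P] [Finite P] (hr : r.Prime) {x y : T} (hx : x ∈ P)
    (hxo : orderOf x = r) (hy : y ∈ Subgroup.normalizer (P : Set T)) : ∃ j : ℕ, y * x * y⁻¹ = x ^ j := by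
  have h1 : y * x * y⁻¹ ∈ P := (Subgroup.mem_normalizer_iff.1 hy x).1 hx
  have h2 : orderOf (⟨y * x * y⁻¹, h1⟩ : P) = r := by
    rw [Subgroup.orderOf_mk, ← hxo]
    exact orderOf_injective (MulAut.conj y).toMonoidHom (MulAut.conj y).injective x
  have h3 : orderOf (⟨x, hx⟩ : P) = r := by rw [Subgroup.orderOf_mk, hxo]
  have h4 := Cfsg.Agent.H264.FKS.mem_zpowers_of_cyclic h3 h2 hr.pos
  have h5 : (⟨y * x * y⁻¹, h1⟩ : P) ∈ Submonoid.powers (⟨x, hx⟩ : P) := mem_powers_iff_mem_zpowers.2 h4
  obtain ⟨j, hj⟩ := h5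
  exact ⟨j, (congrArg Subtype.val hj).symm⟩

theorem no_norm (hr : PP (Nat.card F) e r) (he : 2 ≤ e) (hdim : Fintype.card ι ≤ e + 1)
    (σ : X →* Matrix.GeneralLinearGroup ι F) (hσ : Function.Injective σ) (π : X →* T) (hπ : Function.Surjective π)
    (hker : ∀ z, π z = 1 → z ∈ Subgroup.center X ∧ z ^ 2 = 1) [CharP F p] [hpp : Fact p.Prime] (hp2 : p ≠ 2)
    (hp : p.Coprime e) {P : Subgroup T} (hP : IsPGroup r P) (hP1 : P ≠ ⊥) {y : T}
    (hy : y ∈ Subgroup.normalizer (P : Set T)) (hyo : orderOf y = p) : False := by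
  have hfr := Fact.mk hr.prime
  haveI : Finite T := Finite.of_surjective π hπ
  have hcyc : Cfsg.Agent.H264.FKS.Cyc r T := Cfsg.Agent.H264.FKS.cyc_of_gl
    (prim_of_pp (Nat.card_pos (α := F)) (by omega) hr) he (by omega) σ hσ π hπ
  have := hcyc P hP
  obtain ⟨x, hxP, hxo⟩ : ∃ x ∈ P, orderOf x = r := by
    have h1 : r ∣ Nat.card P := by
      obtain ⟨n, hn⟩ := IsPGroup.iff_card.1 hP
      rw [hn]
      refine dvd_pow_self r fun h0 => hP1 ?_
      rw [h0, pow_zero] at hn
      exact Subgroup.card_eq_one.1 hn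
    obtain ⟨z, hz⟩ := exists_prime_orderOf_dvd_card' r h1
    exact ⟨z, z.2, by rw [← hz, Subgroup.orderOf_coe]⟩
  obtain ⟨j, hj⟩ := exists_zpow hr.prime hxP hxo hy
  have hrodd : Odd r := hr.odd he
  have hpodd : Odd p := hpp.out.odd_of_ne_two hp2
  obtain ⟨x₀, rfl⟩ := hπ x
  obtain ⟨y₀, rfl⟩ := hπ y
  obtain ⟨n, h1, h2⟩ := exists_lift_odd π (fun z hz => (hker z hz).2) hrodd hxo
  obtain ⟨m, h3, h4⟩ := exists_lift_odd π (fun z hz => (hker z hz).2) hpodd hyo
  generalize x₀ ^ n = a at h1 h2
  generalize y₀ ^ m = b at h3 h4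
  rw [← h1, ← h3] at hj
  -- the relation lifts
  have h5 : π (b * a * b⁻¹ * (a ^ j)⁻¹) = 1 := by
    rw [map_mul, map_mul, map_mul, map_inv, map_inv, map_pow, hj, mul_inv_cancel]
  obtain ⟨hc, hz2⟩ := hker _ h5
  obtain ⟨z, hz⟩ : ∃ z, z = b * a * b⁻¹ * (a ^ j)⁻¹ := ⟨_, rfl⟩
  rw [← hz] at hc hz2
  have h6 : b * a * b⁻¹ = z * a ^ j := by rw [hz]; group
  have h7 : (b * a * b⁻¹) ^ r = 1 := by
    rw [conj_pow, ← h2, pow_orderOf_eq_one, mul_one, mul_inv_cancel]
  have h8 : (z * a ^ j) ^ r = z ^ r := by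
    have hcomm : Commute z (a ^ j) := (Subgroup.mem_center_iff.1 hc (a ^ j)).symm
    rw [hcomm.mul_pow, ← pow_mul, mul_comm j r, pow_mul, ← h2, pow_orderOf_eq_one, one_pow, mul_one]
  have hz1 : z = 1 := by
    rw [← h6, h7] at h8
    obtain ⟨k, hk⟩ := hrodd
    rw [hk, pow_succ, pow_mul, hz2, one_pow, one_mul] at h8
    exact h8.symm
  rw [hz1, one_mul] at h6
  have h9 : b * a = a ^ j * b := by rw [← h6]; group
  -- linear maps
  have hmul : ∀ g h : X, lin (σ (g * h)) = lin (σ g) * lin (σ h) := fun g h => by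
    rw [map_mul, lin, Units.val_mul, Matrix.toLin'_mul]; rfl
  have hpow : ∀ (g : X) (k : ℕ), lin (σ (g ^ k)) = lin (σ g) ^ k := by
    intro g k
    induction k with
    | zero => rw [pow_zero, pow_zero, map_one, lin_one]
    | succ k ih => rw [pow_succ, pow_succ, hmul, ih]
  have hx1 : lin (σ a) ^ r = 1 := by
    rw [← hpow, ← h2, pow_orderOf_eq_one, map_one, lin_one]
  have hxne : lin (σ a) ≠ 1 := by
    intro h
    rw [← lin_one] at h
    have h10 := hσ ((lin_injective h).trans (map_one σ).symm)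
    rw [h10, orderOf_one] at h2
    exact hr.prime.one_lt.ne h2
  have hy1 : lin (σ b) ^ p = 1 := by
    rw [← hpow, ← h4, pow_orderOf_eq_one, map_one, lin_one]
  have hrel : lin (σ b) * lin (σ a) = lin (σ a) ^ j * lin (σ b) := by
    rw [← hmul, h9, hmul, hpow]
  have hfin : finrank F (ι → F) = Fintype.card ι := Module.finrank_fintype_fun_eq_card F
  have hcm : finrank F (cm (lin (σ a))) = e := by
    have hr0 := hr.ne0 (by omega)
    have h10 : e ∣ finrank F (cm (lin (σ a))) := by
      rw [← ord_eq hr]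
      exact H951.ord_dvd_finrank hx1 H951.inv_cm (H951.inf_fx_of_le_cm hr0 hx1 le_rfl)
    obtain ⟨k, hk⟩ := h10
    have h11 : finrank F (cm (lin (σ a))) ≤ finrank F (ι → F) := Submodule.finrank_le _
    have h12 : finrank F (cm (lin (σ a))) ≠ 0 := fun h0 => by
      rw [Submodule.finrank_eq_zero, H951.cm, LinearMap.range_eq_bot, sub_eq_zero] at h0
      exact hxne h0
    have h13 : k = 1 := by
      have h14 : k < 2 := by
        by_contra hcon
        have := Nat.mul_le_mul_left e (show 2 ≤ k by omega)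
        omega
      have h15 : k ≠ 0 := by rintro rfl; omega
      omega
    rw [hk, h13, mul_one]
  have h10 := eq_one_of_norm hr he hx1 hcm (by rw [hfin]; exact hdim) (p := p) hrel hp hy1
  rw [← lin_one] at h10
  have h11 := hσ ((lin_injective h10).trans (map_one σ).symm)
  rw [h11, orderOf_one] at h4
  exact hpp.out.one_lt.ne h4

omit [Finite X] in
/-- **Frattini**: if no element of order `p` normalises an `r`-subgroup, then `p` does not divide the index of a
normal subgroup whose order is divisible by `r`. -/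
theorem not_dvd_index [Finite T] {R : Subgroup T} (S : Subgroup R) [S.Normal] (hr : r.Prime) (hrS : r ∣ Nat.card S)
    (hp : p.Prime)
    (H : ∀ P : Subgroup T, IsPGroup r P → P ≠ ⊥ → ∀ y ∈ Subgroup.normalizer (P : Set T), orderOf y ≠ p) :
    ¬ p ∣ S.index := by
  intro hd
  have hfr := Fact.mk hr
  have hfp := Fact.mk hp
  obtain ⟨P⟩ : Nonempty (Sylow r S) := inferInstance
  have h1 := Sylow.normalizer_sup_eq_top P
  set P₁ : Subgroup R := (P : Subgroup S).map S.subtype with hP₁
  have h2 : S.relIndex (Subgroup.normalizer (P₁ : Set R)) = S.index := by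
    rw [← Subgroup.relIndex_sup_right, h1, Subgroup.relIndex_top_right]
  have h3 : p ∣ Nat.card (Subgroup.normalizer (P₁ : Set R)) := by
    rw [← h2] at hd
    exact hd.trans (Subgroup.relIndex_dvd_card _ _)
  obtain ⟨y, hy⟩ := exists_prime_orderOf_dvd_card' p h3
  refine H (P₁.map R.subtype) ((P.isPGroup'.map _).map _) ?_ ((y : R) : T) ?_ ?_
  · intro h4
    rw [Subgroup.map_eq_bot_iff_of_injective _ R.subtype_injective, hP₁,
      Subgroup.map_eq_bot_iff_of_injective _ S.subtype_injective] at h4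
    exact P.ne_bot_of_dvd_card hrS h4
  · rw [Subgroup.mem_normalizer_iff]
    intro t
    have h5 := Subgroup.mem_normalizer_iff.1 y.2
    constructor
    · rintro ⟨z, hz, rfl⟩
      exact ⟨(y : R) * z * (y : R)⁻¹, (h5 z).1 hz, rfl⟩
    · rintro ⟨z, hz, hzt⟩
      have h6 : t = (((y : R)⁻¹ * z * (y : R) : R) : T) := by
        have : (z : T) = (y : R) * t * ((y : R) : T)⁻¹ := hzt
        push_cast
        rw [this]; group
      refine ⟨(y : R)⁻¹ * z * (y : R), (h5 _).2 ?_, h6.symm⟩
      have h7 : (y : R) * ((y : R)⁻¹ * z * (y : R)) * (y : R)⁻¹ = z := by group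
      rw [h7]
      exact hz
  · rw [Subgroup.orderOf_coe, Subgroup.orderOf_coe, hy]

end group

end Cfsg.Agent.H938.Sax.Frat
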