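import Cfsg.Agent.H951.Main
import Cfsg.Agent.H951.Iso
import Cfsg.Agent.H951.Block

/-!
# Orders of semisimple isometries: `g ^ (q ^ a + 1) = 1` and `g ^ (q ± 1) = 1` on small blocks (helper938)
-/

set_option autoImplicit false

namespace Cfsg.Agent.H938.Sax.Ord

open Module Polynomial
open Cfsg.Agent.H951

universe u v

variable {F : Type u} [Field F] {V : Type v} [AddCommGroup V] [Module F V]
  {ε : F} {B : V → V → F} {g w : Module.End F V} {Z U : Submodule F V} {m r a : ℕ}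

theorem pow_eq_of_line {c : F} {z : V} (h : g z = c • z) (n : ℕ) : (g ^ n) z = c ^ n • z := by
  induction n with
  | zero => simp
  | succ k ih => rw [pow_succ', Module.End.mul_apply, ih, map_smul, h, smul_smul, pow_succ]

/-- an invariant line -/
theorem line [Fintype F] [FiniteDimensional F V] (hinj : Function.Injective g) (hU : Inv g U)
    (h1 : finrank F U = 1) : ∀ z ∈ U, (g ^ (Fintype.card F - 1)) z = z := by
  intro z hz
  obtain ⟨v, hv0, hv⟩ := finrank_eq_one_iff'.1 h1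
  obtain ⟨c, hc⟩ := hv ⟨g v, hU v v.2⟩
  have hc' : g (v : V) = c • (v : V) := by
    have := congrArg Subtype.val hc
    exact this.symm
  have hc0 : c ≠ 0 := by
    rintro rfl
    rw [zero_smul] at hc'
    exact hv0 (Subtype.ext (hinj (by rw [hc']; exact (map_zero g).symm)))
  obtain ⟨d, hd⟩ := hv ⟨z, hz⟩
  have hd' : z = d • (v : V) := (congrArg Subtype.val hd).symm
  rw [hd', map_smul, pow_eq_of_line hc', FiniteField.pow_card_sub_one_eq_one c hc0, one_smul]

theorem pos_finrank [FiniteDimensional F V] (h : U ≠ ⊥) : 1 ≤ finrank F U :=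
  Nat.one_le_iff_ne_zero.2 fun h' => h (Submodule.finrank_eq_zero.1 h')

/-- the annihilating polynomial of an irreducible block divides everything killing it -/
theorem dvd_of_killed {P Q : F[X]} (hP : Irreducible P) {v : V} (hv0 : v ≠ 0) (h1 : aeval g P v = 0)
    (h2 : aeval g Q v = 0) : P ∣ Q := by
  by_contra hn
  obtain ⟨a, b, hab⟩ := (hP.coprime_iff_not_dvd).2 hn
  have h3 : aeval g (a * P + b * Q) v = v := by rw [hab, map_one]; rfl
  rw [map_add, map_mul, map_mul, LinearMap.add_apply, Module.End.mul_apply, Module.End.mul_apply, h1, h2, map_zero,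
    map_zero, add_zero] at h3
  exact hv0 h3.symm

/-- three roots of a quadratic coincide -/
theorem roots_two {K : Type*} [Field K] {P : K[X]} (hP : P ≠ 0) (hd : P.natDegree = 2) {x y z : K} (hx : P.IsRoot x)
    (hy : P.IsRoot y) (hz : P.IsRoot z) : x = y ∨ y = z ∨ x = z := by
  classical
  by_contra hn
  push Not at hn
  obtain ⟨h1, h2, h3⟩ := hn
  have h4 : ({x, y, z} : Finset K).card ≤ P.natDegree := by
    refine card_le_degree_of_subset_roots ?_
    intro t ht
    rw [mem_roots hP]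
    simp only [Finset.mem_val, Finset.mem_insert, Finset.mem_singleton] at ht
    rcases ht with rfl | rfl | rfl <;> assumption
  rw [hd, Finset.card_eq_three.2 ⟨x, y, z, h1, h3, h2, rfl⟩] at h4
  omega

/-- **Two dimensional blocks.** -/
theorem two [Fintype F] [FiniteDimensional F V] (hB : Frm (RingHom.id F) ε B) (hg : Isom B g) (hm : (m : F) ≠ 0)
    (hgm : g ^ m = 1) (hZ : Inv g Z) (hnd : Nd B Z) (hd : finrank F Z = 2) :
    (∀ z ∈ Z, (g ^ (Fintype.card F - 1)) z = z) ∨ ∀ z ∈ Z, (g ^ (Fintype.card F + 1)) z = z := by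
  have hm0 : m ≠ 0 := by rintro rfl; exact hm Nat.cast_zero
  have hinj : Function.Injective g := by
    intro x y hxy
    have h1 : (g ^ m) x = (g ^ m) y := by
      obtain ⟨k, rfl⟩ := Nat.exists_eq_succ_of_ne_zero hm0
      rw [pow_succ, Module.End.mul_apply, Module.End.mul_apply, hxy]
    rw [hgm] at h1
    exact h1
  rcases Nat.lt_or_ge m 2 with hm1 | hm2
  · obtain rfl : m = 1 := by omega
    rw [pow_one] at hgm
    left
    intro z _
    rw [hgm, one_pow]
    rfl
  have hZ0 : Z ≠ ⊥ := by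
    rintro rfl
    rw [finrank_bot] at hd
    omega
  obtain ⟨U, hUZ, hU⟩ := exists_irr hZ hZ0
  have hss := semisimple_of_pow hm hgm
  have hle : finrank F U ≤ 2 := hd ▸ Submodule.finrank_mono hUZ
  have hge := pos_finrank hU.1
  rcases Nat.lt_or_ge (finrank F U) 2 with h1 | h2
  · left
    obtain ⟨T, hT, hTZ, hi, hs⟩ := exists_rel_compl hss hU.2.1 hZ hUZ
    have h3 := finrank_sup_of_disj hi
    rw [hs, hd] at h3
    intro z hz
    rw [← hs] at hz
    obtain ⟨x, hx, y, hy, rfl⟩ := Submodule.mem_sup.1 hz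
    rw [map_add, line hinj hU.2.1 (by omega) x hx, line hinj hT (by omega) y hy]
  · obtain rfl : U = Z := Submodule.eq_of_le_of_finrank_eq hUZ (by omega)
    have hQ0 : (X ^ m - 1 : F[X]) ≠ 0 := X_pow_sub_C_ne_zero (by omega) 1
    obtain ⟨P, hP, hPm, hPU⟩ := hU.exists_factor (X ^ m - 1) hQ0 (fun v _ => by
      rw [map_sub, map_pow, aeval_X, hgm, map_one, sub_self]; rfl)
    have hdeg := hU.finrank_eq_natDegree hP hPU
    rw [hd] at hdeg
    obtain ⟨v, hvU, hv0⟩ := (Submodule.ne_bot_iff _).1 hZ0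
    have := Fact.mk hP
    set α := AdjoinRoot.root P with hα
    have key : ∀ Q : F[X], P ∣ Q ↔ aeval α Q = 0 := fun Q => by
      rw [AdjoinRoot.aeval_eq, AdjoinRoot.mk_eq_zero]
    have hPexp : P ∣ expand F (m - 1) P := by
      refine dvd_of_killed hP hv0 (hPU v hvU) ?_
      by_contra hne
      have hmem : aeval g (expand F (m - 1) P) v ∈ U := hU.2.1.aeval _ v hvU
      obtain ⟨y, hy, hy0⟩ := hnd _ hmem hne
      apply hy0
      have h5 := adj_aeval hB hg (P := m - 1) (by omega) (by rw [Nat.sub_add_cancel (by omega)]; exact hgm) P y v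
      rw [hPU y hy, Polynomial.map_id, hB.zero_left] at h5
      exact hB.eq_zero_comm.1 h5.symm
    have hr1 : aeval α P = 0 := (key P).1 dvd_rfl
    have hr2 : aeval (α ^ Fintype.card F) P = 0 := by
      rw [← expand_aeval, FiniteField.expand_card, map_pow, hr1, zero_pow Fintype.card_ne_zero]
    have hr3 : aeval (α ^ (m - 1)) P = 0 := by
      rw [← expand_aeval]
      exact (key _).1 hPexp
    have hαm : α ^ m = 1 := by
      have := (key _).1 hPm
      rw [map_sub, map_pow, aeval_X, map_one, sub_eq_zero] at this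
      exact this
    have hroot : ∀ x : AdjoinRoot P, aeval x P = 0 → (P.map (algebraMap F (AdjoinRoot P))).IsRoot x := fun x hx => by
      rw [IsRoot.def, eval_map_algebraMap]; exact hx
    have hP0 : P.map (algebraMap F (AdjoinRoot P)) ≠ 0 :=
      (Polynomial.map_ne_zero_iff (algebraMap F (AdjoinRoot P)).injective).2 hP.ne_zero
    have hdP : (P.map (algebraMap F (AdjoinRoot P))).natDegree = 2 := by rw [natDegree_map]; exact hdeg.symm
    have hlin : ∀ c : F, ¬ P ∣ X - C c := fun c hc => by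
      have := natDegree_le_of_dvd hc (X_sub_C_ne_zero c)
      rw [natDegree_X_sub_C] at this
      omega
    rcases roots_two hP0 hdP (hroot _ hr1) (hroot _ hr2) (hroot _ hr3) with h | h | h
    · exfalso
      have h3 : P ∣ ((X ^ Fintype.card F - X : F[X]).roots.map fun c => X - C c).prod := by
        rw [prod_multiset_X_sub_C_of_monic_of_roots_card_eq, key, map_sub, map_pow, aeval_X, ← h, sub_self]
        · exact monic_X_pow_sub (by rw [degree_X]; exact_mod_cast Fintype.one_lt_card)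
        · rw [FiniteField.roots_X_pow_card_sub_X, FiniteField.X_pow_card_sub_X_natDegree_eq F Fintype.one_lt_card]
          rfl
      obtain ⟨c, -, hc⟩ := hP.prime.exists_mem_multiset_map_dvd h3
      exact hlin c hc
    · right
      have h3 : α ^ (Fintype.card F + 1) = 1 := by
        rw [pow_succ, h, ← pow_succ, Nat.sub_add_cancel (by omega)]; exact hαm
      have h4 : P ∣ X ^ (Fintype.card F + 1) - 1 := by
        rw [key, map_sub, map_pow, aeval_X, map_one, h3, sub_self]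
      intro z hz
      obtain ⟨Q, hQ⟩ := h4
      have h5 : aeval g (X ^ (Fintype.card F + 1) - 1 : F[X]) z = 0 := by
        rw [hQ, mul_comm, map_mul, Module.End.mul_apply, hPU z hz, map_zero]
      rw [map_sub, map_pow, aeval_X, map_one, LinearMap.sub_apply, sub_eq_zero] at h5
      exact h5
    · exfalso
      have h3 : α ^ 2 = 1 := by
        rw [pow_two]
        nth_rewrite 2 [h]
        rw [← pow_succ', Nat.sub_add_cancel (by omega)]; exact hαm
      have h4 : P ∣ (X - C 1) * (X - C (-1)) := by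
        rw [key, map_mul, map_sub, map_sub, aeval_X, aeval_C, aeval_C, map_one, map_neg, map_one]
        linear_combination h3
      rcases hP.prime.dvd_or_dvd h4 with h5 | h5
      · exact hlin _ h5
      · exact hlin _ h5

theorem commute_aeval (h : Commute g w) (f : F[X]) (v : V) : g (aeval w f v) = aeval w f (g v) := by
  have h1 : Commute g (aeval w f) := by
    rw [aeval_eq_sum_range]
    exact Commute.sum_right _ _ _ fun i _ => (h.pow_right i).smul_right _
  rw [← Module.End.mul_apply, h1.eq, Module.End.mul_apply]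

/-- `g` acts on an irreducible block of `w` as a polynomial in `w` -/
theorem exists_poly [FiniteDimensional F V] (hU : Irr w U) (hgw : Commute g w) (hgU : Inv g U) :
    ∃ f : F[X], ∀ z ∈ U, g z = aeval w f z := by
  obtain ⟨v, hvU, hv0⟩ := (Submodule.ne_bot_iff _).1 hU.1
  set R : Submodule F V := LinearMap.range ((LinearMap.applyₗ v).comp (aeval (R := F) w).toLinearMap) with hR
  have hmem : ∀ z, z ∈ R ↔ ∃ f : F[X], aeval w f v = z := fun z => Iff.rfl
  have hRinv : Inv w R := by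
    intro z hz
    obtain ⟨f, rfl⟩ := (hmem z).1 hz
    exact (hmem _).2 ⟨X * f, by rw [map_mul, aeval_X, Module.End.mul_apply]⟩
  have hvR : v ∈ R := (hmem v).2 ⟨1, by rw [map_one]; rfl⟩
  have hUR : U ≤ R := by
    rcases hU.2.2 (U ⊓ R) inf_le_left (hU.2.1.inf hRinv) with h | h
    · exact absurd ((Submodule.mem_bot F).1 (h ▸ Submodule.mem_inf.2 ⟨hvU, hvR⟩)) hv0
    · exact inf_eq_left.1 h
  obtain ⟨f, hf⟩ := (hmem _).1 (hUR (hgU v hvU))
  refine ⟨f, fun z hz => ?_⟩
  obtain ⟨h, rfl⟩ := (hmem _).1 (hUR hz)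
  rw [commute_aeval hgw, ← hf, ← Module.End.mul_apply, ← Module.End.mul_apply, ← map_mul, ← map_mul, mul_comm]

theorem inv_cm_of_commute (h : Commute g w) : Inv g (cm w) := by
  intro z hz
  obtain ⟨y, rfl⟩ := mem_cm.1 hz
  refine mem_cm.2 ⟨g y, ?_⟩
  rw [map_sub, ← Module.End.mul_apply, ← h.eq, Module.End.mul_apply]

theorem inv_fx_of_commute (h : Commute g w) : Inv g (fx w) := by
  intro z hz
  rw [mem_fx] at hz ⊢
  rw [← Module.End.mul_apply, ← h.eq, Module.End.mul_apply, hz]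

/-- **The big block.** -/
theorem big [Fintype F] [FiniteDimensional F V] (hB : Frm (RingHom.id F) ε B) (hV : Nd B (⊤ : Submodule F V))
    (hw : Isom B w) (hg : Isom B g) (hgw : Commute g w) [Fact r.Prime] (hr : (r : F) ≠ 0) (hwr : w ^ r = 1)
    (hdv : r ∣ Fintype.card F ^ a + 1) (hdim : finrank F (cm w) = orderOf (Fintype.card F : ZMod r)) :
    ∀ z ∈ cm w, (g ^ (Fintype.card F ^ a + 1)) z = z := by
  have hnd := Isom.nd_cm hB hw hr hwr hV
  have hpos := ord_pos (F := F) hr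
  have hc0 : cm w ≠ ⊥ := by
    intro h
    rw [h, finrank_bot] at hdim
    omega
  obtain ⟨U, hUc, hU⟩ := exists_irr (inv_cm (x := w)) hc0
  have h1 := hU.finrank_eq hr hwr hUc
  obtain rfl : U = cm w := Submodule.eq_of_le_of_finrank_eq hUc (by rw [h1, hdim])
  obtain ⟨f, hf⟩ := exists_poly hU hgw (inv_cm_of_commute hgw)
  obtain ⟨p, hp⟩ := CharP.exists F
  have hpp : Fact p.Prime := ⟨(CharP.char_is_prime_or_zero F p).resolve_right
    (CharP.char_ne_zero_of_finite F p)⟩
  obtain ⟨e, -, he⟩ := FiniteField.card F p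
  have hq : Fintype.card F ^ a = p ^ (e * a : ℕ) := by rw [he, pow_mul]
  have hwp : w ^ (Fintype.card F ^ a + 1) = 1 := by
    obtain ⟨k, hk⟩ := hdv
    rw [hk, pow_mul, hwr, one_pow]
  have hexp : ∀ f : F[X], expand F (Fintype.card F ^ a) (f.map (RingHom.id F)) = f ^ (Fintype.card F ^ a) := by
    intro f
    rw [hq]
    refine expand_map_eq_pow (fun x => ?_) f
    rw [← hq, FiniteField.pow_card_pow]
    rfl
  have hpow : ∀ n : ℕ, ∀ z ∈ cm w, (g ^ n) z = aeval w (f ^ n) z := by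
    intro n
    induction n with
    | zero => intro z _; rw [pow_zero, pow_zero, map_one]
    | succ n ih =>
      intro z hz
      rw [pow_succ', Module.End.mul_apply, ih z hz, hf _ (inv_cm.aeval _ z hz), ← Module.End.mul_apply, ← map_mul,
        ← pow_succ']
  intro z hz
  by_contra hne
  have hgz : (g ^ (Fintype.card F ^ a + 1)) z ∈ cm w := (inv_cm_of_commute hgw).pow _ z hz
  obtain ⟨y, hy, hy0⟩ := hnd _ ((cm w).sub_mem hgz hz) (sub_ne_zero.2 hne)
  apply hy0
  rw [hB.sub_left, sub_eq_zero]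
  have h2 : ∀ x, B y x = B y z → B x y = B z y := fun x h => by
    rw [hB.herm, hB.herm y z, h]
  apply h2
  rw [← hg y z, hf y hy, adj_aeval hB hw (P := Fintype.card F ^ a) (pow_pos Fintype.card_pos a) hwp, hexp,
    ← hpow _ _ ((inv_cm_of_commute hgw) z hz), ← Module.End.mul_apply, ← pow_succ]

theorem injective_of_pow' (hm : (m : F) ≠ 0) (hgm : g ^ m = 1) : Function.Injective g := by
  have hm0 : m ≠ 0 := by rintro rfl; exact hm Nat.cast_zero
  intro x y hxy
  have h1 : (g ^ m) x = (g ^ m) y := by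
    obtain ⟨k, rfl⟩ := Nat.exists_eq_succ_of_ne_zero hm0
    rw [pow_succ, Module.End.mul_apply, Module.End.mul_apply, hxy]
  rw [hgm] at h1
  exact h1

/-- gluing a two dimensional block with a block where `g ^ 2 = 1` -/
theorem glue [Fintype F] [FiniteDimensional F V] (hB : Frm (RingHom.id F) ε B) (hg : Isom B g) (hm : (m : F) ≠ 0)
    (hgm : g ^ m = 1) (hZ : Inv g Z) (hnd : Nd B Z) {E : Submodule F V} (hE : Inv g E) (hEn : Nd B E) (hEZ : E ≤ Z)
    (hd : finrank F Z = finrank F E + 2) (hm1 : ∀ z ∈ E, (g ^ (Fintype.card F - 1)) z = z)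
    (hp1 : ∀ z ∈ E, (g ^ (Fintype.card F + 1)) z = z) :
    (∀ z ∈ Z, (g ^ (Fintype.card F - 1)) z = z) ∨ ∀ z ∈ Z, (g ^ (Fintype.card F + 1)) z = z := by
  have hs := hB.sup_perp_inf hEn hEZ
  have hfin := hB.finrank_perp_inf hEn hEZ
  have hinj := injective_of_pow' hm hgm
  refine (two hB hg hm hgm ((Isom.inv_perp hB hg hinj hE).inf hZ) (hB.nd_perp_inf hnd hEn hEZ) (by omega)).imp
    (fun h z hz => ?_) (fun h z hz => ?_)
  · rw [← hs] at hz
    obtain ⟨x, hx, y, hy, rfl⟩ := Submodule.mem_sup.1 hz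
    rw [map_add, hm1 x hx, h y hy]
  · rw [← hs] at hz
    obtain ⟨x, hx, y, hy, rfl⟩ := Submodule.mem_sup.1 hz
    rw [map_add, hp1 x hx, h y hy]

/-- **Four dimensional symplectic blocks with a fixed vector.** -/
theorem four [Fintype F] [FiniteDimensional F V] (hB : Frm (RingHom.id F) ε B) (ha : ∀ v, B v v = 0)
    (hg : Isom B g) (hm : (m : F) ≠ 0)
    (hgm : g ^ m = 1) (hZ : Inv g Z) (hnd : Nd B Z) (hd : finrank F Z = 4) (hf : Z ⊓ fx g ≠ ⊥) :
    (∀ z ∈ Z, (g ^ (Fintype.card F - 1)) z = z) ∨ ∀ z ∈ Z, (g ^ (Fintype.card F + 1)) z = z := by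
  have hEn := Isom.nd_inf_fx hB hg hm hgm hZ hnd
  have h1 := pos_finrank hf
  have h2 := even_finrank_of_alt hB ha hEn
  have h3 : finrank F ↥(Z ⊓ fx g) ≤ 4 := hd ▸ Submodule.finrank_mono inf_le_left
  have hfix : ∀ n : ℕ, ∀ z ∈ Z ⊓ fx g, (g ^ n) z = z := fun n z hz =>
    pow_fx (mem_fx.1 (Submodule.mem_inf.1 hz).2) n
  rcases Nat.lt_or_ge (finrank F ↥(Z ⊓ fx g)) 4 with h4 | h4
  · obtain ⟨k, hk⟩ := h2
    exact glue hB hg hm hgm hZ hnd (hZ.inf inv_fx) hEn inf_le_left (by omega) (hfix _) (hfix _)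
  · left
    have h5 : Z ⊓ fx g = Z := Submodule.eq_of_le_of_finrank_eq inf_le_left (by omega)
    intro z hz
    exact hfix _ z (h5.symm ▸ hz)

theorem map_eq_of_inv' [FiniteDimensional F V] (hinj : Function.Injective g) (hZ : Inv g Z) : Z.map g = Z := by
  refine Submodule.eq_of_le_of_finrank_eq (inv_iff_map.1 hZ) ?_
  exact (Submodule.equivMapOfInjective g hinj Z).finrank_eq.symm

/-- a vector with `g u = ± u` -/
theorem exists_pm [FiniteDimensional F V] (hB : Frm (RingHom.id F) ε B) (hε : ε = 1)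
    (hg : Isom B g) (hinj : Function.Injective g) (hZ : Inv g Z) (hnd : Nd B Z) (hd : Odd (finrank F Z)) :
    ∃ u ∈ Z, u ≠ 0 ∧ (g u = u ∨ g u = -u) := by
  subst hε
  have hsym : ∀ u v, B u v = B v u := fun u v => by
    rw [hB.herm v u, one_mul]; rfl
  have hA : Frm (RingHom.id F) (-1) (fun u v => B (g u) v - B u (g v)) := by
    refine ⟨fun u v w => ?_, fun a u v => ?_, fun u v => ?_, fun a => rfl, by simp⟩
    · simp only [map_add, hB.add_left]; ring
    · simp only [map_smul, hB.smul_left]; ring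
    · simp only [hsym (g v) u, hsym v (g u), RingHom.id_apply]; ring
  have h1 : ¬ Nd (fun u v => B (g u) v - B u (g v)) Z := fun h => by
    have h2 := even_finrank_of_alt hA (fun v => by simp only [hsym (g v) v, sub_self]) h
    exact (Nat.not_even_iff_odd.2 hd) h2
  unfold Nd at h1
  push Not at h1
  obtain ⟨u, hu, hu0, h2⟩ := h1
  have hgg : g (g u) = u := by
    by_contra hne
    have h3 : g (g u) - u ∈ Z := Z.sub_mem (hZ _ (hZ _ hu)) hu
    obtain ⟨y, hy, hy0⟩ := hnd _ h3 (sub_ne_zero.2 hne)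
    have hmap := map_eq_of_inv' hinj hZ
    rw [← hmap] at hy
    obtain ⟨y', hy', rfl⟩ := hy
    apply hy0
    rw [hB.sub_left, hg]
    exact h2 y' hy'
  by_cases h3 : g u + u = 0
  · exact ⟨u, hu, hu0, Or.inr (eq_neg_of_add_eq_zero_left h3)⟩
  · exact ⟨g u + u, Z.add_mem (hZ _ hu) hu, h3, Or.inl (by rw [map_add, hgg, add_comm])⟩

/-- a nonsingular vector -/
theorem exists_nonsing (hB : Frm (RingHom.id F) ε B) (hε : ε = 1) (h2 : (2 : F) ≠ 0) {E : Submodule F V}
    (hE : Nd B E) (h0 : E ≠ ⊥) : ∃ v ∈ E, B v v ≠ 0 := by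
  subst hε
  have hsym : ∀ u v, B u v = B v u := fun u v => by
    rw [hB.herm v u, one_mul]; rfl
  by_contra hn
  push Not at hn
  obtain ⟨u, hu, hu0⟩ := (Submodule.ne_bot_iff _).1 h0
  obtain ⟨v, hv, hv0⟩ := hE u hu hu0
  have h3 := hn (u + v) (E.add_mem hu hv)
  rw [hB.add_left, hB.add_right, hB.add_right, hn u hu, hn v hv, hsym v u, zero_add, add_zero, ← two_mul] at h3
  exact hv0 ((mul_eq_zero.1 h3).resolve_left h2)

/-- **Three dimensional orthogonal blocks.** -/
theorem three [Fintype F] [FiniteDimensional F V] (hB : Frm (RingHom.id F) ε B) (hε : ε = 1) (h2 : (2 : F) ≠ 0)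
    (hg : Isom B g) (hm : (m : F) ≠ 0) (hgm : g ^ m = 1) (hZ : Inv g Z) (hnd : Nd B Z) (hd : finrank F Z = 3) :
    (∀ z ∈ Z, (g ^ (Fintype.card F - 1)) z = z) ∨ ∀ z ∈ Z, (g ^ (Fintype.card F + 1)) z = z := by
  have hinj := injective_of_pow' hm hgm
  obtain ⟨u, hu, hu0, hpm⟩ := exists_pm hB hε hg hinj hZ hnd (hd ▸ by decide)
  -- a sign with `δ g` fixing `u`
  obtain ⟨δ, hδ2, hδ⟩ : ∃ δ : F, δ * δ = 1 ∧ δ • g u = u := by
    rcases hpm with h | h
    · exact ⟨1, by ring, by rw [h, one_smul]⟩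
    · exact ⟨-1, by ring, by rw [h, neg_smul, one_smul, neg_neg]⟩
  have hδg : Isom B (δ • g) := fun x y => by
    rw [LinearMap.smul_apply, LinearMap.smul_apply, hB.smul_left, hB.smul_right, hg, RingHom.id_apply, ← mul_assoc,
      hδ2, one_mul]
  have hδm : (δ • g) ^ (2 * m) = 1 := by
    rw [_root_.smul_pow, pow_mul δ, pow_two, hδ2, one_pow, one_smul, mul_comm, pow_mul, hgm, one_pow]
  have h2m : ((2 * m : ℕ) : F) ≠ 0 := by
    rw [Nat.cast_mul]
    exact mul_ne_zero (by exact_mod_cast h2) hm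
  have hδZ : Inv (δ • g) Z := fun z hz => Z.smul_mem _ (hZ z hz)
  have hEn := Isom.nd_inf_fx hB hδg h2m hδm hδZ hnd
  have hE0 : Z ⊓ fx (δ • g) ≠ ⊥ := by
    intro h
    have : u ∈ Z ⊓ fx (δ • g) := Submodule.mem_inf.2 ⟨hu, mem_fx.2 hδ⟩
    rw [h] at this
    exact hu0 ((Submodule.mem_bot F).1 this)
  obtain ⟨v, hv, hv0⟩ := exists_nonsing hB hε h2 hEn hE0
  have hvg : g v = δ • v := by
    have h3 := mem_fx.1 (Submodule.mem_inf.1 hv).2
    rw [LinearMap.smul_apply] at h3
    calc g v = (δ * δ) • g v := by rw [hδ2, one_smul]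
      _ = δ • v := by rw [mul_smul, h3]
  have hvne : v ≠ 0 := by
    rintro rfl
    exact hv0 (hB.zero_left 0)
  have hodd : Odd (Fintype.card F) := by
    rw [Nat.odd_iff]
    refine FiniteField.odd_card_of_char_ne_two fun h => h2 ?_
    have h3 := ringChar.Nat.cast_ringChar (R := F)
    rw [h] at h3
    exact_mod_cast h3
  have hδe : ∀ n, Even n → δ ^ n = 1 := fun n hn => by
    obtain ⟨k, rfl⟩ := hn
    rw [← two_mul, pow_mul, pow_two, hδ2, one_pow]
  have hline : ∀ n, Even n → ∀ z ∈ Submodule.span F {v}, (g ^ n) z = z := fun n hn z hz => by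
    obtain ⟨c, rfl⟩ := Submodule.mem_span_singleton.1 hz
    rw [map_smul, pow_eq_of_line hvg, hδe n hn, one_smul]
  refine glue hB hg hm hgm hZ hnd (E := Submodule.span F {v}) ?_ ?_ ?_ ?_ (hline _ ?_) (hline _ ?_)
  · intro z hz
    obtain ⟨c, rfl⟩ := Submodule.mem_span_singleton.1 hz
    rw [map_smul, hvg, smul_comm]
    exact Submodule.smul_mem _ _ hz
  · intro z hz hz0
    obtain ⟨c, rfl⟩ := Submodule.mem_span_singleton.1 hz
    refine ⟨v, Submodule.mem_span_singleton_self v, ?_⟩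
    rw [hB.smul_left]
    exact mul_ne_zero (fun h => hz0 (by rw [h, zero_smul])) hv0
  · rw [Submodule.span_singleton_le_iff_mem]
    exact (Submodule.mem_inf.1 hv).1
  · rw [finrank_span_singleton hvne, hd]
  · exact hodd.tsub_odd odd_one
  · exact hodd.add_odd odd_one

/-- the conclusion: `g` has order dividing `lcm(q ^ 2 + 1, q ± 1)` -/
def Lcm (q : ℕ) {G : Type*} [Monoid G] (g : G) : Prop :=
  g ^ (Nat.lcm (q ^ 2 + 1) (q - 1)) = 1 ∨ g ^ (Nat.lcm (q ^ 2 + 1) (q + 1)) = 1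

theorem lcm_of [Fintype F] [FiniteDimensional F V] (hr : (r : F) ≠ 0) (hwr : w ^ r = 1)
    (hcm : ∀ z ∈ cm w, (g ^ (Fintype.card F ^ 2 + 1)) z = z)
    (hfx : (∀ z ∈ fx w, (g ^ (Fintype.card F - 1)) z = z) ∨ ∀ z ∈ fx w, (g ^ (Fintype.card F + 1)) z = z) :
    Lcm (Fintype.card F) g := by
  have hd : ∀ (n k : ℕ) (z : V), n ∣ k → (g ^ n) z = z → (g ^ k) z = z := by
    rintro n k z ⟨c, rfl⟩ h
    rw [pow_mul]
    exact pow_fx h c
  have key : ∀ n, (∀ z ∈ fx w, (g ^ n) z = z) → g ^ (Nat.lcm (Fintype.card F ^ 2 + 1) n) = 1 := by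
    intro n h
    refine LinearMap.ext fun v => ?_
    have hv : v ∈ fx w ⊔ cm w := by rw [(isCompl_fx_cm hr hwr).sup_eq_top]; trivial
    obtain ⟨x, hx, y, hy, rfl⟩ := Submodule.mem_sup.1 hv
    rw [map_add, hd _ _ x (Nat.dvd_lcm_right _ _) (h x hx), hd _ _ y (Nat.dvd_lcm_left _ _) (hcm y hy)]
    rfl
  exact hfx.imp (key _) (key _)

/-- the power of `g` of prime order -/
theorem exists_power [Fintype F] [FiniteDimensional F V] (hr4 : orderOf (Fintype.card F : ZMod r) = 4)
    [hrp : Fact r.Prime] (hr0 : (r : F) ≠ 0) (hm : (m : F) ≠ 0) (hgm : g ^ m = 1) (hro : r ∣ orderOf g) :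
    ∃ k, (g ^ k) ^ r = 1 ∧ 4 ∣ finrank F (cm (g ^ k)) ∧ cm (g ^ k) ≠ ⊥ := by
  have hm0 : 0 < m := Nat.pos_of_ne_zero (by rintro rfl; exact hm Nat.cast_zero)
  have hog : 0 < orderOf g := Nat.pos_of_dvd_of_pos (orderOf_dvd_of_pow_eq_one hgm) hm0
  refine ⟨orderOf g / r, ?_, ?_, ?_⟩
  · rw [← pow_mul, Nat.div_mul_cancel hro, pow_orderOf_eq_one]
  · rw [← hr4]
    have h1 : (g ^ (orderOf g / r)) ^ r = 1 := by rw [← pow_mul, Nat.div_mul_cancel hro, pow_orderOf_eq_one]
    exact ord_dvd_finrank h1 inv_cm (inf_fx_of_le_cm hr0 h1 le_rfl)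
  · intro h
    have h1 : g ^ (orderOf g / r) = 1 := by
      refine LinearMap.ext fun v => ?_
      have h2 : (g ^ (orderOf g / r)) v - v ∈ cm (g ^ (orderOf g / r)) := mem_cm.2 ⟨v, rfl⟩
      rw [h, Submodule.mem_bot, sub_eq_zero] at h2
      exact h2
    have h2 := orderOf_dvd_of_pow_eq_one h1
    have h3 := Nat.le_of_dvd (Nat.div_pos (Nat.le_of_dvd hog hro) hrp.out.pos) h2
    have h4 := Nat.div_lt_self hog hrp.out.one_lt
    omega

section main

variable [Fintype F] [FiniteDimensional F V] (hr4 : orderOf (Fintype.card F : ZMod r) = 4)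
    [hrp : Fact r.Prime] (hdv : r ∣ Fintype.card F ^ 2 + 1)

include hr4 hdv

/-- general frame -/
theorem core (hB : Frm (RingHom.id F) ε B) (hV : Nd B (⊤ : Submodule F V)) (hr0 : (r : F) ≠ 0)
    (hg : Isom B g) (hm : (m : F) ≠ 0) (hgm : g ^ m = 1) (hro : r ∣ orderOf g)
    (hlt : ∀ k, (g ^ k) ^ r = 1 → cm (g ^ k) ≠ ⊥ → finrank F (cm (g ^ k)) < 8)
    (hfx : ∀ k, (g ^ k) ^ r = 1 → Inv g (fx (g ^ k)) → Nd B (fx (g ^ k)) → finrank F (fx (g ^ k)) + 4 = finrank F V →
      (∀ z ∈ fx (g ^ k), (g ^ (Fintype.card F - 1)) z = z) ∨ ∀ z ∈ fx (g ^ k), (g ^ (Fintype.card F + 1)) z = z) :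
    Lcm (Fintype.card F) g := by
  obtain ⟨k, hk1, hk2, hk3⟩ := exists_power hr4 hr0 hm hgm hro
  have h1 := hlt k hk1 hk3
  have h2 := pos_finrank hk3
  have h3 : finrank F (cm (g ^ k)) = 4 := by omega
  have hcomm : Commute g (g ^ k) := (Commute.refl g).pow_right k
  have hw : Isom B (g ^ k) := hg.pow k
  refine lcm_of hr0 hk1 (big hB hV hw hg hcomm hr0 hk1 hdv (by rw [h3, hr4])) ?_
  refine hfx k hk1 (inv_fx_of_commute hcomm) (Isom.nd_fx hB hw hr0 hk1 hV) ?_
  have := finrank_fx_cm (F := F) (V := V) hr0 hk1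
  omega

/-- dimension six -/
theorem six (hB : Frm (RingHom.id F) ε B) (hV : Nd B (⊤ : Submodule F V)) (hr0 : (r : F) ≠ 0)
    (hg : Isom B g) (hm : (m : F) ≠ 0) (hgm : g ^ m = 1) (hro : r ∣ orderOf g) (hd : finrank F V = 6) :
    Lcm (Fintype.card F) g := by
  refine core hr4 hdv hB hV hr0 hg hm hgm hro (fun k _ _ => ?_) (fun k _ h1 h2 h3 => ?_)
  · have := Submodule.finrank_le (cm (g ^ k))
    omega
  · exact two hB hg hm hgm h1 h2 (by omega)

/-- dimension seven -/
theorem seven (hB : Frm (RingHom.id F) ε B) (hV : Nd B (⊤ : Submodule F V)) (hε : ε = 1) (h2 : (2 : F) ≠ 0)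
    (hr0 : (r : F) ≠ 0)
    (hg : Isom B g) (hm : (m : F) ≠ 0) (hgm : g ^ m = 1) (hro : r ∣ orderOf g) (hd : finrank F V = 7) :
    Lcm (Fintype.card F) g := by
  refine core hr4 hdv hB hV hr0 hg hm hgm hro (fun k _ _ => ?_) (fun k _ h1 h3 h4 => ?_)
  · have := Submodule.finrank_le (cm (g ^ k))
    omega
  · exact three hB hε h2 hg hm hgm h1 h3 (by omega)

theorem eight_even (hB : Frm (RingHom.id F) ε B) (hV : Nd B (⊤ : Submodule F V)) (ha : ∀ v, B v v = 0)
    (hr0 : (r : F) ≠ 0)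
    (hg : Isom B g) (hm : (m : F) ≠ 0) (hgm : g ^ m = 1) (hro : r ∣ orderOf g) (hd : finrank F V = 8)
    (hf : fx g ≠ ⊥) : Lcm (Fintype.card F) g := by
  have hle : ∀ k, fx g ≤ fx (g ^ k) := fun k z hz => mem_fx.2 (pow_fx (mem_fx.1 hz) k)
  refine core hr4 hdv hB hV hr0 hg hm hgm hro (fun k hk _ => ?_) (fun k _ h1 h2 h3 => ?_)
  · have h4 := finrank_fx_cm (F := F) (V := V) hr0 hk
    have h5 := pos_finrank hf
    have h6 := Submodule.finrank_mono (hle k)
    omega
  · refine four hB ha hg hm hgm h1 h2 (by omega) ?_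
    rwa [inf_eq_right.2 (hle k)]

theorem eight_odd (hB : Frm (RingHom.id F) ε B) (hV : Nd B (⊤ : Submodule F V)) (hε : ε = 1) (h2 : (2 : F) ≠ 0)
    (hr2 : Odd r)
    (hr0 : (r : F) ≠ 0)
    (hg : Isom B g) (hm : (m : F) ≠ 0) (hgm : g ^ m = 1) (hro : r ∣ orderOf g) (hd : finrank F V = 8)
    {v : V} (hv : B v v ≠ 0) (hgv : g v = v ∨ g v = -v) : Lcm (Fintype.card F) g := by
  have hv0 : v ≠ 0 := by
    rintro rfl
    exact hv (hB.zero_left 0)
  obtain ⟨δ, hδ2, hδ⟩ : ∃ δ : F, δ * δ = 1 ∧ g v = δ • v := by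
    rcases hgv with h | h
    · exact ⟨1, by ring, by rw [h, one_smul]⟩
    · exact ⟨-1, by ring, by rw [h, neg_smul, one_smul]⟩
  have hδe : ∀ n, Even n → δ ^ n = 1 := fun n hn => by
    obtain ⟨k, rfl⟩ := hn
    rw [← two_mul, pow_mul, pow_two, hδ2, one_pow]
  have hodd : Odd (Fintype.card F) := by
    rw [Nat.odd_iff]
    refine FiniteField.odd_card_of_char_ne_two fun h => h2 ?_
    have h3 := ringChar.Nat.cast_ringChar (R := F)
    rw [h] at h3
    exact_mod_cast h3
  have hline : ∀ n, Even n → ∀ z ∈ Submodule.span F {v}, (g ^ n) z = z := fun n hn z hz => by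
    obtain ⟨c, rfl⟩ := Submodule.mem_span_singleton.1 hz
    rw [map_smul, pow_eq_of_line hδ, hδe n hn, one_smul]
  have hvfx : ∀ k, (g ^ k) ^ r = 1 → v ∈ fx (g ^ k) := fun k hk => by
    rw [mem_fx, pow_eq_of_line hδ]
    have h4 : (δ ^ k) ^ r = 1 := by
      have h5 : ((g ^ k) ^ r) v = v := by rw [hk]; rfl
      rw [pow_eq_of_line (pow_eq_of_line hδ k)] at h5
      by_contra h6
      have h7 : ((δ ^ k) ^ r - 1) • v = 0 := by rw [sub_smul, h5, one_smul, sub_self]
      rcases smul_eq_zero.1 h7 with h8 | h8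
      · exact h6 (sub_eq_zero.1 h8)
      · exact hv0 h8
    obtain ⟨j, hj⟩ := hr2
    have h5 : (δ ^ k) ^ r = δ ^ k := by
      rw [hj, pow_succ, pow_mul, ← pow_mul δ k 2, hδe _ ⟨k, by ring⟩, one_pow, one_mul]
    rw [← h5, h4, one_smul]
  refine core hr4 hdv hB hV hr0 hg hm hgm hro (fun k hk _ => ?_) (fun k hk h1 h3 h4 => ?_)
  · have h4 := finrank_fx_cm (F := F) (V := V) hr0 hk
    have h5 := pos_finrank (U := fx (g ^ k)) ((Submodule.ne_bot_iff _).2 ⟨v, hvfx k hk, hv0⟩)
    omega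
  · have hE : Inv g (Submodule.span F {v}) := by
      intro z hz
      obtain ⟨c, rfl⟩ := Submodule.mem_span_singleton.1 hz
      rw [map_smul, hδ, smul_comm]
      exact Submodule.smul_mem _ _ hz
    have hEn : Nd B (Submodule.span F {v}) := by
      intro z hz hz0
      obtain ⟨c, rfl⟩ := Submodule.mem_span_singleton.1 hz
      refine ⟨v, Submodule.mem_span_singleton_self v, ?_⟩
      rw [hB.smul_left]
      exact mul_ne_zero (fun h => hz0 (by rw [h, zero_smul])) hv
    have hEZ : Submodule.span F {v} ≤ fx (g ^ k) := by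
      rw [Submodule.span_singleton_le_iff_mem]; exact hvfx k hk
    have hs := hB.sup_perp_inf hEn hEZ
    have hfin := hB.finrank_perp_inf hEn hEZ
    rw [finrank_span_singleton hv0] at hfin
    have hinj := injective_of_pow' hm hgm
    refine (three hB hε h2 hg hm hgm ((Isom.inv_perp hB hg hinj hE).inf h1) (hB.nd_perp_inf h3 hEn hEZ)
      (by omega)).imp (fun h z hz => ?_) (fun h z hz => ?_)
    · rw [← hs] at hz
      obtain ⟨x, hx, y, hy, rfl⟩ := Submodule.mem_sup.1 hz
      rw [map_add, hline _ (hodd.tsub_odd odd_one) x hx, h y hy]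
    · rw [← hs] at hz
      obtain ⟨x, hx, y, hy, rfl⟩ := Submodule.mem_sup.1 hz
      rw [map_add, hline _ (hodd.add_odd odd_one) x hx, h y hy]

end main

end Cfsg.Agent.H938.Sax.Ord
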