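import Cfsg.Agent.H938.Sax.Frat

/-!
# No isometries of order `p r` in dimension `e + 2`, `ord_r(q) = e` (helper938)
-/

set_option autoImplicit false

namespace Cfsg.Agent.H938.Sax

open Module QuadraticMap Cfsg Cfsg.Geo Cfsg.Agent.LieClassical.OrthCore Cfsg.Agent.H955 Cfsg.Agent.H954.TSing
  Cfsg.Agent.H884.El Cfsg.Agent.LieClassical.OmegaReindex
open Cfsg.Agent.H951 (fx cm Inv)

universe u v

section

variable {F : Type u} [Field F] {V : Type v} [AddCommGroup V] [Module F V] [FiniteDimensional F V]
  {Q : QuadraticForm F V} {y : Module.End F V} {p : ℕ}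

/-- unipotent isometries in dimension `≤ 2`, odd characteristic -/
theorem unip_two (h2 : (2 : F) ≠ 0) (hQ : Nondeg Q) (hd : finrank F V ≤ 2) (hy : ∀ v, Q (y v) = Q v)
    {m : ℕ} (hN : (y - 1) ^ m = 0) : y = 1 := by
  by_contra hne
  have hN1 : y - 1 ≠ 0 := sub_ne_zero.2 hne
  -- the last nonzero power
  classical
  obtain ⟨k, hk1, hk2⟩ : ∃ k, (y - 1) ^ (k + 1) ≠ 0 ∧ (y - 1) ^ (k + 2) = 0 := by
    have hex : ∃ m, (y - 1) ^ m = 0 := ⟨m, hN⟩
    have h1 := Nat.find_spec hex
    have h3 : Nat.find hex ≠ 0 := by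
      intro h0
      rw [h0, pow_zero] at h1
      apply hN1
      have : (1 : Module.End F V) = 0 := h1
      rw [← mul_one (y - 1), this, mul_zero]
    have h4 : Nat.find hex ≠ 1 := by
      intro h0
      rw [h0, pow_one] at h1
      exact hN1 h1
    obtain ⟨k, hk⟩ : ∃ k, Nat.find hex = k + 2 := ⟨Nat.find hex - 2, by omega⟩
    refine ⟨k, Nat.find_min hex (by omega), by rw [← hk]; exact h1⟩
  obtain ⟨w, hw⟩ : ∃ w, ((y - 1) ^ (k + 1)) w ≠ 0 := by
    by_contra hcon
    push Not at hcon
    exact hk1 (LinearMap.ext hcon)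
  set a := ((y - 1) ^ k) w with ha
  set n := ((y - 1) ^ (k + 1)) w with hn
  have hya : y a = a + n := by
    have h1 : (y - 1) a = n := by rw [ha, hn, pow_succ', Module.End.mul_apply]
    rw [LinearMap.sub_apply, Module.End.one_apply] at h1
    rw [← h1]; abel
  have hyn : y n = n := by
    have h1 : (y - 1) n = 0 := by
      have : (y - 1) n = ((y - 1) ^ (k + 2)) w := by rw [hn, pow_succ' (y - 1) (k + 1), Module.End.mul_apply]
      rw [this, hk2]; rfl
    rw [LinearMap.sub_apply, Module.End.one_apply, sub_eq_zero] at h1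
    exact h1
  have hpol : ∀ a b, polar Q (y a) (y b) = polar Q a b := fun a b => by simp only [polar, ← map_add, hy]
  have hnn : polar Q n n = 0 := by
    have h1 := hpol a n
    rw [hya, hyn, polar_add_left] at h1
    exact (add_eq_left).1 h1
  have hQn : Q n = 0 := by
    rw [polar_self, two_nsmul, ← two_mul] at hnn
    exact (mul_eq_zero.1 hnn).resolve_left h2
  have han : polar Q a n = 0 := by
    have h1 := hy a
    rw [hya, QuadraticMap.map_add (⇑Q) a n, hQn, add_zero] at h1
    exact (add_eq_left).1 h1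
  have hli : LinearIndependent F ![a, n] := by
    rw [LinearIndependent.pair_iff]
    intro s t hst
    have h1 : s • n = 0 := by
      have h2 := congrArg y hst
      rw [map_add, map_smul, map_smul, hya, hyn, map_zero, smul_add] at h2
      have h3 : s • n = (s • a + s • n + t • n) - (s • a + t • n) := by abel
      rw [h3, h2, hst, sub_zero]
    have hs : s = 0 := (smul_eq_zero.1 h1).resolve_right hw
    rw [hs, zero_smul, zero_add] at hst
    exact ⟨hs, (smul_eq_zero.1 hst).resolve_right hw⟩
  have hcard : Fintype.card (Fin 2) = finrank F V := by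
    have h1 := hli.fintype_card_le_finrank
    rw [Fintype.card_fin] at h1 ⊢
    omega
  have hspan := hli.span_eq_top_of_card_eq_finrank' hcard
  apply hw
  refine hQ n fun v => ?_
  have hv : v ∈ Submodule.span F (Set.range ![a, n]) := by rw [hspan]; trivial
  rw [Matrix.range_cons, Matrix.range_cons, Matrix.range_empty, Set.union_empty,
    Set.singleton_union, Submodule.mem_span_pair] at hv
  obtain ⟨s, t, rfl⟩ := hv
  rw [polar_add_right, polar_smul_right, polar_smul_right, polar_comm, han, hnn, smul_zero, smul_zero, add_zero]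

end

section

variable {F : Type u} [Field F] [Fintype F] {V : Type v} [AddCommGroup V] [Module F V] [FiniteDimensional F V]
  {Q : QuadraticForm F V} {g : Module.End F V} {e p r : ℕ}

/-- no isometry of order `p r` in dimension `e + 2` -/
theorem no_pr (h2 : (2 : F) ≠ 0) (hr : PP (Nat.card F) e r) (he : 3 ≤ e) (hQ : Nondeg Q)
    (hg : ∀ v, Q (g v) = Q v) [CharP F p] [hpp : Fact p.Prime] (ho : orderOf g = p * r)
    (hd : finrank F V ≤ e + 2) : False := by
  have hgpr : g ^ (p * r) = 1 := by rw [← ho]; exact pow_orderOf_eq_one g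
  have hr0 := hr.prime.pos
  have hp0 := hpp.out.pos
  have hx : Iso Q (g ^ p) r := Iso.mk' hr (by omega) (by rw [← pow_mul, hgpr]) (iso_pow hg p)
  have hx1 : g ^ p ≠ 1 := by
    intro h
    have h0 := orderOf_dvd_of_pow_eq_one h
    rw [ho] at h0
    have h1 := Nat.le_of_dvd hp0 h0
    have h2 : p * 2 ≤ p * r := Nat.mul_le_mul_left p hr.prime.two_le
    omega
  have hy1 : g ^ r ≠ 1 := by
    intro h
    have h0 := orderOf_dvd_of_pow_eq_one h
    rw [ho] at h0
    have h1 := Nat.le_of_dvd hr0 h0
    have h2 : 2 * r ≤ p * r := Nat.mul_le_mul_right r hpp.out.two_le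
    omega
  have hyp : (g ^ r) ^ p = 1 := by rw [← pow_mul, mul_comm, hgpr]
  have hxy : g ^ r * g ^ p = g ^ p * g ^ r := by rw [← pow_add, ← pow_add, add_comm]
  have hcm : finrank F (cm (g ^ p)) = e := by
    obtain ⟨k, hk⟩ := hx.dvd_cm hr
    have h11 : finrank F (cm (g ^ p)) ≤ finrank F V := Submodule.finrank_le _
    have h12 : finrank F (cm (g ^ p)) ≠ 0 := fun h0 => cm_ne_bot hx1 (Submodule.finrank_eq_zero.1 h0)
    have h14 : k < 2 := by
      by_contra hcon
      have := Nat.mul_le_mul_left e (show 2 ≤ k by omega)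
      omega
    have h15 : k ≠ 0 := by rintro rfl; omega
    rw [hk, show k = 1 by omega, mul_one]
  have hle : cm (g ^ p) ≤ fx (g ^ r) := Frat.cm_le_fx hr (by omega) hx.pow hcm hxy (n := 1) (by rwa [pow_one])
  -- the complement
  have hinv : Inv (g ^ r) (fx (g ^ p)) := Typ.inv_fx_of_comm hxy.symm
  have hnd := nondeg_fx hQ hx.iso hx.ne0 hx.pow
  have hfd : finrank F (fx (g ^ p)) ≤ 2 := by
    have := hx.finrank_add
    omega
  have hone : (g ^ r).restrict hinv = 1 := by
    refine unip_two h2 hnd hfd (fun v => iso_pow hg r v) (m := p) ?_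
    have hV : Nontrivial V := by
      by_contra hcon
      rw [not_nontrivial_iff_subsingleton] at hcon
      have h8 : finrank F (cm (g ^ p)) ≤ finrank F V := Submodule.finrank_le _
      have h9 : finrank F V = 0 := finrank_zero_of_subsingleton
      omega
    have hch : CharP (Module.End F V) p :=
      charP_of_injective_algebraMap (algebraMap F (Module.End F V)).injective p
    have hz : (g ^ r - 1) ^ p = 0 := by
      rw [sub_pow_char_of_commute (p := p) (Commute.one_right _), hyp, one_pow, sub_self]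
    refine LinearMap.ext fun w => Subtype.ext ?_
    have key : ∀ m : ℕ, ∀ w : fx (g ^ p), ((((g ^ r).restrict hinv - 1) ^ m) w : V) = ((g ^ r - 1) ^ m) w := by
      intro m
      induction m with
      | zero => intro w; rfl
      | succ m ih =>
        intro w
        rw [pow_succ, pow_succ, Module.End.mul_apply, Module.End.mul_apply, ih]
        rfl
    rw [key, hz]; rfl
  apply hy1
  refine LinearMap.ext fun v => ?_
  have h3 : v ∈ fx (g ^ p) ⊔ cm (g ^ p) := by rw [(H951.isCompl_fx_cm hx.ne0 hx.pow).sup_eq_top]; trivial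
  obtain ⟨a, ha, b, hb, rfl⟩ := Submodule.mem_sup.1 h3
  rw [map_add, H951.mem_fx.1 (hle hb)]
  have h4 := congrArg Subtype.val (LinearMap.congr_fun hone ⟨a, ha⟩)
  have h5 : (g ^ r) a = a := h4
  rw [h5]; rfl

end

end Cfsg.Agent.H938.Sax
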