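import Cfsg.Agent.H938.Sax.ASRows

/-!
# `PSL_{n-1}(q²)` is not a subgroup of `PΩ⁺_{2n}(q)`, `n` even; rows for `PΩ⁺_{2n}(q)`, `n ≠ 4` (helper938)
-/

set_option autoImplicit false
set_option linter.style.haveILetI false

namespace Cfsg.Agent.H938.Sax

open Module QuadraticMap Cfsg Cfsg.Agent.H884.El Cfsg.Agent.OrdDiv Cfsg.Agent.H436 Cfsg.Agent.H915.GN
  Cfsg.Agent.H264.GN Cfsg.Agent.H264.FKS Cfsg.Agent.LieClassical.OrthCore Cfsg.Agent.H955 Cfsg.Agent.H954.TSing
  Cfsg.Agent.LieClassical.OmegaReindex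
open Cfsg.Agent.H951 (fx cm Inv)

universe u v

section

variable {F : Type u} [Field F] [Fintype F] {V : Type v} [AddCommGroup V] [Module F V] [FiniteDimensional F V]
  {Q : QuadraticForm F V} {g : Module.End F V} {e r s : ℕ}

/-- no isometry of order `r s`, `ord_r(q) = e` odd, `ord_s(q) = 2 e`, in dimension `< 4 e`. -/
theorem no_rs (he : Odd e) (he3 : 3 ≤ e) (hr : PP (Nat.card F) e r) (hs : PP (Nat.card F) (2 * e) s)
    (hQ : Nondeg Q) (hg : ∀ v, Q (g v) = Q v) (ho : orderOf g = r * s) (hd : finrank F V < 4 * e) : False := by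
  have hgrs : g ^ (r * s) = 1 := by rw [← ho]; exact pow_orderOf_eq_one g
  have hr0 := hr.prime.pos
  have hs0 := hs.prime.pos
  have hx : Iso Q (g ^ r) s := Iso.mk' hs (by omega) (by rw [← pow_mul, hgrs]) (iso_pow hg r)
  have hy : Iso Q (g ^ s) r := Iso.mk' hr (by omega) (by rw [← pow_mul, mul_comm, hgrs]) (iso_pow hg s)
  have hx1 : g ^ r ≠ 1 := by
    intro h
    have h0 := orderOf_dvd_of_pow_eq_one h
    rw [ho] at h0
    have h1 := Nat.le_of_dvd hr0 h0
    have h2 : r * 2 ≤ r * s := Nat.mul_le_mul_left r hs.prime.two_le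
    omega
  have hy1 : g ^ s ≠ 1 := by
    intro h
    have h0 := orderOf_dvd_of_pow_eq_one h
    rw [ho] at h0
    have h1 := Nat.le_of_dvd hs0 h0
    have h2 : 2 * s ≤ r * s := Nat.mul_le_mul_right s hr.prime.two_le
    omega
  have hxy : g ^ s * g ^ r = g ^ r * g ^ s := by rw [← pow_add, ← pow_add, add_comm]
  obtain ⟨h1, h2⟩ := hx.even_case hQ hx1 hs (even_two_mul e) (by omega)
  obtain ⟨h3, h4, -⟩ := hy.odd_case hQ hy1 hr he hd
  have hinv : Inv (g ^ r) (cm (g ^ s)) := Typ.inv_cm_of_comm hxy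
  rcases hx.le_or hs h1 hinv with h5 | h5
  · have h6 := Submodule.finrank_mono h5
    have h7 := hx.finrank_add
    omega
  · have h6 : cm (g ^ r) = cm (g ^ s) := Submodule.eq_of_le_of_finrank_eq h5 (by omega)
    rw [h6] at h2
    exact h2 h4

end

theorem plus_no_rs {F : Type} [Field F] [Fintype F] {n r s : ℕ} (hn : 4 ≤ n) (he : Odd (n - 1))
    (hr : PP (Nat.card F) (n - 1) r) (hs : PP (Nat.card F) (2 * (n - 1)) s)
    (m : POmega F (quadFormPlus n F)) : orderOf m ≠ r * s := by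
  have h : ∀ m : POmega F (⇑(quadPlus n F)), orderOf m ≠ r * s := fun m ho => by
    obtain ⟨g, h1, h2⟩ := exists_lin_iso (data_plus hn) ((hr.odd (by omega)).mul (hs.odd (by omega))) ho
    exact no_rs he (by omega) hr hs (nondeg_iff.2 quadPlus_nondegenerate) h1 h2
      (by rw [finrank_V, card_plus]; omega)
  rw [coe_quadPlus] at h
  exact h m

theorem pp_of_prim {q e r : ℕ} (h : Prim q e r) : PP q e r := ⟨h.prime, orderOf_of_prim h⟩

variable {p f n : ℕ}

/-- `PSL_{n-1}(q²)` is not a subgroup of `PΩ⁺_{2n}(q)`, `n` even. -/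
theorem not_psl_oplus {T : Type*} [Group T] (hp : p.Prime) (hf : 1 ≤ f) (hn : 4 ≤ n) (he : n % 2 = 0)
    (hex1 : ¬ (p = 2 ∧ f * (2 * (n - 1)) = 6)) (hT : IsNamed (.oplus n (p ^ f)) T) {R : Subgroup T}
    {S : Subgroup R} (hS : IsNamed (.psl (n - 1) (p ^ (2 * f))) S) : False := by
  obtain ⟨F, _, _, hF, ⟨e⟩⟩ := hT.real
  obtain ⟨F', _, _, hF', ⟨e'⟩⟩ := hS.real
  have ho : Odd (n - 1) := by
    rw [Nat.odd_iff]; omega
  obtain ⟨s, hs⟩ := exists_prim (q := p) (e := f * (2 * (n - 1))) hp.two_le (by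
    have := Nat.mul_le_mul hf (show 6 ≤ 2 * (n - 1) by omega)
    omega) hex1
  obtain ⟨r, hr⟩ : ∃ r, Prim (p ^ f) (n - 1) r := by
    by_cases h6 : p = 2 ∧ f * (n - 1) = 6
    · obtain ⟨rfl, h6⟩ := h6
      have hn4 : n = 4 := by
        have h1 : n - 1 ∣ 6 := ⟨f, by rw [← h6, mul_comm]⟩
        have h2 := Nat.le_of_dvd (by norm_num) h1
        have : n ≤ 7 := by omega
        interval_cases n <;> first | rfl | (exfalso; revert h1 ho; decide)
      subst hn4
      have hf2 : f = 2 := by omega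
      subst hf2
      exact ⟨7, by norm_num; exact prim_four_three⟩
    · obtain ⟨r, hr⟩ := exists_prim (q := p) (e := f * (n - 1)) hp.two_le (by
        have := Nat.mul_le_mul hf (show 3 ≤ n - 1 by omega)
        omega) h6
      exact ⟨r, prim_pow hf hr⟩
  have hs' := prim_pow hf hs
  obtain ⟨x, -, hx⟩ := mem_range_of_le e' (psl_adj hp hf hF' (by omega) le_rfl hr hs')
  refine plus_no_rs (F := F) hn ho (r := r) (s := s) ?_ ?_ (e x) ?_
  · rw [Nat.card_eq_fintype_card, hF]; exact pp_of_prim hr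
  · rw [Nat.card_eq_fintype_card, hF]; exact pp_of_prim hs'
  · rw [← hx]
    exact orderOf_injective e.toMonoidHom e.injective x

section rows

variable {g : Grp} {T : Type u} [Group T] [Finite T] {R : Subgroup T}

/-- `T = PΩ⁺_{2n}(q)`, the full subgroups. -/
theorem full_oplus' (hT : IsNamed (.oplus n (p ^ f)) T) (hp : p.Prime) (hf : 1 ≤ f) (hn : 4 ≤ n)
    (hex1 : ¬ (p = 2 ∧ f * (2 * (n - 1)) = 6)) (hex2 : ¬ (p = 2 ∧ f * (2 * (n - 2)) = 6)) (hR : R ≠ ⊤)
    (hfull : Full T R) (S : Subgroup R) [S.Normal] [IsSimpleGroup S] (hna : ¬ IsMulCommutative S)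
    (hC : Subgroup.centralizer (S : Set R) = ⊥) (hS : IsNamed g S) (hch : HasChar p g) :
    n % 2 = 0 ∧ (g = .psp (n - 1) (p ^ f) ∨ g = .oodd (n - 1) (p ^ f)) := by
  obtain ⟨h1, h2⟩ := full_oplus hT hp hf hn hex1 hex2 hR hfull S hna hC hS hch
  refine ⟨h1, ?_⟩
  rcases h2 with rfl | h2
  · exact (not_psl_oplus hp hf hn h1 hex1 hT hS).elim
  · exact h2

/-- **`T = PΩ⁺_{2n}(q)`, `n ≥ 5`.** -/
theorem charp_oplus_gap (hT : IsNamed (.oplus n (p ^ f)) T) (hp : p.Prime) (hf : 1 ≤ f) (hn : 5 ≤ n)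
    (hex2 : ¬ (p = 2 ∧ f * (2 * (n - 2)) = 6)) (hR : R ≠ ⊤) (S : Subgroup R) [S.Normal] [IsSimpleGroup S]
    (hna : ¬ IsMulCommutative S) (hC : Subgroup.centralizer (S : Set R) = ⊥) (hS : IsNamed g S)
    (hch : HasChar p g) : OrdGap T R := by
  by_cases hfull : Full T R
  · obtain ⟨h1, h2⟩ := full_oplus' hT hp hf (by omega) (fun h => by
      obtain ⟨-, h⟩ := h
      have h3 : f * 8 ≤ f * (2 * (n - 1)) := Nat.mul_le_mul_left f (by omega)
      omega) hex2 hR hfull S hna hC hS hch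
    obtain ⟨k, rfl⟩ : ∃ k, n = 2 * k := ⟨n / 2, by omega⟩
    obtain ⟨N, hN⟩ := exists_numP (k := k) hp hf (by omega)
    rcases h2 with rfl | rfl
    · exact ordGap_of_blk (exists_oplus (by omega) hN hT) S hC hN.2 (blk_psp hp hf (by omega) hN hS)
    · exact ordGap_of_blk (exists_oplus (by omega) hN hT) S hC hN.2 (blk_oodd hp hf (by omega) hN hS)
  · exact (pgap_of_not_full hfull).ordGap

end rows

end Cfsg.Agent.H938.Sax
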